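import Cfsg.Agent.H15.SymBlocks.Main
import Cfsg.Agent.BlockBasic.CoverDefect
import Mathlib.GroupTheory.SpecificGroups.Alternating.KleinFour

/-!
# The sectional rank of a defect group in the alternating group
-/

set_option linter.unusedSectionVars false

namespace Cfsg.Agent.H15.SymBlocks

open Finset
open Cfsg.Agent

variable {σ : Type} [Fintype σ] [DecidableEq σ] {N p : ℕ}

/-- The weight is bounded by the sectional rank of a defect group of a block below. -/
theorem weight_le_sectional [hp : Fact p.Prime] {M : Ideal Cfsg.AlgInt}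
    (hM : Cfsg.IsPModular p M) (hN : Fintype.card σ ≤ N) {γ : Fin N → ℕ}
    (hγ : γ ∈ tup N (lvl N (Fintype.card σ))) (hi : Function.Injective γ)
    {B : Set (Cfsg.IrrCharacter (Equiv.Perm σ))} (hB : Cfsg.IsPBlock M B)
    (hBκ : B ⊆ resSet σ N p (rcnt p γ)) {P : Subgroup (Equiv.Perm σ)}
    (hP : Cfsg.IsDefectGroup p M B P) {D : Subgroup (alternatingGroup σ)}
    (hPD : P ⊓ alternatingGroup σ = D.map (alternatingGroup σ).subtype) (hD1 : D ≠ ⊥)
    (hDp : IsPGroup p D) {s : ℕ} (hs : Cfsg.SectionalPRankLE p s D) :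
    0 < wt p γ ∧ 1 ≤ s ∧ (p ≠ 2 → wt p γ ≤ s) ∧ (p = 2 → wt p γ ≤ s + 1) ∧
      (p = 2 → wt p γ = 2 → 2 ≤ s) := by
  classical
  have hs1 : 1 ≤ s := by
    obtain ⟨k, hk⟩ := hDp.exists_card_eq
    have hk0 : k ≠ 0 := fun e => hD1 (Subgroup.eq_bot_of_card_eq D (by rw [hk, e, pow_zero]))
    obtain ⟨x, hx⟩ := exists_prime_orderOf_dvd_card' (G := D) p (hk ▸ dvd_pow_self p hk0)
    have h : p ≤ p ^ s := by
      refine le_trans (le_of_eq ?_) (card_le_of_sectional hs
        (A := Subgroup.zpowers (x : alternatingGroup σ)) (Subgroup.zpowers_le.2 x.2) ?_ ?_)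
      · rw [Nat.card_zpowers, Subgroup.orderOf_coe, hx]
      · rintro _ ⟨i, rfl⟩ _ ⟨j, rfl⟩
        exact (Commute.refl (x : alternatingGroup σ)).zpow_zpow i j
      · rintro _ ⟨i, rfl⟩
        show ((x : alternatingGroup σ) ^ i) ^ p = 1
        rw [← zpow_natCast, zpow_comm, zpow_natCast,
          show (x : alternatingGroup σ) ^ p = 1 by
            rw [← orderOf_dvd_iff_pow_eq_one, Subgroup.orderOf_coe, hx], one_zpow]
    by_contra hc
    rw [show s = 0 by omega, pow_zero] at h
    have := hp.out.two_le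
    omega
  have hP1 : P ≠ ⊥ := by
    rintro rfl
    rw [bot_inf_eq, eq_comm, Subgroup.map_eq_bot_iff, Subgroup.ker_subtype] at hPD
    exact hD1 (le_bot_iff.1 hPD)
  obtain ⟨hw, z, E, hz, hsupp, hE, hle, hQ, hcard⟩ :=
    exists_elementary_full hM hN hγ hi hB hBκ hP hP1
  obtain ⟨c, hc⟩ := H35.defectGroup_le_conj hM hB hP hE
  have hzp : z ^ p = 1 := by rw [← hz, pow_orderOf_eq_one]
  have key : ∀ K : Subgroup (Equiv.Perm σ), K ≤ E → K ≤ alternatingGroup σ →
      (∀ a ∈ K, ∀ b ∈ K, a * b = b * a) → (∀ a ∈ K, a ^ p = 1) → Nat.card K ≤ p ^ s := by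
    intro K hKE hKA hKc hKp
    set f := (MulAut.conj c⁻¹).toMonoidHom with hf
    have hKD : (K.map f).subgroupOf (alternatingGroup σ) ≤ D := by
      intro x hx
      obtain ⟨k, hk, hkx⟩ := Subgroup.mem_subgroupOf.1 hx
      have hxP : (x : Equiv.Perm σ) ∈ P := by
        obtain ⟨d, hd, hdk⟩ := hc (hKE hk)
        rw [← hkx, ← hdk, hf]
        simpa [mul_assoc] using hd
      have hxQ : (x : Equiv.Perm σ) ∈ P ⊓ alternatingGroup σ := ⟨hxP, x.2⟩
      rw [hPD] at hxQ
      obtain ⟨d, hd, hdx⟩ := hxQ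
      rwa [← Subtype.ext hdx]
    have hKfA : K.map f ≤ alternatingGroup σ := by
      rintro _ ⟨k, hk, rfl⟩
      rw [Equiv.Perm.mem_alternatingGroup] at *
      have := Equiv.Perm.mem_alternatingGroup.1 (hKA hk)
      simp [hf, Equiv.Perm.sign_inv, this]
    rw [← Subgroup.card_map_of_injective (K := K) (f := f) (MulAut.conj c⁻¹).injective,
      ← Nat.card_congr (Subgroup.subgroupOfEquivOfLe hKfA).toEquiv]
    refine card_le_of_sectional hs hKD ?_ ?_
    · intro a ha b hb
      obtain ⟨a', ha', e⟩ := Subgroup.mem_subgroupOf.1 ha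
      obtain ⟨b', hb', e'⟩ := Subgroup.mem_subgroupOf.1 hb
      refine Subtype.ext ?_
      rw [Subgroup.coe_mul, Subgroup.coe_mul, ← e, ← e', ← map_mul, hKc a' ha' b' hb', map_mul]
    · intro a ha
      obtain ⟨a', ha', e⟩ := Subgroup.mem_subgroupOf.1 ha
      refine Subtype.ext ?_
      rw [Subgroup.coe_pow, ← e, ← map_pow, hKp a' ha', map_one, Subgroup.coe_one]
  refine ⟨hw, hs1, fun hp2 => ?_, fun hp2 => ?_, fun hp2 hw2 => ?_⟩
  · refine (Nat.pow_le_pow_iff_right hp.out.one_lt).1 (hcard.trans (key _ hle ?_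
      (fun a ha b hb => cycGroup_comm ha hb) fun a ha => cycGroup_pow hzp ha))
    intro g hg
    rw [Equiv.Perm.mem_alternatingGroup]
    have h1 : Equiv.Perm.sign g ^ p = 1 := by rw [← map_pow, cycGroup_pow hzp hg, map_one]
    obtain ⟨k, hk⟩ := hp.out.odd_of_ne_two hp2
    rwa [hk, pow_succ, pow_mul, sq, Int.units_mul_self, one_pow, one_mul] at h1
  · subst hp2
    set f : cycGroup z →* ℤˣ := Equiv.Perm.sign.comp (cycGroup z).subtype with hf
    have h1 : Nat.card (cycGroup z) ≤ Nat.card (f.ker.map (cycGroup z).subtype) * 2 := by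
      rw [Subgroup.card_map_of_injective (cycGroup z).subtype_injective,
        ← Subgroup.card_mul_index f.ker, Subgroup.index_ker]
      refine Nat.mul_le_mul_left _ ((Subgroup.card_le_card_group _).trans ?_)
      rw [Nat.card_eq_fintype_card, Fintype.card_units_int]
    have h2 : Nat.card (f.ker.map (cycGroup z).subtype) ≤ 2 ^ s := by
      refine key _ ?_ ?_ ?_ ?_
      · rintro _ ⟨g, -, rfl⟩
        exact hle g.2
      · rintro _ ⟨g, hg, rfl⟩
        exact Equiv.Perm.mem_alternatingGroup.2 hg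
      · rintro _ ⟨g, -, rfl⟩ _ ⟨h, -, rfl⟩
        exact cycGroup_comm g.2 h.2
      · rintro _ ⟨g, -, rfl⟩
        exact cycGroup_pow hzp g.2
    refine (Nat.pow_le_pow_iff_right (le_refl 2)).1 (hcard.trans (h1.trans ?_))
    rw [pow_succ]
    exact Nat.mul_le_mul_right 2 h2
  · subst hp2
    set P0 : σ → Prop := fun a => z a ≠ a with hP0
    set τ := {a // P0 a}
    have h4 : Nat.card τ = 4 := by
      rw [Nat.card_eq_fintype_card, Fintype.card_subtype,
        show (univ.filter fun a => P0 a) = z.support from rfl, hsupp, hw2]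
    set ι : alternatingGroup τ →* Equiv.Perm σ :=
      (join P0).comp ((MonoidHom.inl _ _).comp (alternatingGroup τ).subtype) with hι
    have hinj : Function.Injective ι := fun a b h =>
      Subtype.ext (Prod.ext_iff.1 (join_injective P0 h)).1
    have hV := alternatingGroup.kleinFour_isKleinFour (α := τ) h4
    set K := (alternatingGroup.kleinFour τ).map ι with hK
    have hcomm : ∀ a ∈ K, ∀ b ∈ K, a * b = b * a := by
      rintro _ ⟨a, ha, rfl⟩ _ ⟨b, hb, rfl⟩
      rw [← map_mul, ← map_mul]
      congr 1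
      exact congrArg Subtype.val (mul_comm_of_exponent_two hV.exponent_two (⟨a, ha⟩ : alternatingGroup.kleinFour τ) ⟨b, hb⟩)
    have hexp : ∀ a ∈ K, a ^ 2 = 1 := by
      rintro _ ⟨a, ha, rfl⟩
      rw [← map_pow, ← map_one ι]
      congr 1
      have h := Monoid.pow_exponent_eq_one (⟨a, ha⟩ : alternatingGroup.kleinFour τ)
      rw [hV.exponent_two] at h
      exact congrArg Subtype.val h
    have hzj : join P0 (z.subtypePerm (p := P0) (fun a => z.injective.ne_iff), 1) = z := by
      have hz1 : z.subtypePerm (p := fun a => ¬ P0 a) (fun a => not_congr z.injective.ne_iff) = 1 := by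
        ext a
        simpa [hP0] using not_not.1 a.2
      rw [← hz1]
      exact join_subtypePerm P0 (c := z) fun a => z.injective.ne_iff
    have hzK : z ∈ K := by
      set zt := z.subtypePerm (p := P0) (fun a => z.injective.ne_iff) with hzt
      have ht2 : zt ^ 2 = 1 := by
        apply Equiv.ext
        intro a
        apply Subtype.ext
        rw [Equiv.Perm.subtypePerm_pow]
        simp [hzp]
      have hfull : zt.support = univ := by
        ext a
        simp only [Equiv.Perm.mem_support, Finset.mem_univ, iff_true]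
        intro h
        exact a.2 (congrArg Subtype.val h)
      have hzt1 : orderOf zt = 2 := by
        refine orderOf_eq_prime ht2 fun e => ?_
        rw [e, Equiv.Perm.support_one, eq_comm, Finset.univ_eq_empty_iff] at hfull
        rw [Nat.card_eq_fintype_card] at h4
        have := hfull
        simp [Fintype.card_eq_zero] at h4
      obtain ⟨m, hm⟩ := Equiv.Perm.cycleType_prime_order (σ := zt) (hzt1.symm ▸ Nat.prime_two)
      have hsum := Equiv.Perm.sum_cycleType zt
      rw [hm, hzt1, Multiset.sum_replicate, hfull, Finset.card_univ, ← Nat.card_eq_fintype_card,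
        h4, smul_eq_mul] at hsum
      have hm1 : m = 1 := by omega
      have hct : zt.cycleType = {2, 2} := by rw [hm, hm1, hzt1]; rfl
      have hA : zt ∈ alternatingGroup τ := by
        rw [Equiv.Perm.mem_alternatingGroup, Equiv.Perm.sign_of_cycleType, hct]
        decide
      exact ⟨⟨zt, hA⟩, Subgroup.subset_closure hct, hzj⟩
    have hKC : K ≤ CZ z := fun a ha =>
      Subgroup.mem_centralizer_singleton_iff.2 (hcomm a ha z hzK)
    have hnorm : ∀ c ∈ CZ z, ∀ q ∈ K, c * q * c⁻¹ ∈ K := by
      rintro c hc _ ⟨a, ha, rfl⟩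
      set cu := c.subtypePerm (p := P0) (pres_of_mem ⟨c, hc⟩) with hcu
      have hcj := join_subtypePerm P0 (c := c) (pres_of_mem ⟨c, hc⟩)
      have hA : cu * (a : Equiv.Perm τ) * cu⁻¹ ∈ alternatingGroup τ := by
        rw [Equiv.Perm.mem_alternatingGroup, map_mul, map_mul, map_inv,
          Equiv.Perm.mem_alternatingGroup.1 a.2, mul_one, mul_inv_cancel]
      refine ⟨⟨_, hA⟩, ?_, ?_⟩
      · rw [SetLike.mem_coe, ← SetLike.mem_coe, alternatingGroup.coe_kleinFour_of_card_eq_four h4]
        rw [SetLike.mem_coe, ← SetLike.mem_coe, alternatingGroup.coe_kleinFour_of_card_eq_four h4] at ha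
        rcases ha with ha | ha
        · left
          rw [Set.mem_singleton_iff] at ha ⊢
          subst ha
          ext1
          simp
        · right
          show (cu * (a : Equiv.Perm τ) * cu⁻¹).cycleType = {2, 2}
          rw [Equiv.Perm.cycleType_conj]
          exact ha
      · show join P0 (cu * (a : Equiv.Perm τ) * cu⁻¹, 1) = c * join P0 ((a : Equiv.Perm τ), 1) * c⁻¹
        conv_rhs => rw [← hcj]
        rw [← map_inv, ← map_mul, ← map_mul]
        congr 1
        refine Prod.ext ?_ (Equiv.ext fun x => Subtype.ext ?_)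
        · rfl
        · simp
    have hKA : K ≤ alternatingGroup σ := by
      rintro _ ⟨a, -, rfl⟩
      rw [Equiv.Perm.mem_alternatingGroup, hι, MonoidHom.comp_apply, MonoidHom.comp_apply,
        MonoidHom.inl_apply, join_apply, Equiv.Perm.sign_permCongr, Equiv.Perm.sign_sumCongr]
      simp [Equiv.Perm.mem_alternatingGroup.1 a.2]
    refine (Nat.pow_le_pow_iff_right (le_refl 2)).1 (le_trans (le_of_eq ?_)
      (key K (hQ K hKC (fun a => ⟨1, Subtype.ext (by simpa using hexp _ a.2)⟩) hnorm) hKA hcomm hexp))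
    rw [hK, Subgroup.card_map_of_injective hinj,
      alternatingGroup.kleinFour_card_of_card_eq_four h4]

end Cfsg.Agent.H15.SymBlocks
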