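import Cfsg.Agent.H15.SymBlocks.Construct

/-!
# Tuples of largest hook sum and of hook sum one less
-/

set_option linter.unusedSectionVars false

namespace Cfsg.Agent.H15.SymBlocks

open Finset
open scoped Nat

variable {σ : Type} [Fintype σ] [DecidableEq σ] {N p : ℕ}

theorem mirror_zero_two (hN : 0 < N) : mirror N 2 0 = 1 := by
  simp only [mirror]
  omega

/-- A tuple whose first two runners differ in excess is not self-complementary. -/
theorem not_isSelfComp_of_exc (hN : 0 < N) {γ : Fin N → ℕ} (hi : Function.Injective γ)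
    (h : exc (runner 2 γ 1) ≠ exc (runner 2 γ 0)) : ¬ IsSelfComp γ := by
  intro hs
  have h1 := exc_runner_mirror (p := 2) (r := 0) (by norm_num) (by omega) hi hs (by norm_num)
  rw [mirror_zero_two hN] at h1
  exact h h1

/-- The largest hook sum is attained, away from self-complementary tuples. -/
theorem exists_hookVal_max (hp : p.Prime) (hN : Fintype.card σ ≤ N) {γ₀ : Fin N → ℕ}
    (hγ₀ : γ₀ ∈ tup N (lvl N (Fintype.card σ))) (hi₀ : Function.Injective γ₀) :
    ∃ γ ∈ monoTup σ N, rcnt p γ = rcnt p γ₀ ∧ wt p γ = wt p γ₀ ∧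
      hookVal p (Fintype.card σ) γ = wt p γ₀ + ((wt p γ₀)!).factorization p ∧
      (p = 2 → 0 < wt p γ₀ → 0 < N → ¬ IsSelfComp γ) := by
  classical
  set w := wt p γ₀
  obtain ⟨γ, hγ, hr, hw, he, hv⟩ := exists_tuple_of_excs hp hN hγ₀ hi₀
    (fun r => if r = 0 then w else 0) (by
      rw [Finset.sum_ite_eq' (Finset.range p) 0, if_pos (Finset.mem_range.2 hp.pos)])
  refine ⟨γ, hγ, hr, hw, ?_, fun h2 hw0 hN0 => ?_⟩
  · rw [hv, Finset.sum_eq_single 0 (fun r _ hr0 => ?_) (by simp [hp.pos])]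
    · simp [w]
    · simp [hr0]
  · subst h2
    refine not_isSelfComp_of_exc hN0 (mem_monoTup.1 hγ).2.injective ?_
    rw [he 1 one_lt_two, he 0 two_pos, if_neg one_ne_zero, if_pos rfl]
    omega

/-- For odd `p` some tuple has hook sum one less than the largest. -/
theorem exists_hookVal_pred_odd (hp : p.Prime) (hp3 : 3 ≤ p) (hN : Fintype.card σ ≤ N)
    {γ₀ : Fin N → ℕ} (hγ₀ : γ₀ ∈ tup N (lvl N (Fintype.card σ))) (hi₀ : Function.Injective γ₀)
    (hw : p ≤ wt p γ₀) :
    ∃ γ ∈ monoTup σ N, rcnt p γ = rcnt p γ₀ ∧ wt p γ = wt p γ₀ ∧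
      hookVal p (Fintype.card σ) γ + 1 = wt p γ₀ + ((wt p γ₀)!).factorization p := by
  classical
  set w := wt p γ₀
  obtain ⟨a, b, c, hsum, hval⟩ : ∃ a b c, a + b + c = w ∧ (w !).factorization p =
      (a !).factorization p + (b !).factorization p + (c !).factorization p + 1 := by
    by_cases hc : (w / p) % p = 0 ∨ w % p + 1 < p
    · obtain ⟨e, -, hew, he⟩ := exists_splitting hp w hw hc
      exact ⟨e, w - e, 0, by omega, by rw [he, Nat.factorial_zero, Nat.factorization_one]; simp⟩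
    · push Not at hc
      have := Nat.mod_lt w hp.pos
      exact exists_split_three hp hp3 hw hc.1 (by omega)
  obtain ⟨γ, hγ, hr, hw', -, hv⟩ := exists_tuple_of_excs hp hN hγ₀ hi₀
    (fun r => if r = 0 then a else if r = 1 then b else if r = 2 then c else 0) (by
      rw [← Finset.sum_subset (s₁ := Finset.range 3)
        (Finset.range_subset_range.2 hp3) (fun r _ hr => ?_)]
      · simp [Finset.sum_range_succ]
        omega
      · rw [Finset.mem_range] at hr
        simp [show r ≠ 0 by omega, show r ≠ 1 by omega, show r ≠ 2 by omega])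
  refine ⟨γ, hγ, hr, hw', ?_⟩
  rw [hv, ← Finset.sum_subset (s₁ := Finset.range 3)
    (Finset.range_subset_range.2 hp3) (fun r _ hr => ?_)]
  · simp [Finset.sum_range_succ]
    omega
  · rw [Finset.mem_range] at hr
    simp [show r ≠ 0 by omega, show r ≠ 1 by omega, show r ≠ 2 by omega]

/-- For `p = 2` some tuple that is not self-complementary has hook sum one less than the largest. -/
theorem exists_hookVal_pred_two (hN : Fintype.card σ ≤ N) (hN0 : 0 < N) {γ₀ : Fin N → ℕ}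
    (hγ₀ : γ₀ ∈ tup N (lvl N (Fintype.card σ))) (hi₀ : Function.Injective γ₀)
    (hw : 3 ≤ wt 2 γ₀) :
    ∃ γ ∈ monoTup σ N, rcnt 2 γ = rcnt 2 γ₀ ∧ wt 2 γ = wt 2 γ₀ ∧ ¬ IsSelfComp γ ∧
      hookVal 2 (Fintype.card σ) γ + 1 = wt 2 γ₀ + ((wt 2 γ₀)!).factorization 2 := by
  classical
  have hp := Nat.prime_two
  set w := wt 2 γ₀
  set b := lvl N (Fintype.card σ) + N + 1 with hb
  have hk : ∀ r < 2, w ≤ rcnt 2 γ₀ r := fun r hr => wt_le_rcnt two_pos hγ₀ hi₀ hN hr
  have hbd : ∀ r, rcnt 2 γ₀ r + w < 2 ^ b := fun r => rcnt_add_lt hp hN hγ₀ hi₀ r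
  have build : ∀ F₀ F₁ : Finset ℕ, F₀.card = rcnt 2 γ₀ 0 → F₁.card = rcnt 2 γ₀ 1 →
      exc F₀ + exc F₁ = w → ∃ γ ∈ monoTup σ N, rcnt 2 γ = rcnt 2 γ₀ ∧ wt 2 γ = w ∧
        runner 2 γ 0 = F₀ ∧ runner 2 γ 1 = F₁ ∧
        hookVal 2 (Fintype.card σ) γ = w + (hsum 2 b F₀ + hsum 2 b F₁) := by
    intro F₀ F₁ h0 h1 he
    obtain ⟨γ, hγ, hr, hw', hrun⟩ := exists_tuple_of_family (σ := σ) two_pos hγ₀ hi₀
      (F := fun r => if r = 0 then F₀ else F₁)
      (fun r hr => by interval_cases r <;> simp [h0, h1])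
      (by
        rw [show (2 : ℕ) = 1 + 1 from rfl, Finset.sum_range_succ, Finset.sum_range_one, if_pos rfl,
          if_neg one_ne_zero]
        exact he)
    refine ⟨γ, hγ, hr, hw', by rw [hrun 0 two_pos]; simp, by rw [hrun 1 one_lt_two]; simp, ?_⟩
    rw [hookVal_eq hp (mem_monoTup.1 hγ).2.injective, hw', Finset.sum_range_succ,
      Finset.sum_range_one, hrun 0 two_pos, hrun 1 one_lt_two]
    simp [hb, w]
  by_cases hc : (w / 2) % 2 = 0 ∨ w % 2 + 1 < 2
  · obtain ⟨e, he0, hew, he⟩ := exists_splitting hp w (by omega) hc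
    obtain ⟨e₀, e₁, hes, he1, hval⟩ : ∃ e₀ e₁, e₀ + e₁ = w ∧ 2 ≤ e₁ ∧
        (w !).factorization 2 = (e₀ !).factorization 2 + (e₁ !).factorization 2 + 1 := by
      rcases Nat.lt_or_ge e 2 with h | h
      · exact ⟨e, w - e, by omega, by omega, he⟩
      · exact ⟨w - e, e, by omega, h, by omega⟩
    have hk0 := hk 0 two_pos
    have hk1 := hk 1 one_lt_two
    obtain ⟨k₀, hk0'⟩ : ∃ k, rcnt 2 γ₀ 0 = k + 1 := ⟨rcnt 2 γ₀ 0 - 1, by omega⟩
    obtain ⟨k₁, hk1'⟩ : ∃ k, rcnt 2 γ₀ 1 = k + 1 := ⟨rcnt 2 γ₀ 1 - 1, by omega⟩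
    have b0 := hbd 0
    have b1 := hbd 1
    set R₀ := rowSet k₀ e₀
    set R₁ := rowSet k₁ e₁
    set C₁ := colSet (k₁ + 1 - e₁) e₁
    set L := rlen N 2 0
    set flip₀ := (Finset.range L).filter fun q => L - 1 - q ∉ R₀
    have hne : R₁ ≠ C₁ := by
      intro h
      have h1 : k₁ + e₁ ∈ R₁ := Finset.mem_insert_self _ _
      rw [h] at h1
      simp only [C₁, colSet, Finset.mem_erase, Finset.mem_range] at h1
      omega
    set F₁ := if R₁ = flip₀ then C₁ else R₁ with hF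
    have hFne : F₁ ≠ flip₀ := by
      rw [hF]
      split_ifs with h
      · exact fun e' => hne (h.trans e'.symm)
      · exact h
    have hFc : F₁.card = rcnt 2 γ₀ 1 ∧ exc F₁ = e₁ ∧ hsum 2 b F₁ = (e₁ !).factorization 2 := by
      rw [hF]
      split_ifs
      · exact ⟨by rw [card_colSet]; omega, exc_colSet _ _,
          hsum_colSet hp (by omega) (by omega)⟩
      · exact ⟨by rw [card_rowSet]; omega, exc_rowSet _ _,
          hsum_rowSet hp (by omega) (by omega)⟩
    obtain ⟨γ, hγ, hr, hw', hr0, hr1, hv⟩ := build R₀ F₁ (by rw [card_rowSet]; omega) hFc.1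
      (by rw [exc_rowSet, hFc.2.1, hes])
    refine ⟨γ, hγ, hr, hw', fun hs => hFne ?_, ?_⟩
    · have h1 := runner_mirror (p := 2) (r := 0) (by norm_num) (by omega)
        (mem_monoTup.1 hγ).2.injective hs (by norm_num)
      rw [mirror_zero_two hN0, hr0, hr1] at h1
      exact h1
    · rw [hv, hFc.2.2, hsum_rowSet hp (by omega) (by omega)]
      omega
  · push Not at hc
    have hk0 := hk 0 two_pos
    have b0 := hbd 0
    have b1 := hbd 1
    have hodd : w % 4 = 3 := by omega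
    obtain ⟨hexc, hcard⟩ := exc_hookSet (a := rcnt 2 γ₀ 0 - 2) (w := w) (by omega)
    obtain ⟨γ, hγ, hr, hw', hr0, hr1, hv⟩ := build (hookSet (rcnt 2 γ₀ 0 - 2) w)
      (Finset.range (rcnt 2 γ₀ 1)) (by omega) (Finset.card_range _)
      (by rw [hexc]; simp [exc])
    refine ⟨γ, hγ, hr, hw', not_isSelfComp_of_exc hN0 (mem_monoTup.1 hγ).2.injective ?_, ?_⟩
    · rw [hr0, hr1, hexc]
      simp only [exc, Finset.card_range, Nat.sub_self]
      omega
    · have h1 := hsum_hookSet hp (b := b) (by omega) (a := rcnt 2 γ₀ 0 - 2) (w := w) (by omega)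
        (by omega)
      have hv1 : (w - 1).factorization 2 = 1 := by
        obtain ⟨m, hm⟩ : ∃ m, w - 1 = 2 * m ∧ ¬ 2 ∣ m := ⟨(w - 1) / 2, by omega, by omega⟩
        rw [hm.1, Nat.factorization_mul two_ne_zero (by omega), Finsupp.add_apply,
          hp.factorization_self, Nat.factorization_eq_zero_of_not_dvd hm.2]
      rw [hv1] at h1
      rw [hv, hsum_range hp (by omega) _ (by omega)]
      omega

end Cfsg.Agent.H15.SymBlocks
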