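import Cfsg.Agent.H15.SymBlocks.OneBlock
import Cfsg.Agent.H15.SymBlocks.HeightOne

/-!
# Defects and heights of blocks of symmetric groups

A residue set of weight `w` is a block of defect `w + v(w!)`, and its defect groups are the Sylow
subgroups of the symmetric group on `p * w` points.
-/

set_option linter.unusedSectionVars false

namespace Cfsg.Agent.H15.SymBlocks

open Finset
open scoped Nat
open Cfsg.Agent

variable {σ : Type} [Fintype σ] [DecidableEq σ] {N p : ℕ}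

theorem wt_eq_of_rcnt_eq (hp : 0 < p) {γ β : Fin N → ℕ} {n : ℕ} (hγ : γ ∈ tup N (lvl N n))
    (hβ : β ∈ tup N (lvl N n)) (h : rcnt p γ = rcnt p β) : wt p γ = wt p β := by
  have hq := qsum_eq_of_rcnt_eq hp h (c := 0) (by
    rw [mul_zero, add_zero, mem_tup.1 hγ, mem_tup.1 hβ])
  rw [wt, wt, h, hq, add_zero]

/-- The increasing tuple of a member of a residue set, with the valuation of its degree. -/
theorem exists_member_tuple (hp : p.Prime) (hN : Fintype.card σ ≤ N) {γ₀ : Fin N → ℕ}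
    (hγ₀ : γ₀ ∈ tup N (lvl N (Fintype.card σ))) {χ : Cfsg.IrrCharacter (Equiv.Perm σ)}
    (hχ : χ ∈ resSet σ N p (rcnt p γ₀)) :
    ∃ γ ∈ monoTup σ N, rcnt p γ = rcnt p γ₀ ∧ wt p γ = wt p γ₀ ∧
      (∃ ε : ℂ, ε * ε = 1 ∧ (chi N γ : Equiv.Perm σ → ℂ) = ε • (χ : Equiv.Perm σ → ℂ)) ∧
      (Cfsg.charDegree (χ : Equiv.Perm σ → ℂ)).factorization p + hookVal p (Fintype.card σ) γ =
        ((Fintype.card σ)!).factorization p := by
  obtain ⟨γ, hm, ε, hε, he⟩ := exists_tuple_of_irr hN χ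
  obtain ⟨hγ, hmono⟩ := mem_monoTup.1 hm
  have hr : rcnt p γ = rcnt p γ₀ := (mem_resSet_iff hγ hmono.injective hε he _).1 hχ
  exact ⟨γ, hm, hr, wt_eq_of_rcnt_eq hp.pos hγ hγ₀ hr, ⟨ε, hε, he⟩,
    factorization_charDegree hp hγ hmono hε he (by omega) fun j =>
      (lt_pow_of_mem_tup hp.one_lt hγ j).trans_le (Nat.pow_le_pow_right hp.pos (by omega))⟩

/-- The character of an increasing tuple. -/
theorem exists_member_of_tuple (hp : p.Prime) {γ₀ γ : Fin N → ℕ} (hm : γ ∈ monoTup σ N)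
    (hr : rcnt p γ = rcnt p γ₀) :
    ∃ χ ∈ resSet σ N p (rcnt p γ₀), (∃ ε : ℂ, ε * ε = 1 ∧
        (chi N γ : Equiv.Perm σ → ℂ) = ε • (χ : Equiv.Perm σ → ℂ)) ∧
      (Cfsg.charDegree (χ : Equiv.Perm σ → ℂ)).factorization p + hookVal p (Fintype.card σ) γ =
        ((Fintype.card σ)!).factorization p := by
  obtain ⟨hγ, hmono⟩ := mem_monoTup.1 hm
  obtain ⟨χ, ε, hε, he⟩ := exists_irr_of_injective (σ := σ) hγ hmono.injective
  exact ⟨χ, ⟨γ, hγ, hmono.injective, hr, ε, hε, he⟩, ⟨ε, hε, he⟩,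
    factorization_charDegree hp hγ hmono hε he (by omega) fun j =>
      (lt_pow_of_mem_tup hp.one_lt hγ j).trans_le (Nat.pow_le_pow_right hp.pos (by omega))⟩

theorem factorization_mul_factorial (hp : p.Prime) (w : ℕ) :
    ((p * w)!).factorization p = w + (w !).factorization p := by
  rw [Nat.factorization_factorial_mul hp, add_comm]

theorem defectGroup_ne_bot [hp : Fact p.Prime] {M : Ideal Cfsg.AlgInt} (hM : Cfsg.IsPModular p M)
    (hN : Fintype.card σ ≤ N) {γ₀ : Fin N → ℕ} (hγ₀ : γ₀ ∈ tup N (lvl N (Fintype.card σ)))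
    {B : Set (Cfsg.IrrCharacter (Equiv.Perm σ))} (hB : Cfsg.IsPBlock M B)
    (hBκ : B ⊆ resSet σ N p (rcnt p γ₀)) (hw : 0 < wt p γ₀) {D : Subgroup (Equiv.Perm σ)}
    (hD : Cfsg.IsDefectGroup p M B D) : D ≠ ⊥ := by
  intro hbot
  have h := H35.card_defectGroup hM hB hD
  rw [hbot, Subgroup.card_bot, eq_comm, Nat.pow_eq_one] at h
  have hd : Cfsg.blockDefect p B = 0 := h.resolve_left hp.out.ne_one
  rw [Cfsg.blockDefect, Nat.card_perm, Nat.card_eq_fintype_card] at hd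
  obtain ⟨χ, hχ⟩ := BlockBasic.isPBlock_nonempty hM hB
  obtain ⟨γ, hm, -, hw', -, hv⟩ := exists_member_tuple hp.out hN hγ₀ (hBκ hχ)
  have hle : sInf ((fun ψ : Cfsg.IrrCharacter (Equiv.Perm σ) =>
      (Cfsg.charDegree (ψ : Equiv.Perm σ → ℂ)).factorization p) '' B) ≤
      (Cfsg.charDegree (χ : Equiv.Perm σ → ℂ)).factorization p :=
    Nat.sInf_le ⟨χ, hχ, rfl⟩
  rw [hookVal_eq hp.out (mem_monoTup.1 hm).2.injective, hw'] at hv
  omega

theorem block_eq_resSet [hp : Fact p.Prime] {M : Ideal Cfsg.AlgInt} (hM : Cfsg.IsPModular p M)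
    (hN : Fintype.card σ ≤ N) {γ₀ : Fin N → ℕ} (hγ₀ : γ₀ ∈ tup N (lvl N (Fintype.card σ)))
    (hi₀ : Function.Injective γ₀) {B : Set (Cfsg.IrrCharacter (Equiv.Perm σ))}
    (hB : Cfsg.IsPBlock M B) (hBκ : B ⊆ resSet σ N p (rcnt p γ₀)) :
    B = resSet σ N p (rcnt p γ₀) :=
  eq_resSet hM hN hγ₀ hi₀
    (fun B' hB' hB'κ hw D hD => defectGroup_ne_bot hM hN hγ₀ hB' hB'κ hw hD) hB hBκ

/-- The defect of a residue set. -/
theorem blockDefect_resSet (hp : p.Prime) (hN : Fintype.card σ ≤ N) {γ₀ : Fin N → ℕ}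
    (hγ₀ : γ₀ ∈ tup N (lvl N (Fintype.card σ))) (hi₀ : Function.Injective γ₀) :
    Cfsg.blockDefect p (resSet σ N p (rcnt p γ₀)) = wt p γ₀ + ((wt p γ₀)!).factorization p := by
  obtain ⟨γ, hm, hr, hw, hv, -⟩ := exists_hookVal_max hp hN hγ₀ hi₀
  obtain ⟨χ, hχ, -, hχv⟩ := exists_member_of_tuple hp hm hr
  rw [Cfsg.blockDefect, Nat.card_perm, Nat.card_eq_fintype_card]
  have hmin : sInf ((fun ψ : Cfsg.IrrCharacter (Equiv.Perm σ) =>
      (Cfsg.charDegree (ψ : Equiv.Perm σ → ℂ)).factorization p) '' resSet σ N p (rcnt p γ₀)) =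
      (Cfsg.charDegree (χ : Equiv.Perm σ → ℂ)).factorization p := by
    refine le_antisymm (Nat.sInf_le ⟨χ, hχ, rfl⟩) (le_csInf ⟨_, χ, hχ, rfl⟩ ?_)
    rintro _ ⟨ψ, hψ, rfl⟩
    obtain ⟨β, hb, -, hbw, -, hψv⟩ := exists_member_tuple hp hN hγ₀ hψ
    have := hookVal_le hp (n := Fintype.card σ) (mem_monoTup.1 hb).1 (mem_monoTup.1 hb).2.injective
    rw [hbw] at this
    show _ ≤ (Cfsg.charDegree (ψ : Equiv.Perm σ → ℂ)).factorization p
    omega
  rw [hmin]
  omega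

/-- Defect groups are Sylow subgroups on `p * w` points. -/
theorem exists_sylow_defect [hp : Fact p.Prime] {M : Ideal Cfsg.AlgInt} (hM : Cfsg.IsPModular p M)
    (hN : Fintype.card σ ≤ N) {γ₀ : Fin N → ℕ} (hγ₀ : γ₀ ∈ tup N (lvl N (Fintype.card σ)))
    (hi₀ : Function.Injective γ₀) {B : Set (Cfsg.IrrCharacter (Equiv.Perm σ))}
    (hB : Cfsg.IsPBlock M B) (hBκ : B ⊆ resSet σ N p (rcnt p γ₀)) (hw : 0 < wt p γ₀)
    {P : Subgroup (Equiv.Perm σ)} (hP : Cfsg.IsDefectGroup p M B P) :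
    ∃ z : Equiv.Perm σ, Fintype.card {a // z a ≠ a} = p * wt p γ₀ ∧
      ∀ S : Sylow p (Equiv.Perm {a // z a ≠ a}), ∃ c : Equiv.Perm σ,
        P = ((S : Subgroup (Equiv.Perm {a // z a ≠ a})).map
          ((join fun a => z a ≠ a).comp (MonoidHom.inl _ _))).map (MulAut.conj c).toMonoidHom := by
  obtain ⟨-, z, E, hz, hsupp, hE, hle, -⟩ := exists_elementary_full hM hN hγ₀ hi₀ hB hBκ hP
    (defectGroup_ne_bot hM hN hγ₀ hB hBκ hw hP)
  have hcard : Fintype.card {a // z a ≠ a} = p * wt p γ₀ := by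
    rw [Fintype.card_subtype, show (univ.filter fun a => z a ≠ a) = z.support from rfl, hsupp]
  refine ⟨z, hcard, fun S => ?_⟩
  set J : Equiv.Perm {a // z a ≠ a} →* Equiv.Perm σ :=
    (join fun a => z a ≠ a).comp (MonoidHom.inl _ _)
  have hJ : Function.Injective J := fun a b h =>
    (Prod.ext_iff.1 (join_injective (fun a => z a ≠ a) h)).1
  obtain ⟨F, hF, hQF⟩ := exists_defectGroup_supp hM hN hB hBκ hE (hle (mem_cycGroup_self z)) hz
    S S.isPGroup'
  have hQc : Nat.card ((S : Subgroup (Equiv.Perm {a // z a ≠ a})).map J) =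
      p ^ Cfsg.blockDefect p B := by
    rw [Subgroup.card_map_of_injective hJ, S.card_eq_multiplicity, Nat.card_perm,
      Nat.card_eq_fintype_card, hcard, block_eq_resSet hM hN hγ₀ hi₀ hB hBκ,
      blockDefect_resSet hp.out hN hγ₀ hi₀, factorization_mul_factorial hp.out]
  have hQeq : (S : Subgroup (Equiv.Perm {a // z a ≠ a})).map J = F :=
    Subgroup.eq_of_le_of_card_ge hQF (by rw [hQc, H35.card_defectGroup hM hB hF])
  obtain ⟨c, hc⟩ := H35.defectGroup_le_conj hM hB hF hP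
  refine ⟨c, ?_⟩
  rw [hQeq]
  refine Subgroup.eq_of_le_of_card_ge hc (le_of_eq ?_)
  rw [Subgroup.card_map_of_injective (K := F) (f := (MulAut.conj c).toMonoidHom)
    (MulAut.conj c).injective, H35.card_defectGroup hM hB hF, H35.card_defectGroup hM hB hP]

end Cfsg.Agent.H15.SymBlocks
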