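import Cfsg.Agent.H15.SymBlocks.AltMain
import Cfsg.Agent.H15.SymBlocks.SymHeights
import Cfsg.Agent.H80.Clifford
import Cfsg.Agent.CharInduce.Induce

/-!
# Degrees of the characters in a block of an alternating group

Every member of a covering block lies over a member of the block below, with the same degree, or
twice the degree when it equals its sign twist.
-/

set_option linter.unusedSectionVars false

namespace Cfsg.Agent.H15.SymBlocks

open Finset
open scoped Nat ComplexConjugate
open Cfsg.Agent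

variable {σ : Type} [Fintype σ] [DecidableEq σ] {N p : ℕ}

theorem charDegree_twist (χ : Cfsg.IrrCharacter (Equiv.Perm σ)) :
    Cfsg.charDegree (twist χ : Equiv.Perm σ → ℂ) = Cfsg.charDegree (χ : Equiv.Perm σ → ℂ) := by
  have h : ((Cfsg.charDegree (twist χ : Equiv.Perm σ → ℂ) : ℕ) : ℂ) =
      (Cfsg.charDegree (χ : Equiv.Perm σ → ℂ) : ℕ) := by
    rw [← BlockBasic.apply_one_eq_charDegree, ← BlockBasic.apply_one_eq_charDegree, twist_apply,
      show sgnC (1 : Equiv.Perm σ) = 1 by simp [sgnC], one_mul]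
  exact_mod_cast h

/-- The degree of a constituent of a restriction. -/
theorem charDegree_below [Nontrivial σ] {χ : Cfsg.IrrCharacter (Equiv.Perm σ)}
    {θ : Cfsg.IrrCharacter (alternatingGroup σ)}
    (h : Cfsg.classInner (resA σ (χ : Equiv.Perm σ → ℂ)) (θ : alternatingGroup σ → ℂ) ≠ 0) :
    (twist χ ≠ χ → Cfsg.charDegree (θ : alternatingGroup σ → ℂ) =
        Cfsg.charDegree (χ : Equiv.Perm σ → ℂ)) ∧
      (twist χ = χ → 2 * Cfsg.charDegree (θ : alternatingGroup σ → ℂ) =
        Cfsg.charDegree (χ : Equiv.Perm σ → ℂ)) := by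
  classical
  refine ⟨fun hne => ?_, fun hself => ?_⟩
  · have h1 := congrFun (eq_resA_of_twist_ne hne h) 1
    rw [resA_apply, BlockBasic.apply_one_eq_charDegree θ, Subgroup.coe_one,
      BlockBasic.apply_one_eq_charDegree χ] at h1
    exact_mod_cast h1
  choose m hm using fun θ : Cfsg.IrrCharacter (alternatingGroup σ) =>
    CharBasic.classInner_isChar_nat (isChar_resA χ) (CharBasic.IsIrr.isCharacter θ.2)
  have hcl := CharBasic.IsChar.isClassFunction (isChar_resA χ)
  have hexp := congrFun (CharBasic.classFunction_expansion hcl) 1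
  simp only [hm, resA_apply, Subgroup.coe_one, Finset.sum_apply, Pi.smul_apply, smul_eq_mul,
    BlockBasic.apply_one_eq_charDegree] at hexp
  have hdeg : Cfsg.charDegree (χ : Equiv.Perm σ → ℂ) =
      ∑ η, m η * Cfsg.charDegree (η : alternatingGroup σ → ℂ) := by exact_mod_cast hexp
  have hsq : ∑ η, m η * m η = 2 := by
    have h2 := classInner_resA χ
    rw [hself, CharBasic.classInner_irr_self χ.2, CharBasic.classInner_eq_sum hcl] at h2
    simp only [hm, map_natCast] at h2
    norm_num at h2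
    exact_mod_cast h2
  have hm0 : m θ ≠ 0 := fun e => h (by rw [hm, e, Nat.cast_zero])
  have hm1 : m θ = 1 := by
    have h1 : m θ * m θ ≤ 2 :=
      hsq ▸ Finset.single_le_sum (f := fun η => m η * m η) (fun _ _ => Nat.zero_le _) (mem_univ θ)
    by_contra hne
    have := Nat.mul_le_mul (show 2 ≤ m θ by omega) (show 2 ≤ m θ by omega)
    omega
  set T := CharInduce.inertia (alternatingGroup σ) (θ : alternatingGroup σ → ℂ)
  have hT : (χ : Equiv.Perm σ → ℂ) 1 =
      Cfsg.classInner (resA σ (χ : Equiv.Perm σ → ℂ)) (θ : alternatingGroup σ → ℂ) *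
        (T.index : ℂ) * (θ : alternatingGroup σ → ℂ) 1 :=
    CharInduce.clifford_degree (alternatingGroup σ) χ.2 θ.2 h
  rw [hm, hm1, Nat.cast_one, one_mul, BlockBasic.apply_one_eq_charDegree χ,
    BlockBasic.apply_one_eq_charDegree θ, ← Nat.cast_mul, Nat.cast_inj] at hT
  have hdvd : T.index ∣ 2 := by
    rw [← alternatingGroup.index_eq_two (α := σ)]
    exact Subgroup.index_dvd_of_le
      (CharInduce.le_inertia (alternatingGroup σ) (CharBasic.IsIrr.isClassFunction θ.2))
  rcases (Nat.dvd_prime Nat.prime_two).1 hdvd with e | e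
  · exfalso
    rw [e, one_mul] at hT
    rw [hT, ← Finset.add_sum_erase _ _ (Finset.mem_univ θ), hm1, one_mul] at hdeg
    have h0 : ∀ η ∈ univ.erase θ, m η = 0 := fun η hη =>
      (Nat.mul_eq_zero.1 (Finset.sum_eq_zero_iff.1
        (show ∑ x ∈ univ.erase θ, m x * Cfsg.charDegree (x : alternatingGroup σ → ℂ) = 0 by omega)
          η hη)).resolve_right (BlockBasic.charDegree_pos η).ne'
    rw [← Finset.add_sum_erase _ _ (Finset.mem_univ θ),
      Finset.sum_eq_zero (fun η hη => by rw [h0 η hη, mul_zero]), hm1] at hsq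
    omega
  · rw [e] at hT
    exact hT.symm

/-- The valuation of the degree of a constituent. -/
theorem factorization_below [Nontrivial σ] (hp : p.Prime)
    {χ : Cfsg.IrrCharacter (Equiv.Perm σ)} {θ : Cfsg.IrrCharacter (alternatingGroup σ)}
    (h : Cfsg.classInner (resA σ (χ : Equiv.Perm σ → ℂ)) (θ : alternatingGroup σ → ℂ) ≠ 0) :
    ((p ≠ 2 ∨ twist χ ≠ χ) → (Cfsg.charDegree (θ : alternatingGroup σ → ℂ)).factorization p =
        (Cfsg.charDegree (χ : Equiv.Perm σ → ℂ)).factorization p) ∧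
      (p = 2 → twist χ = χ → (Cfsg.charDegree (θ : alternatingGroup σ → ℂ)).factorization p + 1 =
        (Cfsg.charDegree (χ : Equiv.Perm σ → ℂ)).factorization p) := by
  obtain ⟨h1, h2⟩ := charDegree_below h
  by_cases ht : twist χ = χ
  · have hd := congrArg (fun t => t.factorization p) (h2 ht)
    simp only [Nat.factorization_mul two_ne_zero (BlockBasic.charDegree_pos θ).ne',
      Finsupp.add_apply] at hd
    refine ⟨fun hc => ?_, fun hp2 _ => ?_⟩
    · have hp2 : p ≠ 2 := hc.resolve_right (not_not.2 ht)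
      rw [Nat.factorization_eq_zero_of_not_dvd
        (fun hd2 => hp2 ((Nat.prime_dvd_prime_iff_eq hp Nat.prime_two).1 hd2))] at hd
      omega
    · subst hp2
      rw [Nat.prime_two.factorization_self] at hd
      omega
  · exact ⟨fun _ => by rw [h1 ht], fun _ e => absurd e ht⟩

/-- Every member of a covering block lies over a member of the block below. -/
theorem exists_below [hp : Fact p.Prime] {M : Ideal Cfsg.AlgInt} (hM : Cfsg.IsPModular p M)
    {B : Set (Cfsg.IrrCharacter (alternatingGroup σ))} (hB : Cfsg.IsPBlock M B)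
    {Bh : Set (Cfsg.IrrCharacter (Equiv.Perm σ))} (hBh : Cfsg.IsPBlock M Bh)
    {χ₀ χ : Cfsg.IrrCharacter (Equiv.Perm σ)} (hχ₀ : χ₀ ∈ Bh) (hχ : χ ∈ Bh)
    {θ₀ : Cfsg.IrrCharacter (alternatingGroup σ)} (hθ₀ : θ₀ ∈ B)
    (h0 : Cfsg.classInner (resA σ (χ₀ : Equiv.Perm σ → ℂ)) (θ₀ : alternatingGroup σ → ℂ) ≠ 0) :
    ∃ θ ∈ B,
      Cfsg.classInner (resA σ (χ : Equiv.Perm σ → ℂ)) (θ : alternatingGroup σ → ℂ) ≠ 0 := by
  classical
  obtain ⟨η, hη⟩ := CharInduce.exists_constituent (isChar_resA χ) (fun e => by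
    have h1 := congrFun e 1
    rw [resA_apply, Subgroup.coe_one, BlockBasic.apply_one_eq_charDegree χ, Pi.zero_apply,
      Nat.cast_eq_zero] at h1
    exact (BlockBasic.charDegree_pos χ).ne' h1)
  obtain ⟨d, hd⟩ := BlockBasic.exists_twist_sameBlock hM (fun n =>
    BlockBasic.omega_resMap_congr_of_sameBlock hM
      (BlockBasic.isPBlock_sameBlock hM hBh hχ₀ hχ) h0 hη n)
  refine ⟨H80.conjTwist (alternatingGroup σ) η d, ?_, ?_⟩
  · rw [BlockBasic.isPBlock_eq_blockOf hM hB hθ₀, BlockBasic.mem_blockOf]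
    exact BlockBasic.sameBlock_symm hd
  · rw [show resA σ (χ : Equiv.Perm σ → ℂ) =
      fun n : alternatingGroup σ => (χ : Equiv.Perm σ → ℂ) n from rfl,
      H80.classInner_res_conjTwist (alternatingGroup σ) (CharBasic.IsIrr.isClassFunction χ.2)]
    exact hη

/-- For `p = 2` the twist stays in the block. -/
theorem twist_mem_of_two {M : Ideal Cfsg.AlgInt} (hM : Cfsg.IsPModular 2 M)
    {B : Set (Cfsg.IrrCharacter (Equiv.Perm σ))} (hB : Cfsg.IsPBlock M B)
    {χ : Cfsg.IrrCharacter (Equiv.Perm σ)} (hχ : χ ∈ B) : twist χ ∈ B := by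
  rw [BlockBasic.isPBlock_eq_blockOf hM hB hχ, BlockBasic.mem_blockOf]
  intro g
  rw [centralChar_twist']
  rcases Int.units_eq_one_or (Equiv.Perm.sign g) with e | e
  · simpa [sgnC, e] using BlockBasic.memLocalIdeal_zero hM
  · rw [show sgnC g = -1 by simp [sgnC, e],
      show ∀ c : ℂ, c - (-1) * c = c * ((2 : ℕ) : ℂ) from fun c => by push_cast; ring]
    exact BlockBasic.memLocalIdeal_mul hM (BlockBasic.memLocalRing_centralChar hM χ.2 g)
      ((BlockBasic.memLocalIdeal_natCast_iff hM 2).2 dvd_rfl)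

/-- Two characters with the same tuple are equal. -/
theorem irr_eq_of_tuple {γ : Fin N → ℕ} {χ ψ : Cfsg.IrrCharacter (Equiv.Perm σ)} {ε ε' : ℂ}
    (hε : ε * ε = 1) (hε' : ε' * ε' = 1)
    (h : (chi N γ : Equiv.Perm σ → ℂ) = ε • (χ : Equiv.Perm σ → ℂ))
    (h' : (chi N γ : Equiv.Perm σ → ℂ) = ε' • (ψ : Equiv.Perm σ → ℂ)) : χ = ψ := by
  by_contra hne
  have h0 : Cfsg.classInner ((χ : Equiv.Perm σ → ℂ)) (ψ : Equiv.Perm σ → ℂ) = 0 :=
    CharBasic.classInner_irr_of_ne χ.2 ψ.2 fun e => hne (Subtype.ext e)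
  rw [irr_eq_smul_chi hε h, h', smul_smul, CharBasic.classInner_smul_left,
    CharBasic.classInner_irr_self ψ.2, mul_one] at h0
  rcases mul_eq_zero.1 h0 with e | e
  · simp [e] at hε
  · simp [e] at hε'

end Cfsg.Agent.H15.SymBlocks
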