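import Cfsg.Agent.H15.SymBlocks.AltHeights

/-!
# Height one in blocks of alternating groups, and the degrees of their defect groups
-/

set_option linter.unusedSectionVars false

namespace Cfsg.Agent.H15.SymBlocks

open Finset
open scoped Nat
open Cfsg.Agent

variable {σ : Type} [Fintype σ] [DecidableEq σ] {N p : ℕ}

theorem comm_of_card_le_sq [hp : Fact p.Prime] {G : Type} [Group G] {i : ℕ} (hi : i ≤ 2)
    (hG : Nat.card G = p ^ i) : IsMulCommutative G := by
  rw [isMulCommutative_iff]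
  rcases Nat.lt_or_ge i 2 with h | h
  · haveI : IsCyclic G := by
      refine isCyclic_of_card_dvd_prime (p := p) ?_
      rw [hG]
      exact (pow_dvd_pow p (by omega : i ≤ 1)).trans (by rw [pow_one])
    exact fun a b => (IsCyclic.commGroup (α := G)).mul_comm a b
  · obtain rfl : i = 2 := by omega
    exact fun a b => IsPGroup.commutative_of_card_eq_prime_sq hG a b

/-- For weight below `p` the defect groups are commutative. -/
theorem comm_defectGroup [hp : Fact p.Prime] {M : Ideal Cfsg.AlgInt} (hM : Cfsg.IsPModular p M)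
    (hN : Fintype.card σ ≤ N) {γ₀ : Fin N → ℕ} (hγ₀ : γ₀ ∈ tup N (lvl N (Fintype.card σ)))
    (hi₀ : Function.Injective γ₀) {B : Set (Cfsg.IrrCharacter (Equiv.Perm σ))}
    (hB : Cfsg.IsPBlock M B) (hBκ : B ⊆ resSet σ N p (rcnt p γ₀)) (hlt : wt p γ₀ < p)
    {P : Subgroup (Equiv.Perm σ)} (hP : Cfsg.IsDefectGroup p M B P) :
    ∀ a ∈ P, ∀ b ∈ P, a * b = b * a := by
  have hdef : Cfsg.blockDefect p B = wt p γ₀ := by
    rw [block_eq_resSet hM hN hγ₀ hi₀ hB hBκ, blockDefect_resSet hp.out hN hγ₀ hi₀,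
      factorization_factorial_lt hp.out hlt, add_zero]
  rcases Nat.eq_zero_or_pos (wt p γ₀) with h0 | h0
  · have h1 := H35.card_defectGroup hM hB hP
    rw [hdef, h0, pow_zero] at h1
    rw [Subgroup.eq_bot_of_card_eq P h1]
    intro a ha b hb
    rw [Subgroup.mem_bot.1 ha, Subgroup.mem_bot.1 hb]
  obtain ⟨-, z, E, -, -, hE, hle, -, hcard⟩ := exists_elementary_full hM hN hγ₀ hi₀ hB hBκ hP
    (defectGroup_ne_bot hM hN hγ₀ hB hBκ h0 hP)
  have hEeq : cycGroup z = E := Subgroup.eq_of_le_of_card_ge hle (by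
    rw [H35.card_defectGroup hM hB hE, hdef]
    exact hcard)
  obtain ⟨c, hc⟩ := H35.defectGroup_le_conj hM hB hE hP
  intro a ha b hb
  obtain ⟨a', ha', rfl⟩ := hc ha
  obtain ⟨b', hb', rfl⟩ := hc hb
  rw [← map_mul, ← map_mul, cycGroup_comm (hEeq ▸ ha') (hEeq ▸ hb')]

/-- For `p = 2` and weight at most two the even part of a defect group is commutative. -/
theorem comm_alt_part {M : Ideal Cfsg.AlgInt} [hp : Fact (Nat.Prime 2)]
    (hM : Cfsg.IsPModular 2 M) (hN : Fintype.card σ ≤ N) {γ₀ : Fin N → ℕ}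
    (hγ₀ : γ₀ ∈ tup N (lvl N (Fintype.card σ))) (hi₀ : Function.Injective γ₀)
    {B : Set (Cfsg.IrrCharacter (Equiv.Perm σ))} (hB : Cfsg.IsPBlock M B)
    (hBκ : B ⊆ resSet σ N 2 (rcnt 2 γ₀)) (hle : wt 2 γ₀ ≤ 2) {P : Subgroup (Equiv.Perm σ)}
    (hP : Cfsg.IsDefectGroup 2 M B P) :
    IsMulCommutative ↥(P ⊓ alternatingGroup σ) := by
  have hcard := H35.card_defectGroup hM hB hP
  rw [block_eq_resSet hM hN hγ₀ hi₀ hB hBκ, blockDefect_resSet hp.out hN hγ₀ hi₀] at hcard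
  have hdvd := Subgroup.card_dvd_of_le (inf_le_left : P ⊓ alternatingGroup σ ≤ P)
  rw [hcard, Nat.dvd_prime_pow hp.out] at hdvd
  obtain ⟨i, hi, hi'⟩ := hdvd
  refine comm_of_card_le_sq (p := 2) (i := i) ?_ hi'
  rcases Nat.lt_or_ge (wt 2 γ₀) 2 with h | h
  · have : ((wt 2 γ₀)!).factorization 2 = 0 := factorization_factorial_lt hp.out h
    omega
  have hw : wt 2 γ₀ = 2 := by omega
  rw [hw, show (2 : ℕ)! = 2 from rfl, hp.out.factorization_self] at hi hcard
  obtain ⟨z, hz, hS⟩ := exists_sylow_defect hM hN hγ₀ hi₀ hB hBκ (by omega) hP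
  obtain ⟨S⟩ : Nonempty (Sylow 2 (Equiv.Perm {a // z a ≠ a})) := inferInstance
  obtain ⟨u, hu, hus⟩ := exists_odd_mem_sylow (by rw [hz, hw]; norm_num) S
  obtain ⟨c, hc⟩ := hS S
  by_contra hi3
  have h3 : i = 3 := by omega
  subst h3
  have heq : P ⊓ alternatingGroup σ = P :=
    Subgroup.eq_of_le_of_card_ge inf_le_left (by rw [hcard, hi'])
  have hmem : MulAut.conj c (join (fun a => z a ≠ a) (u, 1)) ∈ P ⊓ alternatingGroup σ := by
    rw [heq, hc]
    exact Subgroup.mem_map_of_mem _ (Subgroup.mem_map_of_mem _ hu)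
  have hs := Equiv.Perm.mem_alternatingGroup.1 hmem.2
  rw [MulAut.conj_apply, map_mul, map_mul, map_inv, mul_comm, inv_mul_cancel_left, join_apply,
    Equiv.Perm.sign_permCongr, Equiv.Perm.sign_sumCongr, hus, map_one, mul_one] at hs
  exact absurd hs (by decide)

/-- The even part of a defect group of large weight has a character of degree `p`. -/
theorem exists_degree_alt_part [hp : Fact p.Prime] {M : Ideal Cfsg.AlgInt}
    (hM : Cfsg.IsPModular p M) (hN : Fintype.card σ ≤ N) {γ₀ : Fin N → ℕ}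
    (hγ₀ : γ₀ ∈ tup N (lvl N (Fintype.card σ))) (hi₀ : Function.Injective γ₀)
    {B : Set (Cfsg.IrrCharacter (Equiv.Perm σ))} (hB : Cfsg.IsPBlock M B)
    (hBκ : B ⊆ resSet σ N p (rcnt p γ₀)) (hw : p ≤ wt p γ₀) (hw2 : p = 2 → 3 ≤ wt p γ₀)
    {P : Subgroup (Equiv.Perm σ)} (hP : Cfsg.IsDefectGroup p M B P)
    {D : Subgroup (alternatingGroup σ)}
    (hPD : P ⊓ alternatingGroup σ = D.map (alternatingGroup σ).subtype) :
    ∃ ψ : Cfsg.IrrCharacter ↥D, Cfsg.charDegree (ψ : ↥D → ℂ) = p := by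
  classical
  obtain ⟨z, hz, hS⟩ :=
    exists_sylow_defect hM hN hγ₀ hi₀ hB hBκ (lt_of_lt_of_le hp.out.pos hw) hP
  obtain ⟨S, ψ, hψ⟩ := exists_sylow_alt_degree (p := p) {a // z a ≠ a} hz hw hw2
  obtain ⟨c, hc⟩ := hS S
  let f : Equiv.Perm {a // z a ≠ a} →* Equiv.Perm σ :=
    (MulAut.conj c).toMonoidHom.comp ((join fun a => z a ≠ a).comp (MonoidHom.inl _ _))
  have hf : Function.Injective f := (MulAut.conj c).injective.comp fun a b h =>
    (Prod.ext_iff.1 (join_injective (fun a => z a ≠ a) h)).1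
  have hsign : ∀ u, Equiv.Perm.sign (f u) = Equiv.Perm.sign u := fun u => by
    change Equiv.Perm.sign (c * join (fun a => z a ≠ a) (u, 1) * c⁻¹) = _
    rw [map_mul, map_mul, map_inv, mul_comm, inv_mul_cancel_left, join_apply,
      Equiv.Perm.sign_permCongr, Equiv.Perm.sign_sumCongr, map_one, mul_one]
  have hmap : ((S : Subgroup (Equiv.Perm {a // z a ≠ a})) ⊓
      alternatingGroup {a // z a ≠ a}).map f = D.map (alternatingGroup σ).subtype := by
    rw [← hPD, hc, Subgroup.map_map]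
    ext g
    constructor
    · rintro ⟨u, ⟨hu, hu'⟩, rfl⟩
      refine ⟨⟨u, hu, rfl⟩, ?_⟩
      exact Equiv.Perm.mem_alternatingGroup.2
        ((hsign u).trans (Equiv.Perm.mem_alternatingGroup.1 hu'))
    · rintro ⟨⟨u, hu, rfl⟩, hu'⟩
      refine ⟨u, ⟨hu, ?_⟩, rfl⟩
      exact Equiv.Perm.mem_alternatingGroup.2
        ((hsign u).symm.trans (Equiv.Perm.mem_alternatingGroup.1 hu'))
  let ι : ↥D ≃* ↥((S : Subgroup (Equiv.Perm {a // z a ≠ a})) ⊓
      alternatingGroup {a // z a ≠ a}) :=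
    (D.equivMapOfInjective _ (alternatingGroup σ).subtype_injective).trans
      ((MulEquiv.subgroupCongr hmap.symm).trans (Subgroup.equivMapOfInjective _ f hf).symm)
  refine ⟨⟨_, H86.isIrr_comp_surjective ψ.2 ι.toMonoidHom ι.surjective⟩, ?_⟩
  conv_rhs => rw [← hψ]
  unfold Cfsg.charDegree
  simp

/-- **Heights and defect group degrees in blocks of alternating groups.** -/
theorem height_one_or_none [hp : Fact p.Prime] {M : Ideal Cfsg.AlgInt}
    (hM : Cfsg.IsPModular p M) {B : Set (Cfsg.IrrCharacter (alternatingGroup σ))}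
    (hB : Cfsg.IsPBlock M B) {D : Subgroup (alternatingGroup σ)}
    (hD : Cfsg.IsDefectGroup p M B D) :
    ((∃ χ : Cfsg.IrrCharacter (alternatingGroup σ), χ ∈ B ∧
        Cfsg.blockHeight p B (χ : alternatingGroup σ → ℂ) = 1) ∧
      ∃ ψ : Cfsg.IrrCharacter ↥D, Cfsg.charDegree (ψ : ↥D → ℂ) = p) ∨
    ((∀ χ : Cfsg.IrrCharacter (alternatingGroup σ), χ ∈ B →
        Cfsg.blockHeight p B (χ : alternatingGroup σ → ℂ) = 0) ∧ IsMulCommutative D) := by
  classical
  rcases subsingleton_or_nontrivial σ with hσ | hσ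
  · haveI : Subsingleton (alternatingGroup σ) := inferInstance
    refine Or.inr ⟨fun χ _ => ?_, isMulCommutative_iff.2 fun a b => Subsingleton.elim _ _⟩
    have h1 : Cfsg.charDegree (χ : alternatingGroup σ → ℂ) = 1 := Nat.dvd_one.1 (by
      have h := BlockBasic.charDegree_dvd χ
      rwa [Nat.card_of_subsingleton (1 : alternatingGroup σ)] at h)
    rw [Cfsg.blockHeight, h1, Nat.factorization_one, Finsupp.zero_apply, Nat.zero_sub]
  obtain ⟨Bh, hBh, χ₀, hχ₀, θ₀, hθ₀, h0⟩ :=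
    BlockBasic.exists_covering_block hM (alternatingGroup σ) hB
  obtain ⟨P, hP, hPD⟩ := BlockBasic.exists_defectGroup_inf_eq hM hB
    (Q := D.map (alternatingGroup σ).subtype) (Subgroup.map_subtype_le D)
    (by rwa [Subgroup.subgroupOf, Subgroup.comap_map_eq_self_of_injective
      (alternatingGroup σ).subtype_injective]) hBh ⟨χ₀, hχ₀, θ₀, hθ₀, h0⟩
  obtain ⟨γ, hγ, hi, hBκ⟩ := exists_resSet_of_block (N := Fintype.card σ) hM le_rfl hBh
  have heq := block_eq_resSet hM le_rfl hγ hi hBh hBκ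
  have htw : p = 2 → ∀ χ ∈ resSet σ (Fintype.card σ) p (rcnt p γ),
      twist χ ∈ resSet σ (Fintype.card σ) p (rcnt p γ) := by
    intro h2 χ hχ
    subst h2
    rw [← heq] at hχ ⊢
    exact twist_mem_of_two hM hBh hχ
  have hover : ∀ θ ∈ B, ∃ χ ∈ resSet σ (Fintype.card σ) p (rcnt p γ),
      Cfsg.classInner (resA σ (χ : Equiv.Perm σ → ℂ)) (θ : alternatingGroup σ → ℂ) ≠ 0 :=
    fun θ hθ => heq ▸ BlockBasic.exists_over_of_covers hM hBh hχ₀ h0
      (BlockBasic.isPBlock_sameBlock hM hB hθ₀ hθ)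
  have hbelow : ∀ χ ∈ resSet σ (Fintype.card σ) p (rcnt p γ), ∃ θ ∈ B,
      Cfsg.classInner (resA σ (χ : Equiv.Perm σ → ℂ)) (θ : alternatingGroup σ → ℂ) ≠ 0 :=
    fun χ hχ => exists_below hM hB hBh hχ₀ (heq.symm ▸ hχ) hθ₀ h0
  rcases heights_alt le_rfl hγ hi hover hbelow htw with ⟨hw, hw2, θ, hθ, hh⟩ | ⟨hw2, hwp, hh⟩
  · exact Or.inl ⟨⟨θ, hθ, hh⟩, exists_degree_alt_part hM le_rfl hγ hi hBh hBκ hw hw2 hP hPD⟩
  refine Or.inr ⟨hh, isMulCommutative_iff.2 fun a b => ?_⟩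
  have hcomm : ∀ x ∈ P ⊓ alternatingGroup σ, ∀ y ∈ P ⊓ alternatingGroup σ, x * y = y * x := by
    rcases eq_or_ne p 2 with h2 | h2
    · subst h2
      have h := isMulCommutative_iff.1 (comm_alt_part hM le_rfl hγ hi hBh hBκ (hw2 rfl) hP)
      exact fun x hx y hy => congrArg Subtype.val (h ⟨x, hx⟩ ⟨y, hy⟩)
    · exact fun x hx y hy =>
        comm_defectGroup hM le_rfl hγ hi hBh hBκ (hwp h2) hP x hx.1 y hy.1
  rw [hPD] at hcomm
  exact Subtype.ext (Subtype.ext
    (hcomm _ (Subgroup.mem_map_of_mem _ a.2) _ (Subgroup.mem_map_of_mem _ b.2)))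

end Cfsg.Agent.H15.SymBlocks
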