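import Cfsg.Agent.H84.TwoDegreesBasic
import Cfsg.Agent.H86.IrrOps
import Cfsg.Agent.CharBasic.Kernel
import Cfsg.Agent.BlockBasic.Basic
import Mathlib.GroupTheory.RegularWreathProduct
import Mathlib.GroupTheory.SpecificGroups.Alternating

/-!
# A character of degree `p` on the even part of a Sylow subgroup of a symmetric group

A Sylow `p`-subgroup of the symmetric group on `p * w` points with `p ≤ w` maps onto the wreath
product of two cyclic groups of order `p`; for `p = 2` and `3 ≤ w` so does its even part.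
-/

set_option linter.unusedSectionVars false

namespace Cfsg.Agent.H15.SymBlocks

open Cfsg.Agent
open scoped Nat

variable {p : ℕ} [hp : Fact p.Prime]

theorem card_multiplicative_zmod (p : ℕ) : Nat.card (Multiplicative (ZMod p)) = p := by
  rw [Nat.card_congr Multiplicative.toAdd, Nat.card_zmod]

/-- The wreath product of two cyclic groups of order `p` has a character of degree `p`. -/
theorem exists_irr_degree_wreath (G : Type) [CommGroup G] [Finite G] (hG : Nat.card G = p) :
    ∃ χ : Cfsg.IrrCharacter (G ≀ᵣ G), Cfsg.charDegree (χ : G ≀ᵣ G → ℂ) = p := by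
  classical
  cases nonempty_fintype G
  cases nonempty_fintype (G ≀ᵣ G)
  obtain ⟨g, hg⟩ : ∃ g : G, g ≠ 1 := by
    haveI : Nontrivial G := Finite.one_lt_card_iff_nontrivial.1 (hG ▸ hp.out.one_lt)
    exact exists_ne 1
  obtain ⟨χ, hχ⟩ : ∃ χ : Cfsg.IrrCharacter (G ≀ᵣ G), (χ : G ≀ᵣ G → ℂ) 1 ≠ 1 := by
    by_contra hc
    push Not at hc
    have h := CharBasic.commutative_iff_forall_linear.2 hc (RegularWreathProduct.inl g)
      ⟨Pi.mulSingle 1 g, 1⟩
    have h1 := congrFun (congrArg RegularWreathProduct.left h) g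
    simp [hg] at h1
  refine ⟨χ, ?_⟩
  set A : Subgroup (G ≀ᵣ G) := RegularWreathProduct.rightHom.ker with hA
  have hAc : ∀ a ∈ A, ∀ b ∈ A, a * b = b * a := by
    intro a ha b hb
    have ha' : a.right = 1 := ha
    have hb' : b.right = 1 := hb
    ext <;> simp [ha', hb', mul_comm]
  have hsurj : Function.Surjective (RegularWreathProduct.rightHom : G ≀ᵣ G →* G) :=
    fun q => ⟨RegularWreathProduct.inl q, rfl⟩
  have hle := H84.charDegree_le_index A hAc χ
  rw [hA, Subgroup.index_ker, MonoidHom.range_eq_top.2 hsurj, Subgroup.card_top, hG] at hle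
  have hdvd := BlockBasic.charDegree_dvd χ
  rw [RegularWreathProduct.card, hG, ← pow_succ, Nat.dvd_prime_pow hp.out] at hdvd
  obtain ⟨i, -, hi⟩ := hdvd
  rw [hi] at hle ⊢
  have h1 : Cfsg.charDegree (χ : G ≀ᵣ G → ℂ) ≠ 1 := fun e => hχ (by
    rw [BlockBasic.apply_one_eq_charDegree χ, e, Nat.cast_one])
  have hi0 : i ≠ 0 := fun e => h1 (by rw [hi, e, pow_zero])
  have hi1 : i ≤ 1 := (Nat.pow_le_pow_iff_right hp.out.one_lt).1 (by rwa [pow_one])
  rw [show i = 1 by omega, pow_one]

/-- The projection of an iterated wreath product to its top two layers. -/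
def topTwo (G : Type) [Group G] (n : ℕ) : IteratedWreathProduct G (n + 2) →* G ≀ᵣ G where
  toFun x := ⟨fun q => (x.left q).right, x.right⟩
  map_one' := rfl
  map_mul' _ _ := rfl

theorem topTwo_surjective (G : Type) [Group G] (n : ℕ) : Function.Surjective (topTwo G n) := by
  intro y
  exact ⟨⟨fun q => ⟨1, y.left q⟩, y.right⟩, rfl⟩

/-- The sign of a base element of an iterated wreath product. -/
theorem sign_iterated_base (G : Type) [Group G] [Fintype G] [DecidableEq G] (n : ℕ)
    (F : G → IteratedWreathProduct G n) :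
    Equiv.Perm.sign (iteratedWreathToPermHom G (n + 1) ⟨F, 1⟩) =
      ∏ q, Equiv.Perm.sign (iteratedWreathToPermHom G n (F q)) := by
  let _ := MulAction.compHom (Fin n → G) (iteratedWreathToPermHom G n)
  change Equiv.Perm.sign ((Fin.succFunEquiv G n).symm.permCongr
    (RegularWreathProduct.toPerm (IteratedWreathProduct G n) G (Fin n → G) ⟨F, 1⟩)) = _
  rw [Equiv.Perm.sign_permCongr, ← Equiv.Perm.sign_prodCongrLeft]
  congr 1
  refine Equiv.ext fun x => ?_
  refine Prod.ext ?_ ?_
  · change iteratedWreathToPermHom G n (F (1 * x.2)) x.1 = _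
    rw [one_mul]
    rfl
  · change 1 * x.2 = _
    rw [one_mul]
    rfl

theorem sign_iterated_single (G : Type) [Group G] [Fintype G] [DecidableEq G] (n : ℕ)
    (s : IteratedWreathProduct G n) :
    Equiv.Perm.sign (iteratedWreathToPermHom G (n + 1) ⟨Pi.mulSingle 1 s, 1⟩) =
      Equiv.Perm.sign (iteratedWreathToPermHom G n s) := by
  rw [sign_iterated_base, Fintype.prod_eq_single 1 (fun q hq => ?_)]
  · rw [Pi.mulSingle_eq_same]
  · rw [Pi.mulSingle_eq_of_ne hq, map_one, map_one]

/-- Every Sylow `2`-subgroup of a symmetric group has an odd element. -/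
theorem exists_odd_mem_sylow {α : Type*} [Fintype α] [DecidableEq α] (h : 2 ≤ Fintype.card α)
    [Fact (Nat.Prime 2)] (R : Sylow 2 (Equiv.Perm α)) :
    ∃ u ∈ (R : Subgroup (Equiv.Perm α)), Equiv.Perm.sign u = -1 := by
  obtain ⟨a, b, hab⟩ := Fintype.exists_pair_of_one_lt_card (α := α) h
  have ho : IsPGroup 2 (Subgroup.zpowers (Equiv.swap a b)) := IsPGroup.of_card (n := 1) (by
    rw [Nat.card_zpowers, pow_one]
    exact orderOf_eq_prime (by rw [sq, Equiv.swap_mul_self])
      (fun e => hab (Equiv.swap_eq_refl_iff.1 e)))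
  obtain ⟨S, hS⟩ := ho.exists_le_sylow
  obtain ⟨c, hc⟩ := MulAction.exists_smul_eq (Equiv.Perm α) S R
  refine ⟨c * Equiv.swap a b * c⁻¹, ?_, by
    rw [map_mul, map_mul, map_inv, mul_comm, inv_mul_cancel_left, Equiv.Perm.sign_swap hab]⟩
  rw [← hc]
  exact Subgroup.mem_map.2 ⟨Equiv.swap a b, hS (Subgroup.mem_zpowers _), rfl⟩

theorem factorization_card_iterated (k : ℕ) :
    Nat.card (IteratedWreathProduct (Multiplicative (ZMod p)) k) =
      p ^ ((p ^ k)!).factorization p := by
  rw [IteratedWreathProduct.card, card_multiplicative_zmod,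
    ← Nat.multiplicity_eq_factorization hp.out (p ^ k).factorial_ne_zero,
    Nat.Prime.multiplicity_factorial_pow hp.out]

theorem factorization_factorial_add_pow {k r : ℕ} (h : p ^ k + r < p ^ (k + 1)) :
    ((p ^ k + r)!).factorization p = ((p ^ k)!).factorization p + (r !).factorization p := by
  have hb : ∀ m, m ≤ p ^ k + r → Nat.log p m < k + 1 := fun m hm =>
    Nat.log_lt_of_lt_pow' (by omega) (lt_of_le_of_lt hm h)
  rw [Nat.factorization_factorial hp.out (hb _ le_rfl),
    Nat.factorization_factorial hp.out (hb _ (Nat.le_add_right _ _)),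
    Nat.factorization_factorial hp.out (hb _ (Nat.le_add_left _ _)), ← Finset.sum_add_distrib]
  refine Finset.sum_congr rfl fun i hi => ?_
  rw [Finset.mem_Ico] at hi
  exact Nat.add_div_of_dvd_right (pow_dvd_pow p (by omega))

/-- **A character of degree `p` on the even part of a Sylow subgroup.** -/
theorem exists_sylow_alt_degree (X : Type) [Fintype X] [DecidableEq X] {w : ℕ}
    (hX : Fintype.card X = p * w) (hw : p ≤ w) (hw2 : p = 2 → 3 ≤ w) :
    ∃ S : Sylow p (Equiv.Perm X),
      ∃ ψ : Cfsg.IrrCharacter ↥((S : Subgroup (Equiv.Perm X)) ⊓ alternatingGroup X),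
        Cfsg.charDegree
          (ψ : ↥((S : Subgroup (Equiv.Perm X)) ⊓ alternatingGroup X) → ℂ) = p := by
  classical
  set n := p * w with hn
  have hn2 : p ^ 2 ≤ n := by rw [sq, hn]; exact Nat.mul_le_mul_left p hw
  obtain ⟨k, hk⟩ : ∃ k, Nat.log p n = k + 2 :=
    ⟨Nat.log p n - 2, by have := Nat.le_log_of_pow_le hp.out.one_lt hn2; omega⟩
  have hn0 : n ≠ 0 := by
    have := Nat.pow_pos (n := 2) hp.out.pos
    omega
  have hle : p ^ (k + 2) ≤ n := hk ▸ Nat.pow_log_le_self p hn0
  have hlt : n < p ^ (k + 2 + 1) := hk ▸ Nat.lt_pow_succ_log_self hp.out.one_lt n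
  obtain ⟨r, hr⟩ := Nat.exists_eq_add_of_le hle
  let G := Multiplicative (ZMod p)
  have hG : Nat.card G = p := card_multiplicative_zmod p
  have hcard : Fintype.card ((Fin (k + 2) → G) ⊕ Fin r) = n := by
    rw [Fintype.card_sum, ← Nat.card_eq_fintype_card, Nat.card_fun, hG, Nat.card_fin,
      Fintype.card_fin, hr]
  let e : X ≃ (Fin (k + 2) → G) ⊕ Fin r := Fintype.equivOfCardEq (hX.trans hcard.symm)
  obtain ⟨R⟩ : Nonempty (Sylow p (Equiv.Perm (Fin r))) := inferInstance
  let h : IteratedWreathProduct G (k + 2) × ↥(R : Subgroup (Equiv.Perm (Fin r))) →* Equiv.Perm X :=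
    e.symm.permCongrHom.toMonoidHom.comp ((Equiv.Perm.sumCongrHom _ _).comp
      ((iteratedWreathToPermHom G (k + 2)).prodMap (R : Subgroup (Equiv.Perm (Fin r))).subtype))
  have hinj : Function.Injective h :=
    e.symm.permCongrHom.injective.comp (Equiv.Perm.sumCongrHom_injective.comp
      ((iteratedWreathToPermHomInj G (k + 2)).prodMap Subtype.val_injective))
  have hsign : ∀ x, Equiv.Perm.sign (h x) =
      Equiv.Perm.sign (iteratedWreathToPermHom G (k + 2) x.1) *
        Equiv.Perm.sign (x.2 : Equiv.Perm (Fin r)) := fun x => by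
    change Equiv.Perm.sign (e.symm.permCongr (Equiv.Perm.sumCongr
      (iteratedWreathToPermHom G (k + 2) x.1) (x.2 : Equiv.Perm (Fin r)))) = _
    rw [Equiv.Perm.sign_permCongr, Equiv.Perm.sign_sumCongr]
  have hcardr : Nat.card h.range = p ^ (Nat.card (Equiv.Perm X)).factorization p := by
    rw [← Nat.card_congr (MonoidHom.ofInjective hinj).toEquiv, Nat.card_prod,
      factorization_card_iterated, R.card_eq_multiplicity, Nat.card_perm, Nat.card_perm,
      Nat.card_eq_fintype_card, Nat.card_eq_fintype_card (α := X), Fintype.card_fin, hX, ← pow_add,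
      hr, factorization_factorial_add_pow (hr ▸ hlt)]
  let S : Sylow p (Equiv.Perm X) := Sylow.ofCard h.range hcardr
  have hS : (S : Subgroup (Equiv.Perm X)) = h.range := Sylow.coe_ofCard _ _
  set T := (alternatingGroup X).comap h with hT
  let π : T →* G ≀ᵣ G := (topTwo G k).comp ((MonoidHom.fst _ _).comp T.subtype)
  have hπ : Function.Surjective π := by
    intro y
    obtain ⟨x, hx⟩ := topTwo_surjective G k y
    have key : ∃ u, topTwo G k u.1 = 1 ∧
        Equiv.Perm.sign (h u) = Equiv.Perm.sign (h (x, 1)) := by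
      rcases Int.units_eq_one_or (Equiv.Perm.sign (h (x, 1))) with hs | hs
      · exact ⟨1, map_one _, by rw [hs, map_one, map_one]⟩
      rcases eq_or_ne p 2 with h2 | h2
      · subst h2
        rcases Nat.lt_or_ge r 2 with hr2 | hr2
        · obtain ⟨j, rfl⟩ : ∃ j, k = j + 1 := by
            refine ⟨k - 1, ?_⟩
            by_contra hk0
            obtain rfl : k = 0 := by omega
            have := hw2 rfl
            omega
          haveI : Fact (Nat.Prime 2) := hp
          let R₁ : Sylow 2 (Equiv.Perm (Fin (j + 1) → G)) :=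
            Sylow.ofCard (iteratedWreathToPermHom G (j + 1)).range (by
              rw [← Nat.card_congr (MonoidHom.ofInjective
                  (iteratedWreathToPermHomInj G (j + 1))).toEquiv,
                factorization_card_iterated, Nat.card_perm, Nat.card_fun, hG, Nat.card_fin])
          obtain ⟨v, hv, hvs⟩ := exists_odd_mem_sylow (by
            rw [Fintype.card_fun, Fintype.card_fin, ← Nat.card_eq_fintype_card, hG]
            exact Nat.le_self_pow (by omega) 2) R₁
          rw [Sylow.coe_ofCard] at hv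
          obtain ⟨s, rfl⟩ := hv
          let t : IteratedWreathProduct G (j + 2) := ⟨Pi.mulSingle 1 s, 1⟩
          refine ⟨(⟨Pi.mulSingle 1 t, 1⟩, 1), ?_, ?_⟩
          · refine RegularWreathProduct.ext (funext fun q => ?_) rfl
            show (Pi.mulSingle (M := fun _ => IteratedWreathProduct G (j + 2)) 1 t q).right = 1
            by_cases hq : q = 1
            · rw [hq, Pi.mulSingle_eq_same]
            · rw [Pi.mulSingle_eq_of_ne hq]
              rfl
          · have h3 := (sign_iterated_single G (j + 2) t).trans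
              ((sign_iterated_single G (j + 1) s).trans hvs)
            rw [hs, hsign]
            simp only [OneMemClass.coe_one, map_one, mul_one]
            exact h3
        · obtain ⟨v, hv, hvs⟩ := exists_odd_mem_sylow (by rwa [Fintype.card_fin]) R
          exact ⟨(1, ⟨v, hv⟩), map_one _, by rw [hs, hsign, map_one, map_one, one_mul, hvs]⟩
      · have hPS : IsPGroup p h.range := hS ▸ S.isPGroup'
        obtain ⟨m, hm⟩ := hPS ⟨h (x, 1), ⟨_, rfl⟩⟩
        have hpow : Equiv.Perm.sign (h (x, 1)) ^ p ^ m = 1 := by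
          rw [← map_pow, show h (x, 1) ^ p ^ m = 1 from congrArg Subtype.val hm, map_one]
        rw [hs, (((hp.out.odd_of_ne_two h2).pow)).neg_one_pow] at hpow
        exact absurd hpow (by decide)
    obtain ⟨u, hu, hus⟩ := key
    refine ⟨⟨u * (x, 1), ?_⟩, ?_⟩
    · rw [hT, Subgroup.mem_comap, Equiv.Perm.mem_alternatingGroup, map_mul, map_mul, hus,
        Int.units_mul_self]
    · change topTwo G k (u.1 * x) = y
      rw [map_mul, hu, hx, one_mul]
  obtain ⟨χ, hχ⟩ := exists_irr_degree_wreath (p := p) G hG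
  haveI : Finite T := inferInstance
  have hmap : T.map h = (S : Subgroup (Equiv.Perm X)) ⊓ alternatingGroup X := by
    rw [hT, Subgroup.map_comap_eq, hS]
  let ι : ↥((S : Subgroup (Equiv.Perm X)) ⊓ alternatingGroup X) ≃* T :=
    (MulEquiv.subgroupCongr hmap.symm).trans (T.equivMapOfInjective h hinj).symm
  refine ⟨S, ⟨_, H86.isIrr_comp_surjective χ.2 (π.comp ι.toMonoidHom)
    (by rw [MonoidHom.coe_comp]; exact hπ.comp ι.surjective)⟩, ?_⟩
  conv_rhs => rw [← hχ]
  unfold Cfsg.charDegree
  simp

end Cfsg.Agent.H15.SymBlocks
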