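import Cfsg.Agent.H15.SymBlocks.TwoSmall
import Cfsg.Agent.H15.SymBlocks.SylowWreath

/-!
# Heights and defect groups of blocks of alternating groups

A block of weight `w` has a character of height one and a defect group with a character of degree
`p`, or all heights zero and a commutative defect group: the first for `p ≤ w`, odd `p`, and for
`3 ≤ w`, `p = 2`.
-/

set_option linter.unusedSectionVars false

namespace Cfsg.Agent.H15.SymBlocks

open Finset
open scoped Nat
open Cfsg.Agent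

variable {σ : Type} [Fintype σ] [DecidableEq σ] {N p : ℕ}

theorem blockHeight_eq_zero {G : Type} [Group G] {B : Set (Cfsg.IrrCharacter G)} {C V : ℕ}
    (h : ∀ θ ∈ B, (Cfsg.charDegree (θ : G → ℂ)).factorization p + C = V)
    {θ : Cfsg.IrrCharacter G} (hθ : θ ∈ B) : Cfsg.blockHeight p B (θ : G → ℂ) = 0 := by
  rw [Cfsg.blockHeight, Nat.sub_eq_zero_iff_le]
  refine le_csInf ⟨_, θ, hθ, rfl⟩ ?_
  rintro _ ⟨ψ, hψ, rfl⟩
  have h1 := h θ hθ
  have h2 := h ψ hψ
  show (Cfsg.charDegree (θ : G → ℂ)).factorization p ≤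
    (Cfsg.charDegree (ψ : G → ℂ)).factorization p
  omega

theorem blockHeight_eq_one {G : Type} [Group G] {B : Set (Cfsg.IrrCharacter G)} {C V : ℕ}
    (h : ∀ θ ∈ B, V ≤ (Cfsg.charDegree (θ : G → ℂ)).factorization p + C)
    {θ₁ θ₂ : Cfsg.IrrCharacter G} (hθ₁ : θ₁ ∈ B)
    (h₁ : (Cfsg.charDegree (θ₁ : G → ℂ)).factorization p + C = V)
    (h₂ : (Cfsg.charDegree (θ₂ : G → ℂ)).factorization p + C = V + 1) :
    Cfsg.blockHeight p B (θ₂ : G → ℂ) = 1 := by
  have hmin : sInf ((fun ψ : Cfsg.IrrCharacter G =>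
      (Cfsg.charDegree (ψ : G → ℂ)).factorization p) '' B) =
      (Cfsg.charDegree (θ₁ : G → ℂ)).factorization p := by
    refine le_antisymm (Nat.sInf_le ⟨θ₁, hθ₁, rfl⟩) (le_csInf ⟨_, θ₁, hθ₁, rfl⟩ ?_)
    rintro _ ⟨ψ, hψ, rfl⟩
    have := h ψ hψ
    show _ ≤ (Cfsg.charDegree (ψ : G → ℂ)).factorization p
    omega
  rw [Cfsg.blockHeight, hmin]
  omega

theorem wt_le_hookVal (hp : p.Prime) {n : ℕ} {γ : Fin N → ℕ} (hi : Function.Injective γ) :
    wt p γ ≤ hookVal p n γ := by
  rw [hookVal_eq hp hi]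
  exact Nat.le_add_right _ _

/-- The valuation of the degree of a member below, by its tuple. -/
theorem exists_tuple_below [Nontrivial σ] (hp : p.Prime) (hN : Fintype.card σ ≤ N)
    {γ₀ : Fin N → ℕ} (hγ₀ : γ₀ ∈ tup N (lvl N (Fintype.card σ)))
    {χ : Cfsg.IrrCharacter (Equiv.Perm σ)} (hχ : χ ∈ resSet σ N p (rcnt p γ₀))
    {θ : Cfsg.IrrCharacter (alternatingGroup σ)}
    (h : Cfsg.classInner (resA σ (χ : Equiv.Perm σ → ℂ)) (θ : alternatingGroup σ → ℂ) ≠ 0) :
    ∃ γ ∈ monoTup σ N, rcnt p γ = rcnt p γ₀ ∧ wt p γ = wt p γ₀ ∧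
      (∃ ε : ℂ, ε * ε = 1 ∧ (chi N γ : Equiv.Perm σ → ℂ) = ε • (χ : Equiv.Perm σ → ℂ)) ∧
      (twist χ = χ → IsSelfComp γ) ∧
      ((p ≠ 2 ∨ twist χ ≠ χ) → (Cfsg.charDegree (θ : alternatingGroup σ → ℂ)).factorization p +
          hookVal p (Fintype.card σ) γ = ((Fintype.card σ)!).factorization p) ∧
      (p = 2 → twist χ = χ → (Cfsg.charDegree (θ : alternatingGroup σ → ℂ)).factorization p +
          (hookVal p (Fintype.card σ) γ + 1) = ((Fintype.card σ)!).factorization p) := by
  obtain ⟨γ, hm, hr, hw, ⟨ε, hε, he⟩, hv⟩ := exists_member_tuple hp hN hγ₀ hχ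
  obtain ⟨h1, h2⟩ := factorization_below hp h
  exact ⟨γ, hm, hr, hw, ⟨ε, hε, he⟩, fun ht => isSelfComp_of_twist hN hm hε he ht,
    fun hc => by rw [h1 hc]; exact hv, fun hp2 ht => by rw [← h2 hp2 ht] at hv; omega⟩

/-- A member below the character of a tuple that is not self-complementary. -/
theorem exists_below_of_tuple [Nontrivial σ] (hp : p.Prime) (hN : Fintype.card σ ≤ N)
    {γ₀ γ : Fin N → ℕ} (hm : γ ∈ monoTup σ N) (hr : rcnt p γ = rcnt p γ₀)
    (hns : p ≠ 2 ∨ ¬ IsSelfComp γ) {B : Set (Cfsg.IrrCharacter (alternatingGroup σ))}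
    (hbelow : ∀ χ ∈ resSet σ N p (rcnt p γ₀), ∃ θ ∈ B,
      Cfsg.classInner (resA σ (χ : Equiv.Perm σ → ℂ)) (θ : alternatingGroup σ → ℂ) ≠ 0) :
    ∃ θ ∈ B, (Cfsg.charDegree (θ : alternatingGroup σ → ℂ)).factorization p +
      hookVal p (Fintype.card σ) γ = ((Fintype.card σ)!).factorization p := by
  obtain ⟨χ, hχ, ⟨ε, hε, he⟩, hv⟩ := exists_member_of_tuple hp hm hr
  obtain ⟨θ, hθ, hne⟩ := hbelow χ hχ
  refine ⟨θ, hθ, ?_⟩
  rw [(factorization_below hp hne).1
    (hns.imp_right fun h ht => h (isSelfComp_of_twist hN hm hε he ht))]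
  exact hv

/-- The heights in a block of an alternating group. -/
theorem heights_alt [hp : Fact p.Prime] [Nontrivial σ] (hN : Fintype.card σ ≤ N)
    {γ₀ : Fin N → ℕ} (hγ₀ : γ₀ ∈ tup N (lvl N (Fintype.card σ))) (hi₀ : Function.Injective γ₀)
    {B : Set (Cfsg.IrrCharacter (alternatingGroup σ))}
    (hover : ∀ θ ∈ B, ∃ χ ∈ resSet σ N p (rcnt p γ₀),
      Cfsg.classInner (resA σ (χ : Equiv.Perm σ → ℂ)) (θ : alternatingGroup σ → ℂ) ≠ 0)
    (hbelow : ∀ χ ∈ resSet σ N p (rcnt p γ₀), ∃ θ ∈ B,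
      Cfsg.classInner (resA σ (χ : Equiv.Perm σ → ℂ)) (θ : alternatingGroup σ → ℂ) ≠ 0)
    (htw : p = 2 → ∀ χ ∈ resSet σ N p (rcnt p γ₀), twist χ ∈ resSet σ N p (rcnt p γ₀)) :
    (p ≤ wt p γ₀ ∧ (p = 2 → 3 ≤ wt p γ₀) ∧
        ∃ θ ∈ B, Cfsg.blockHeight p B (θ : alternatingGroup σ → ℂ) = 1) ∨
      ((p = 2 → wt p γ₀ ≤ 2) ∧ (p ≠ 2 → wt p γ₀ < p) ∧
        ∀ θ ∈ B, Cfsg.blockHeight p B (θ : alternatingGroup σ → ℂ) = 0) := by
  have hN0 : 0 < N := lt_of_lt_of_le Fintype.card_pos hN
  rcases eq_or_ne p 2 with h2 | h2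
  · subst h2
    rcases Nat.lt_or_ge (wt 2 γ₀) 3 with hlt | hge
    · refine Or.inr ⟨fun _ => by omega, fun h => absurd rfl h, fun θ₁ hθ₁ => ?_⟩
      obtain ⟨χ₁, hχ₁, hne₁⟩ := hover θ₁ hθ₁
      refine blockHeight_eq_zero
        (C := ((Fintype.card σ)!).factorization 2 - (Cfsg.charDegree (θ₁ : alternatingGroup σ → ℂ)).factorization 2) (V := ((Fintype.card σ)!).factorization 2)
        (fun θ hθ => ?_) hθ₁
      obtain ⟨χ, hχ, hne⟩ := hover θ hθ
      obtain ⟨γ, hm, hr, hw, ⟨ε, hε, he⟩, hs, hA, hS⟩ :=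
        exists_tuple_below hp.out hN hγ₀ hχ hne
      obtain ⟨γ₁, hm₁, hr₁, hw₁, ⟨ε₁, hε₁, he₁⟩, hs₁, hA₁, hS₁⟩ :=
        exists_tuple_below hp.out hN hγ₀ hχ₁ hne₁
      rcases Nat.eq_zero_or_pos (wt 2 γ₀) with hz | hpos
      · -- a single tuple
        have hrun : ∀ r < 2, runner 2 γ r = runner 2 γ₁ r := by
          intro r hr'
          have h0 := wt_two (mem_monoTup.1 hm).2.injective
          have h1 := wt_two (mem_monoTup.1 hm₁).2.injective
          rw [hw] at h0
          rw [hw₁] at h1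
          refine eq_of_exc_le_one ?_ ?_ ?_
          · interval_cases r <;> omega
          · rw [card_runner (mem_monoTup.1 hm).2.injective,
              card_runner (mem_monoTup.1 hm₁).2.injective, hr, hr₁]
          · interval_cases r <;> omega
        obtain rfl := eq_of_runners two_pos (mem_monoTup.1 hm).2 (mem_monoTup.1 hm₁).2 hrun
        obtain rfl := irr_eq_of_tuple hε hε₁ he he₁
        by_cases ht : twist χ = χ
        · have := hS rfl ht
          have := hS₁ rfl ht
          omega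
        · have := hA (Or.inr ht)
          have := hA₁ (Or.inr ht)
          omega
      · suffices key : ∀ (θ' : Cfsg.IrrCharacter (alternatingGroup σ)), θ' ∈ B →
            (Cfsg.charDegree (θ' : alternatingGroup σ → ℂ)).factorization 2 + ((wt 2 γ₀) +
              ((wt 2 γ₀) !).factorization 2) = ((Fintype.card σ)!).factorization 2 by
          have := key θ hθ
          have := key θ₁ hθ₁
          omega
        clear! θ θ₁ χ χ₁ γ γ₁
        intro θ hθ
        obtain ⟨χ, hχ, hne⟩ := hover θ hθ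
        obtain ⟨γ, hm, hr, hw, ⟨ε, hε, he⟩, hs, hA, hS⟩ :=
          exists_tuple_below hp.out hN hγ₀ hχ hne
        have hi := (mem_monoTup.1 hm).2.injective
        have hγ := (mem_monoTup.1 hm).1
        rcases (show (wt 2 γ₀) = 1 ∨ (wt 2 γ₀) = 2 by omega) with hw1 | hw2
        · have hns : twist χ ≠ χ := fun ht => by
            have h0 := exc_eq_of_isSelfComp hN0 hi (hs ht)
            have h1 := wt_two hi
            rw [hw] at h1
            omega
          have h1 := hookVal_le hp.out hγ hi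
          have h2 := wt_le_hookVal hp.out (n := Fintype.card σ) hi
          rw [hw] at h1 h2
          rw [hw1, Nat.factorial_one, Nat.factorization_one, Finsupp.zero_apply]
          rw [hw1, Nat.factorial_one, Nat.factorization_one, Finsupp.zero_apply] at h1
          have := hA (Or.inr hns)
          omega
        · have hC3 : ((wt 2 γ₀) + ((wt 2 γ₀) !).factorization 2) = 3 := by
            rw [hw2, show (2 : ℕ)! = 2 from rfl, hp.out.factorization_self]
          by_cases ht : twist χ = χ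
          · have h0 := exc_eq_of_isSelfComp hN0 hi (hs ht)
            rcases hookVal_weight_two (n := Fintype.card σ) hγ hi (hw.trans hw2) with ⟨-, -, hv⟩ | ⟨hne', -⟩
            · have := hS rfl ht
              omega
            · exact absurd h0.symm hne'
          · rcases hookVal_weight_two (n := Fintype.card σ) hγ hi (hw.trans hw2) with ⟨h0, h1, hv⟩ | ⟨-, hv⟩
            · exfalso
              obtain ⟨γ', hm', hr', hw', ⟨ε', hε', he'⟩, hv'⟩ :=
                exists_member_tuple hp.out hN hγ₀ (htw rfl χ hχ)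
              have hvχ := (factorization_below hp.out hne).1 (Or.inr ht)
              have hvθ := hA (Or.inr ht)
              rw [charDegree_twist] at hv'
              have hi' := (mem_monoTup.1 hm').2.injective
              rcases hookVal_weight_two (n := Fintype.card σ)
                (mem_monoTup.1 hm').1 hi' (hw'.trans hw2) with
                ⟨g0, g1, -⟩ | ⟨-, g⟩
              · have hrun : ∀ r < 2, runner 2 γ' r = runner 2 γ r := by
                  intro r hr2
                  refine eq_of_exc_le_one ?_ ?_ ?_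
                  · interval_cases r <;> omega
                  · rw [card_runner hi', card_runner hi, hr, hr']
                  · interval_cases r <;> omega
                obtain rfl := eq_of_runners two_pos (mem_monoTup.1 hm').2 (mem_monoTup.1 hm).2 hrun
                exact ht (irr_eq_of_tuple hε' hε he' he)
              · omega
            · have := hA (Or.inr ht)
              omega
    · refine Or.inl ⟨by omega, fun _ => hge, ?_⟩
      obtain ⟨γ₁, hm₁, hr₁, -, hv₁, hns₁⟩ := exists_hookVal_max hp.out hN hγ₀ hi₀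
      obtain ⟨θ₁, hθ₁, h₁⟩ := exists_below_of_tuple hp.out hN hm₁ hr₁
        (Or.inr (hns₁ rfl (by omega) hN0)) hbelow
      obtain ⟨γ₂, hm₂, hr₂, -, hns₂, hv₂⟩ := exists_hookVal_pred_two hN hN0 hγ₀ hi₀ hge
      obtain ⟨θ₂, hθ₂, h₂⟩ := exists_below_of_tuple hp.out hN hm₂ hr₂ (Or.inr hns₂) hbelow
      refine ⟨θ₂, hθ₂, blockHeight_eq_one (C := ((wt 2 γ₀) + ((wt 2 γ₀) !).factorization 2))
        (V := ((Fintype.card σ)!).factorization 2) (fun θ hθ => ?_) hθ₁ (by omega)
        (by omega)⟩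
      obtain ⟨χ, hχ, hne⟩ := hover θ hθ
      obtain ⟨γ, hm, hr, hw, -, hs, hA, hS⟩ := exists_tuple_below hp.out hN hγ₀ hχ hne
      obtain ⟨hγ, hmono⟩ := mem_monoTup.1 hm
      by_cases ht : twist χ = χ
      · have h1 := hookVal_self_lt hN0 hγ hmono.injective (hs ht) (by omega)
        rw [hw] at h1
        have := hS rfl ht
        omega
      · have h1 := hookVal_le hp.out hγ hmono.injective
        rw [hw] at h1
        have := hA (Or.inr ht)
        omega
  · have hp3 : 3 ≤ p := by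
      have := hp.out.two_le
      omega
    have hle : ∀ θ ∈ B, ((Fintype.card σ)!).factorization p ≤
      (Cfsg.charDegree (θ : alternatingGroup σ → ℂ)).factorization p + ((wt p γ₀) +
        ((wt p γ₀) !).factorization p) ∧
        (Cfsg.charDegree (θ : alternatingGroup σ → ℂ)).factorization p + (wt p γ₀) ≤
          ((Fintype.card σ)!).factorization p := by
      intro θ hθ
      obtain ⟨χ, hχ, hne⟩ := hover θ hθ
      obtain ⟨γ, hm, hr, hw, -, -, hA, -⟩ := exists_tuple_below hp.out hN hγ₀ hχ hne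
      obtain ⟨hγ, hmono⟩ := mem_monoTup.1 hm
      have h1 := hookVal_le hp.out hγ hmono.injective
      have h3 := wt_le_hookVal hp.out (n := Fintype.card σ) hmono.injective
      rw [hw] at h1 h3
      have := hA (Or.inl h2)
      exact ⟨by omega, by omega⟩
    rcases Nat.lt_or_ge (wt p γ₀) p with hlt | hge
    · refine Or.inr ⟨fun h => absurd h h2, fun _ => hlt, fun θ hθ => ?_⟩
      refine blockHeight_eq_zero (C := (wt p γ₀)) (V := ((Fintype.card σ)!).factorization p)
        (fun ψ hψ => ?_) hθ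
      have := hle ψ hψ
      rw [factorization_factorial_lt hp.out hlt] at this
      omega
    · refine Or.inl ⟨hge, fun h => absurd h h2, ?_⟩
      obtain ⟨γ₁, hm₁, hr₁, -, hv₁, -⟩ := exists_hookVal_max hp.out hN hγ₀ hi₀
      obtain ⟨θ₁, hθ₁, h₁⟩ := exists_below_of_tuple hp.out hN hm₁ hr₁ (Or.inl h2) hbelow
      obtain ⟨γ₂, hm₂, hr₂, -, hv₂⟩ := exists_hookVal_pred_odd hp.out hp3 hN hγ₀ hi₀ hge
      obtain ⟨θ₂, hθ₂, h₂⟩ := exists_below_of_tuple hp.out hN hm₂ hr₂ (Or.inl h2) hbelow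
      exact ⟨θ₂, hθ₂, blockHeight_eq_one (C := ((wt p γ₀) + ((wt p γ₀) !).factorization p))
        (V := ((Fintype.card σ)!).factorization p) (fun θ hθ => (hle θ hθ).1) hθ₁
        (by omega) (by omega)⟩

end Cfsg.Agent.H15.SymBlocks
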