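import Cfsg.Agent.H15.SymBlocks.Parts

/-!
# Counting self-complementary tuples

A tuple is self-complementary when its values lie below `2N` and no two of them add up to `2N - 1`.
Cutting such a tuple into residue runners gives mirror pairs of runners with equal excess and, for
odd `p`, one symmetric middle runner.
-/

set_option linter.unusedSectionVars false

namespace Cfsg.Agent.H15.SymBlocks

open Finset

variable {σ : Type} [Fintype σ] [DecidableEq σ] {N p : ℕ}

/-- Self-complementary tuples. -/
def IsSelfComp (γ : Fin N → ℕ) : Prop :=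
  (∀ i, γ i < N + N) ∧ ∀ i j, γ i + γ j ≠ N + N - 1

/-- The self-complementary increasing tuples with given residue vector and weight. -/
noncomputable def selfTup (N p : ℕ) (σ : Type) [Fintype σ] (κ : ℕ → ℕ) (w : ℕ) :
    Finset (Fin N → ℕ) := by
  classical exact (monoTup σ N).filter fun γ => IsSelfComp γ ∧ rcnt p γ = κ ∧ wt p γ = w

/-- The mirror residue. -/
def mirror (N p r : ℕ) : ℕ := (N + N - 1 - r) % p

/-- The length of a runner below `2N`. -/
def rlen (N p r : ℕ) : ℕ := (N + N - 1 - r) / p + 1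

/-- The quotients of the entries with a given residue. -/
def runner (p : ℕ) (γ : Fin N → ℕ) (r : ℕ) : Finset ℕ :=
  (univ.filter fun j => γ j % p = r).image fun j => γ j / p

theorem mem_runner (hp : 0 < p) (γ : Fin N → ℕ) {r : ℕ} (hr : r < p) (q : ℕ) :
    q ∈ runner p γ r ↔ r + p * q ∈ univ.image γ := by
  simp only [runner, Finset.mem_image, Finset.mem_filter, Finset.mem_univ, true_and]
  constructor
  · rintro ⟨j, hj, rfl⟩
    exact ⟨j, by rw [← hj, Nat.mod_add_div]⟩
  · rintro ⟨j, hj⟩
    refine ⟨j, ?_, ?_⟩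
    · rw [hj, Nat.add_mul_mod_self_left, Nat.mod_eq_of_lt hr]
    · rw [hj, Nat.add_mul_div_left _ _ hp, Nat.div_eq_of_lt hr, zero_add]

theorem injOn_div {γ : Fin N → ℕ} (hi : Function.Injective γ) (r : ℕ) :
    Set.InjOn (fun j => γ j / p) (univ.filter fun j => γ j % p = r : Finset (Fin N)) := by
  intro a ha b hb hab
  simp only [Finset.coe_filter, Finset.mem_univ, true_and, Set.mem_ofPred_eq] at ha hb
  refine hi ?_
  rw [← Nat.mod_add_div (γ a) p, ← Nat.mod_add_div (γ b) p, ha, hb,
    show γ a / p = γ b / p from hab]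

theorem card_runner {γ : Fin N → ℕ} (hi : Function.Injective γ) (r : ℕ) :
    (runner p γ r).card = rcnt p γ r :=
  Finset.card_image_of_injOn (injOn_div hi r)

theorem runner_subset (hp : 0 < p) {γ : Fin N → ℕ} (h : IsSelfComp γ) {r : ℕ} (hr : r < p) :
    runner p γ r ⊆ Finset.range (rlen N p r) := by
  intro q hq
  obtain ⟨j, -, hj⟩ := Finset.mem_image.1 ((mem_runner hp γ hr q).1 hq)
  have := h.1 j
  rw [Finset.mem_range, rlen, Nat.lt_succ_iff, Nat.le_div_iff_mul_le hp, mul_comm]
  omega

theorem wt_eq_sum_exc (hp : 0 < p) {γ : Fin N → ℕ} (hi : Function.Injective γ) :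
    wt p γ = ∑ r ∈ Finset.range p, exc (runner p γ r) := by
  have h1 : qsum p γ = ∑ r ∈ Finset.range p, ∑ q ∈ runner p γ r, q := by
    rw [qsum, ← Finset.sum_fiberwise_of_maps_to (g := fun j => γ j % p)
      (fun j _ => Finset.mem_range.2 (Nat.mod_lt _ hp))]
    exact Finset.sum_congr rfl fun r _ => by rw [runner, Finset.sum_image (injOn_div hi r)]
  have h2 : core p (rcnt p γ) = ∑ r ∈ Finset.range p, ∑ q ∈ Finset.range (runner p γ r).card, q :=
    Finset.sum_congr rfl fun r _ => by rw [card_runner hi]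
  rw [wt, h1, h2]
  simp only [exc]
  exact (Finset.sum_tsub_distrib _ fun r _ => sum_range_le_sum_set _).symm

theorem mirror_spec (hp : 0 < p) (hpN : p ≤ N + N) {r : ℕ} (hr : r < p) :
    mirror N p r < p ∧ mirror N p (mirror N p r) = r ∧ rlen N p (mirror N p r) = rlen N p r := by
  have h1 : mirror N p r < p := Nat.mod_lt _ hp
  have h2 : N + N - 1 - mirror N p r = r + p * ((N + N - 1 - r) / p) := by
    have := Nat.mod_add_div (N + N - 1 - r) p
    simp only [mirror] at h1 ⊢
    omega
  refine ⟨h1, ?_, ?_⟩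
  · rw [mirror, h2, Nat.add_mul_mod_self_left, Nat.mod_eq_of_lt hr]
  · rw [rlen, h2, Nat.add_mul_div_left _ _ hp, Nat.div_eq_of_lt hr, zero_add, rlen]

theorem mem_image_iff_not_mem {γ : Fin N → ℕ} (hi : Function.Injective γ) (h : IsSelfComp γ)
    {x : ℕ} (hx : x < N + N) : x ∈ univ.image γ ↔ N + N - 1 - x ∉ univ.image γ := by
  classical
  set S := univ.image γ with hS
  have hsub : ∀ y ∈ S, y < N + N := by
    intro y hy
    obtain ⟨i, -, rfl⟩ := Finset.mem_image.1 hy
    exact h.1 i
  constructor
  · intro hxS hmS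
    obtain ⟨i, -, hi'⟩ := Finset.mem_image.1 hxS
    obtain ⟨j, -, hj⟩ := Finset.mem_image.1 hmS
    exact h.2 i j (by omega)
  · intro hm
    set T := S.image fun y => N + N - 1 - y with hT
    have hdisj : Disjoint S T := by
      rw [Finset.disjoint_left]
      intro y hy hy'
      obtain ⟨i, -, rfl⟩ := Finset.mem_image.1 hy
      obtain ⟨z, hz, hzy⟩ := Finset.mem_image.1 hy'
      obtain ⟨j, -, rfl⟩ := Finset.mem_image.1 hz
      have := h.1 j
      exact h.2 i j (by omega)
    have hcardS : S.card = N := by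
      rw [hS, Finset.card_image_of_injective _ hi, Finset.card_univ, Fintype.card_fin]
    have hcardT : T.card = N := by
      rw [hT, Finset.card_image_of_injOn, hcardS]
      intro a ha b hb hab
      have := hsub a ha
      have := hsub b hb
      simp only at hab
      omega
    have hu : S ∪ T = Finset.range (N + N) := by
      refine Finset.eq_of_subset_of_card_le (fun y hy => ?_) ?_
      · rw [Finset.mem_range]
        rcases Finset.mem_union.1 hy with hy | hy
        · exact hsub y hy
        · obtain ⟨z, hz, rfl⟩ := Finset.mem_image.1 hy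
          have := hsub z hz
          omega
      · rw [Finset.card_range, Finset.card_union_of_disjoint hdisj, hcardS, hcardT]
    have : x ∈ S ∪ T := by rw [hu]; exact Finset.mem_range.2 hx
    rcases Finset.mem_union.1 this with hy | hy
    · exact hy
    · obtain ⟨z, hz, hzx⟩ := Finset.mem_image.1 hy
      have := hsub z hz
      exact absurd (by rwa [show N + N - 1 - x = z by omega]) hm

theorem runner_mirror (hp : 0 < p) (hpN : p ≤ N + N) {γ : Fin N → ℕ} (hi : Function.Injective γ)
    (h : IsSelfComp γ) {r : ℕ} (hr : r < p) :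
    runner p γ (mirror N p r) =
      (Finset.range (rlen N p r)).filter fun q => rlen N p r - 1 - q ∉ runner p γ r := by
  obtain ⟨hm, -, hlen⟩ := mirror_spec hp hpN hr
  ext q
  rw [Finset.mem_filter]
  constructor
  · intro hq
    have hqL := runner_subset hp h hm hq
    rw [hlen] at hqL
    refine ⟨hqL, fun hq' => ?_⟩
    rw [mem_runner hp γ hm] at hq
    rw [mem_runner hp γ hr] at hq'
    have hlt : mirror N p r + p * q < N + N := by
      obtain ⟨i, -, hi'⟩ := Finset.mem_image.1 hq
      rw [← hi']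
      exact h.1 i
    refine (mem_image_iff_not_mem hi h hlt).1 hq ?_
    convert hq' using 1
    rw [Finset.mem_range, rlen] at hqL
    have e := Nat.mod_add_div (N + N - 1 - r) p
    have hle : p * q ≤ p * ((N + N - 1 - r) / p) := Nat.mul_le_mul_left p (Nat.lt_succ_iff.1 hqL)
    simp only [rlen, mirror, Nat.add_sub_cancel, Nat.mul_sub]
    omega
  · rintro ⟨hqL, hq'⟩
    rw [Finset.mem_range, rlen] at hqL
    have e := Nat.mod_add_div (N + N - 1 - r) p
    have hle : p * q ≤ p * ((N + N - 1 - r) / p) := Nat.mul_le_mul_left p (Nat.lt_succ_iff.1 hqL)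
    rw [mem_runner hp γ hr] at hq'
    rw [mem_runner hp γ hm, mem_image_iff_not_mem hi h (by simp only [mirror]; omega)]
    convert hq' using 2
    simp only [rlen, mirror, Nat.add_sub_cancel, Nat.mul_sub]
    omega

theorem card_flip (L : ℕ) {A : Finset ℕ} (hA : A ⊆ Finset.range L) :
    ((Finset.range L).filter fun q => L - 1 - q ∉ A).card + A.card = L := by
  have h : ((Finset.range L).filter fun q => L - 1 - q ∉ A).card =
      ((Finset.range L).filter fun q => q ∉ A).card := by
    refine Finset.card_nbij' (fun q => L - 1 - q) (fun q => L - 1 - q) ?_ ?_ ?_ ?_ <;>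
      intro q hq <;> simp only [Finset.mem_coe, Finset.mem_filter, Finset.mem_range] at hq ⊢
    · exact ⟨by omega, hq.2⟩
    · exact ⟨by omega, by rw [show L - 1 - (L - 1 - q) = q by omega]; exact hq.2⟩
    · omega
    · omega
  rw [h, ← Finset.sdiff_eq_filter, Finset.card_sdiff_of_subset hA, Finset.card_range]
  have := Finset.card_le_card hA
  rw [Finset.card_range] at this
  omega

theorem exc_flip (L : ℕ) {A : Finset ℕ} (hA : A ⊆ Finset.range L) :
    exc ((Finset.range L).filter fun q => L - 1 - q ∉ A) = exc A := by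
  set B := (Finset.range L).filter fun q => L - 1 - q ∉ A with hB
  set C := (Finset.range L).filter fun q => q ∉ A with hC
  have hc := card_flip L hA
  rw [← hB] at hc
  have h1 : ∑ q ∈ B, q + ∑ q ∈ C, q = B.card * (L - 1) := by
    have e : ∑ q ∈ C, q = ∑ q ∈ B, (L - 1 - q) := by
      refine Finset.sum_nbij' (fun q => L - 1 - q) (fun q => L - 1 - q) ?_ ?_ ?_ ?_ ?_ <;>
        intro q hq <;>
        simp only [hB, hC, Finset.mem_filter, Finset.mem_range] at hq ⊢
      · exact ⟨by omega, by rw [show L - 1 - (L - 1 - q) = q by omega]; exact hq.2⟩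
      · exact ⟨by omega, hq.2⟩
      · omega
      · omega
      · omega
    rw [e, ← Finset.sum_add_distrib, ← smul_eq_mul, ← Finset.sum_const]
    refine Finset.sum_congr rfl fun q hq => ?_
    simp only [hB, Finset.mem_filter, Finset.mem_range] at hq
    omega
  have h2 : ∑ q ∈ C, q + ∑ q ∈ A, q = ∑ q ∈ Finset.range L, q := by
    rw [hC, ← Finset.sdiff_eq_filter, Finset.sum_sdiff hA]
  have h3 : ∑ q ∈ Finset.range L, q = ∑ q ∈ Finset.range A.card, q +
      ∑ q ∈ Finset.range B.card, q + A.card * B.card := by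
    rw [← hc, add_comm B.card, Finset.sum_range_add, Finset.sum_add_distrib, Finset.sum_const,
      Finset.card_range, smul_eq_mul]
    ring
  have h4 : B.card * (L - 1) = 2 * ∑ q ∈ Finset.range B.card, q + A.card * B.card := by
    rw [← hc, mul_comm 2, Finset.sum_range_id_mul_two]
    rcases Nat.eq_zero_or_pos B.card with e | e
    · simp [e]
    · rw [show B.card + A.card - 1 = B.card - 1 + A.card by omega, mul_add, mul_comm A.card]
  have h5 := sum_range_le_sum_set A
  have h6 := sum_range_le_sum_set B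
  unfold exc
  omega

/-- Sets of distinct odd hook lengths of total `b`. -/
def oddSets (b : ℕ) : Finset (Finset ℕ) :=
  (Finset.range ((b + 1) / 2)).powerset.filter fun U => ∑ u ∈ U, (2 * u + 1) = b

theorem card_oddSets_le (b : ℕ) : (oddSets b).card ≤ 2 ^ ((b + 1) / 2) :=
  (Finset.card_filter_le _ _).trans (le_of_eq (by rw [Finset.card_powerset, Finset.card_range]))

/-- The upper half of a symmetric runner. -/
def upperHalf (k : ℕ) (A : Finset ℕ) : Finset ℕ := (Finset.range k).filter fun u => k + u ∈ A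

theorem exc_symm {k : ℕ} {A : Finset ℕ} (hA : A ⊆ Finset.range (2 * k))
    (hsym : ∀ q < 2 * k, q ∈ A ↔ 2 * k - 1 - q ∉ A) :
    A.card = k ∧ exc A = ∑ u ∈ upperHalf k A, (2 * u + 1) := by
  have hfl : (Finset.range (2 * k)).filter (fun q => 2 * k - 1 - q ∉ A) = A := by
    ext q
    simp only [Finset.mem_filter, Finset.mem_range]
    exact ⟨fun h => (hsym q h.1).2 h.2,
      fun h => ⟨Finset.mem_range.1 (hA h), (hsym q (Finset.mem_range.1 (hA h))).1 h⟩⟩
  have hcard : A.card = k := by
    have := card_flip (2 * k) hA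
    rw [hfl] at this
    omega
  refine ⟨hcard, ?_⟩
  have h1 : ∑ q ∈ A, q = ∑ q ∈ Finset.range (2 * k), if q ∈ A then q else 0 := by
    rw [← Finset.sum_filter, Finset.filter_mem_eq_inter, Finset.inter_eq_right.2 hA]
  rw [two_mul, Finset.sum_range_add,
    ← Finset.sum_range_reflect (fun q => if q ∈ A then q else 0) k, ← Finset.sum_add_distrib] at h1
  have h2 : ∀ u ∈ Finset.range k, ((if k - 1 - u ∈ A then k - 1 - u else 0) +
      if k + u ∈ A then k + u else 0) = (k - 1 - u) + if k + u ∈ A then 2 * u + 1 else 0 := by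
    intro u hu
    rw [Finset.mem_range] at hu
    have h := hsym (k - 1 - u) (by omega)
    rw [show 2 * k - 1 - (k - 1 - u) = k + u by omega] at h
    by_cases hk : k + u ∈ A
    · rw [if_neg (fun e => h.1 e hk), if_pos hk, if_pos hk]
      omega
    · rw [if_pos (h.2 hk), if_neg hk, if_neg hk]
  rw [Finset.sum_congr rfl h2, Finset.sum_add_distrib, Finset.sum_range_reflect (fun q => q) k,
    ← Finset.sum_filter] at h1
  rw [exc, hcard, h1, Nat.add_sub_cancel_left]
  rfl

theorem eq_of_runners (hp : 0 < p) {γ β : Fin N → ℕ} (hγ : StrictMono γ) (hβ : StrictMono β)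
    (h : ∀ r < p, runner p γ r = runner p β r) : γ = β := by
  have himg : univ.image γ = univ.image β := by
    ext x
    rw [← Nat.mod_add_div x p, ← mem_runner hp γ (Nat.mod_lt _ hp),
      ← mem_runner hp β (Nat.mod_lt _ hp), h _ (Nat.mod_lt _ hp)]
  refine (hγ.range_inj hβ).1 ?_
  have := congrArg (fun s : Finset ℕ => (s : Set ℕ)) himg
  simpa using this

theorem mem_selfTup {κ : ℕ → ℕ} {w : ℕ} {γ : Fin N → ℕ} :
    γ ∈ selfTup N p σ κ w ↔ γ ∈ monoTup σ N ∧ IsSelfComp γ ∧ rcnt p γ = κ ∧ wt p γ = w := by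
  simp [selfTup]

theorem exc_runner_mirror (hp : 0 < p) (hpN : p ≤ N + N) {γ : Fin N → ℕ}
    (hi : Function.Injective γ) (h : IsSelfComp γ) {r : ℕ} (hr : r < p) :
    exc (runner p γ (mirror N p r)) = exc (runner p γ r) := by
  rw [runner_mirror hp hpN hi h hr, exc_flip _ (runner_subset hp h hr)]

/-- For `p = 2` the weight is even and the tuple is given by one runner. -/
theorem card_selfTup_two (hN : 0 < N) (κ : ℕ → ℕ) (w : ℕ) :
    (selfTup N 2 σ κ w).card ≤ if 2 ∣ w then nparts (w / 2) else 0 := by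
  classical
  have hm0 : mirror N 2 0 = 1 := by simp only [mirror]; omega
  have hw : ∀ γ ∈ selfTup N 2 σ κ w, w = exc (runner 2 γ 0) + exc (runner 2 γ 0) := by
    intro γ hγ
    rw [mem_selfTup, mem_monoTup] at hγ
    obtain ⟨⟨-, hmono⟩, hself, -, hwt⟩ := hγ
    rw [← hwt, wt_eq_sum_exc (by norm_num) hmono.injective, Finset.sum_range_succ,
      Finset.sum_range_one]
    congr 1
    have h := exc_runner_mirror (p := 2) (r := 0) (by norm_num) (by omega) hmono.injective hself (by norm_num)
    rwa [hm0] at h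
  split_ifs with hd
  · refine le_trans ?_ (card_excSets_le (rlen N 2 0) (κ 0) (w / 2))
    refine Finset.card_le_card_of_injOn (fun γ => runner 2 γ 0) (fun γ hγ => ?_) ?_
    · rw [Finset.mem_coe] at hγ
      have := hw γ hγ
      rw [mem_selfTup, mem_monoTup] at hγ
      obtain ⟨⟨-, hmono⟩, hself, hκ, -⟩ := hγ
      rw [Finset.mem_coe, excSets, Finset.mem_filter, Finset.mem_powersetCard,
        card_runner hmono.injective, hκ]
      exact ⟨⟨runner_subset (by norm_num) hself (by norm_num), rfl⟩,
        show exc (runner 2 γ 0) = w / 2 by omega⟩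
    · intro γ hγ β hβ h
      rw [Finset.mem_coe, mem_selfTup, mem_monoTup] at hγ hβ
      refine eq_of_runners (p := 2) (by norm_num) hγ.1.2 hβ.1.2 fun r hr => ?_
      interval_cases r
      · exact h
      · rw [← hm0, runner_mirror (by norm_num) (by omega) hγ.1.2.injective hγ.2.1 (by norm_num),
          runner_mirror (by norm_num) (by omega) hβ.1.2.injective hβ.2.1 (by norm_num),
          show runner 2 γ 0 = runner 2 β 0 from h]
  · refine le_of_eq (Finset.card_eq_zero.2 (Finset.eq_empty_of_forall_notMem fun γ hγ => hd ?_))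
    rw [hw γ hγ]
    exact ⟨_, (two_mul _).symm⟩

theorem card_piAntidiag_le {ι : Type} [Fintype ι] [DecidableEq ι] (e : ℕ) :
    (Finset.piAntidiag (univ : Finset ι) e).card ≤ Fintype.card ι ^ e := by
  classical
  have h : Finset.piAntidiag (univ : Finset ι) e ⊆ (univ : Finset (Fin e → ι)).image cnt := by
    intro m hm
    have h2 := card_fiber_mul (σ := Fin e) m (by rwa [Fintype.card_fin])
    obtain ⟨f, hf⟩ : (univ.filter fun f : Fin e → ι => cnt f = m).Nonempty := by
      rw [← Finset.card_pos]
      refine Nat.pos_of_ne_zero fun e0 => ?_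
      rw [e0, zero_mul] at h2
      exact Nat.factorial_ne_zero _ h2.symm
    exact Finset.mem_image.2 ⟨f, Finset.mem_univ _, (Finset.mem_filter.1 hf).2⟩
  refine (Finset.card_le_card h).trans (Finset.card_image_le.trans ?_)
  rw [Finset.card_univ, Fintype.card_fun, Fintype.card_fin]

/-- For odd `p`. -/
theorem card_selfTup_odd (hp2 : ¬ 2 ∣ p) (hpN : p ≤ N + N) (κ : ℕ → ℕ) (w : ℕ) :
    (selfTup N p σ κ w).card ≤
      ∑ e ∈ Finset.range (w / 2 + 1), (p - 1) ^ e * (oddSets (w - 2 * e)).card := by
  classical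
  have hp : 0 < p := Nat.pos_of_ne_zero fun e => hp2 (e ▸ dvd_zero 2)
  set m := mirror N p with hm
  set Lo := (Finset.range p).filter fun r => r < m r with hLo
  set Hi := (Finset.range p).filter fun r => m r < r with hHi
  set Fx := (Finset.range p).filter fun r => m r = r with hFx
  have hsplit : ∀ f : ℕ → ℕ, ∑ r ∈ Finset.range p, f r =
      ∑ r ∈ Lo, f r + ∑ r ∈ Hi, f r + ∑ r ∈ Fx, f r := by
    intro f
    rw [hLo, hHi, hFx, Finset.sum_filter, Finset.sum_filter, Finset.sum_filter,
      ← Finset.sum_add_distrib, ← Finset.sum_add_distrib]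
    refine Finset.sum_congr rfl fun r _ => ?_
    rcases lt_trichotomy r (m r) with h | h | h
    · simp [h, h.not_gt, h.ne']
    · simp [← h]
    · simp [h, h.not_gt, h.ne]
  have hms : ∀ r < p, m r < p ∧ m (m r) = r ∧ rlen N p (m r) = rlen N p r :=
    fun r hr => mirror_spec hp hpN hr
  have hLH : ∀ f : ℕ → ℕ, ∑ r ∈ Hi, f r = ∑ r ∈ Lo, f (m r) := by
    intro f
    refine Finset.sum_nbij' m m ?_ ?_ ?_ ?_ ?_ <;> intro r hr <;>
      simp only [hLo, hHi, Finset.mem_filter, Finset.mem_range] at hr ⊢ <;>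
      obtain ⟨h1, h2, -⟩ := hms r hr.1 <;> simp only [h2] <;>
      first | trivial | exact ⟨h1, hr.2⟩
  have hfx1 : ∀ r ∈ Fx, ∀ r' ∈ Fx, r = r' := by
    intro r hr r' hr'
    simp only [hFx, hm, mirror, Finset.mem_filter, Finset.mem_range] at hr hr'
    have key : ∀ s, s < p → (N + N - 1 - s) % p = s → 2 * s ≡ N + N - 1 [MOD p] := by
      intro s hs e
      have e1 := Nat.mod_add_div (N + N - 1 - s) p
      rw [e] at e1
      have e2 : N + N - 1 = 2 * s + p * ((N + N - 1 - s) / p) := by omega
      rw [e2]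
      exact (Nat.ModEq.symm (by simp [Nat.ModEq, Nat.add_mul_mod_self_left]))
    have h := (key r hr.1 hr.2).trans (key r' hr'.1 hr'.2).symm
    have h' : r ≡ r' [MOD p] := Nat.ModEq.cancel_left_of_coprime
      (c := 2) ((Nat.prime_two.coprime_iff_not_dvd).2 hp2).symm h
    rwa [Nat.ModEq, Nat.mod_eq_of_lt hr.1, Nat.mod_eq_of_lt hr'.1] at h'
  have hcount : p = Lo.card + Lo.card + Fx.card := by
    have h1 := hsplit (fun _ => 1)
    rw [hLH] at h1
    simpa using h1
  obtain ⟨r₀, hr₀⟩ : Fx.Nonempty := by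
    rw [← Finset.card_pos]
    omega
  have hFxs : Fx = {r₀} := by
    ext r
    rw [Finset.mem_singleton]
    exact ⟨fun h => hfx1 r h r₀ hr₀, fun h => h ▸ hr₀⟩
  obtain ⟨hr₀p, hr₀m⟩ := Finset.mem_filter.1 hr₀
  rw [Finset.mem_range] at hr₀p
  -- the target
  let T := (Finset.range (w / 2 + 1)).sigma fun e =>
    (Finset.piAntidiag (univ : Finset Lo) e).sigma fun v =>
      (Fintype.piFinset fun r : Lo => excSets (rlen N p r) (κ r) (v r)) ×ˢ oddSets (w - 2 * e)
  let enc : (Fin N → ℕ) → Σ _ : ℕ, Σ _ : Lo → ℕ, (Lo → Finset ℕ) × Finset ℕ := fun γ =>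
    ⟨∑ r : Lo, exc (runner p γ r), fun r => exc (runner p γ r),
      fun r => runner p γ r, upperHalf (κ r₀) (runner p γ r₀)⟩
  have hkey : ∀ γ ∈ selfTup N p σ κ w,
      runner p γ r₀ ⊆ Finset.range (2 * κ r₀) ∧
      (∀ q < 2 * κ r₀, q ∈ runner p γ r₀ ↔ 2 * κ r₀ - 1 - q ∉ runner p γ r₀) ∧
      w = 2 * ∑ r : Lo, exc (runner p γ r) + exc (runner p γ r₀) := by
    intro γ hγ
    rw [mem_selfTup, mem_monoTup] at hγ
    obtain ⟨⟨-, hmono⟩, hself, hκ, hwt⟩ := hγ
    have hfl := runner_mirror hp hpN hmono.injective hself hr₀p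
    rw [← hm, hr₀m] at hfl
    have hc := card_flip (rlen N p r₀) (runner_subset hp hself hr₀p)
    rw [← hfl, card_runner hmono.injective, hκ] at hc
    have hlen : rlen N p r₀ = 2 * κ r₀ := by omega
    refine ⟨hlen ▸ runner_subset hp hself hr₀p, fun q hq => ?_, ?_⟩
    · conv_lhs => rw [hfl]
      rw [Finset.mem_filter, Finset.mem_range, hlen]
      exact and_iff_right hq
    · rw [← hwt, wt_eq_sum_exc hp hmono.injective, hsplit, hFxs, Finset.sum_singleton, hLH,
        two_mul, Finset.sum_coe_sort Lo fun r => exc (runner p γ r)]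
      congr 2
      refine Finset.sum_congr rfl fun r hr => ?_
      exact exc_runner_mirror hp hpN hmono.injective hself
        (Finset.mem_range.1 (Finset.mem_filter.1 hr).1)
  have hinj : (selfTup N p σ κ w).card ≤ T.card := by
    refine Finset.card_le_card_of_injOn enc (fun γ hγ => ?_) ?_
    · rw [Finset.mem_coe] at hγ ⊢
      obtain ⟨h1, h2, h3⟩ := hkey γ hγ
      rw [mem_selfTup, mem_monoTup] at hγ
      obtain ⟨⟨-, hmono⟩, hself, hκ, -⟩ := hγ
      simp only [T, enc, Finset.mem_sigma, Finset.mem_range, Finset.mem_piAntidiag,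
        Finset.mem_product, Fintype.mem_piFinset, Finset.mem_univ, implies_true, and_true]
      refine ⟨by omega, ?_, fun r => ?_, ?_⟩
      · trivial
      · rw [excSets, Finset.mem_filter, Finset.mem_powersetCard, card_runner hmono.injective, hκ]
        exact ⟨⟨runner_subset hp hself
          (Finset.mem_range.1 (Finset.mem_filter.1 r.2).1), rfl⟩, rfl⟩
      · obtain ⟨-, hexc⟩ := exc_symm h1 h2
        rw [oddSets, Finset.mem_filter, Finset.mem_powerset, ← hexc]
        refine ⟨fun u hu => Finset.mem_range.2 ?_, by omega⟩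
        have := Finset.single_le_sum (f := fun u => 2 * u + 1) (fun _ _ => Nat.zero_le _) hu
        omega
    · intro γ hγ β hβ h
      rw [Finset.mem_coe] at hγ hβ
      obtain ⟨g1, g2, -⟩ := hkey γ hγ
      obtain ⟨b1, b2, -⟩ := hkey β hβ
      have hA := congrArg (fun x => x.2.2.1) h
      have hU := congrArg (fun x => x.2.2.2) h
      simp only [enc] at hA hU
      rw [mem_selfTup, mem_monoTup] at hγ hβ
      have hlo : ∀ r ∈ Lo, runner p γ r = runner p β r := fun r hr => congrFun hA ⟨r, hr⟩
      refine eq_of_runners hp hγ.1.2 hβ.1.2 fun r hr => ?_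
      rcases lt_trichotomy r (m r) with e | e | e
      · exact hlo r (Finset.mem_filter.2 ⟨Finset.mem_range.2 hr, e⟩)
      · obtain rfl : r = r₀ := hfx1 r (Finset.mem_filter.2 ⟨Finset.mem_range.2 hr, e.symm⟩) r₀ hr₀
        have hup : ∀ u < κ r, κ r + u ∈ runner p γ r ↔ κ r + u ∈ runner p β r := fun u hu => by
          simpa [upperHalf, hu] using Finset.ext_iff.1 hU u
        ext q
        by_cases hq : q < 2 * κ r
        · by_cases hq' : κ r ≤ q
          · simpa [Nat.add_sub_cancel' hq'] using hup (q - κ r) (by omega)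
          · rw [g2 q hq, b2 q hq]
            have := hup (κ r - 1 - q) (by omega)
            rw [show κ r + (κ r - 1 - q) = 2 * κ r - 1 - q by omega] at this
            exact not_congr this
        · exact ⟨fun h' => absurd (Finset.mem_range.1 (g1 h')) hq,
            fun h' => absurd (Finset.mem_range.1 (b1 h')) hq⟩
      · obtain ⟨h1, h2, -⟩ := hms r hr
        have hlo' := hlo (m r) (Finset.mem_filter.2 ⟨Finset.mem_range.2 h1, by rw [h2]; exact e⟩)
        have hg := runner_mirror hp hpN hγ.1.2.injective hγ.2.1 h1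
        have hb := runner_mirror hp hpN hβ.1.2.injective hβ.2.1 h1
        rw [← hm, h2] at hg hb
        rw [hg, hb, hlo']
  refine hinj.trans ?_
  simp only [T, Finset.card_sigma, Finset.card_product, Fintype.card_piFinset]
  refine Finset.sum_le_sum fun e _ => ?_
  rw [← Finset.sum_mul]
  refine Nat.mul_le_mul_right _ ?_
  have hh : 2 * Lo.card ≤ p - 1 := by
    have := Finset.card_pos.2 ⟨r₀, hr₀⟩
    omega
  calc ∑ v ∈ Finset.piAntidiag (univ : Finset Lo) e, ∏ r : Lo, (excSets (rlen N p r) (κ r) (v r)).card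
      ≤ ∑ v ∈ Finset.piAntidiag (univ : Finset Lo) e, 2 ^ e := by
        refine Finset.sum_le_sum fun v hv => ?_
        refine (Finset.prod_le_prod' fun r _ =>
          (card_excSets_le _ _ _).trans (nparts_le_two_pow (v r))).trans (le_of_eq ?_)
        rw [Finset.prod_pow_eq_pow_sum, (Finset.mem_piAntidiag.1 hv).1]
    _ ≤ Lo.card ^ e * 2 ^ e := by
        rw [Finset.sum_const, smul_eq_mul]
        refine Nat.mul_le_mul_right _ ((card_piAntidiag_le e).trans ?_)
        rw [Fintype.card_coe]
    _ ≤ (p - 1) ^ e := by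
        rw [← mul_pow]
        exact Nat.pow_le_pow_left (by omega) e

end Cfsg.Agent.H15.SymBlocks
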