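import Cfsg.Agent.H15.SymBlocks.Defect
import Cfsg.Agent.H15.SymBlocks.SelfCount

/-!
# Singular values in weight one

All characters of weight one with a given residue vector are proportional on the `p`-singular
elements.
-/

set_option linter.unusedSectionVars false

namespace Cfsg.Agent.H15.SymBlocks

open Finset

variable {σ : Type} [Fintype σ] [DecidableEq σ] {N p : ℕ}

/-- Two tuples of weight zero with the same residue vector differ by a permutation. -/
theorem exists_perm_of_weight_zero (hp : 0 < p) {γ β : Fin N → ℕ} (hγ : Function.Injective γ)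
    (hβ : Function.Injective β) (hr : rcnt p γ = rcnt p β) (hwγ : wt p γ = 0) (hwβ : wt p β = 0) :
    ∃ π : Equiv.Perm (Fin N), β ∘ π = γ := by
  have key : ∀ δ : Fin N → ℕ, Function.Injective δ → wt p δ = 0 → ∀ r < p,
      runner p δ r = Finset.range (rcnt p δ r) := by
    intro δ hδ hw r hr'
    rw [← card_runner hδ r]
    refine eq_range_of_closed fun q hq => ?_
    rw [mem_runner hp δ hr'] at hq ⊢
    by_contra hc
    obtain ⟨j, -, hj⟩ := Finset.mem_image.1 hq
    have hj' : δ j = r + p * q + p := by rw [hj]; ring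
    obtain ⟨h1, h2, -, h4⟩ := lower_spec hp hδ (j := j) (by omega) fun k hk =>
      hc (Finset.mem_image.2 ⟨k, Finset.mem_univ k, by rw [hk]; omega⟩)
    have h5 := core_le_qsum hp h1
    rw [h2] at h5
    have := qsum_eq_core_add_wt hp hδ
    omega
  have himg : univ.image γ = univ.image β := by
    ext x
    rw [← Nat.mod_add_div x p, ← mem_runner hp γ (Nat.mod_lt _ hp),
      ← mem_runner hp β (Nat.mod_lt _ hp), key γ hγ hwγ _ (Nat.mod_lt _ hp),
      key β hβ hwβ _ (Nat.mod_lt _ hp), hr]
  have hmem : ∀ i, ∃ j, β j = γ i := fun i => by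
    have h : γ i ∈ univ.image β := himg ▸ Finset.mem_image_of_mem γ (Finset.mem_univ i)
    obtain ⟨j, -, hj⟩ := Finset.mem_image.1 h
    exact ⟨j, hj⟩
  choose f hf using hmem
  have hfi : Function.Injective f := fun a b h => hγ (by rw [← hf a, ← hf b, h])
  exact ⟨Equiv.ofBijective f (Finite.injective_iff_bijective.1 hfi), funext hf⟩

/-- An element of order divisible by `p` has an orbit of size divisible by `p`. -/
theorem exists_cycle [hp : Fact p.Prime] {y : Equiv.Perm σ} (hy : p ∣ orderOf y) :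
    ∃ a₀ : σ, p ∣ Fintype.card {a // y.SameCycle a₀ a} := by
  classical
  have h : p ∣ (y.cycleType.map id).prod := by
    rw [Multiset.map_id, ← Equiv.Perm.lcm_cycleType] at *
    exact hy.trans (Multiset.lcm_dvd.2 fun a ha => Multiset.dvd_prod ha)
  obtain ⟨k, hk, hpk⟩ := (Nat.prime_iff.1 hp.out).exists_mem_multiset_map_dvd h
  rw [Equiv.Perm.cycleType, Multiset.mem_map] at hk
  obtain ⟨c, hc, rfl⟩ := hk
  obtain ⟨a₀, ha₀⟩ := (Equiv.Perm.mem_cycleFactorsFinset_iff.1 hc).1.nonempty_support
  refine ⟨a₀, ?_⟩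
  rw [Fintype.card_subtype]
  refine hpk.trans (dvd_of_eq (congrArg Finset.card (Finset.ext fun a => ?_)))
  rw [Finset.mem_filter, Equiv.Perm.cycle_is_cycleOf ha₀ hc, Equiv.Perm.mem_support_cycleOf_iff]
  exact ⟨fun h => ⟨Finset.mem_univ a, h.1⟩,
    fun h => ⟨h.2, Equiv.Perm.mem_cycleFactorsFinset_support_le hc ha₀⟩⟩

/-- **In weight one, singular values are proportional.** -/
theorem exists_weightOne_values [hp : Fact p.Prime] (σ : Type) [Fintype σ] [DecidableEq σ]
    {γ₀ : Fin N → ℕ} (hγ₀ : γ₀ ∈ tup N (lvl N (Fintype.card σ))) (hi₀ : Function.Injective γ₀)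
    (hw₀ : wt p γ₀ = 1) :
    ∃ a : (Fin N → ℕ) → ℂ, ∀ y : Equiv.Perm σ, p ∣ orderOf y → ∃ F : ℂ,
      ∀ γ ∈ tup N (lvl N (Fintype.card σ)), Function.Injective γ → rcnt p γ = rcnt p γ₀ →
        chi N γ y = a γ * F := by
  classical
  have hp0 := hp.out.pos
  obtain ⟨j₀, hj₀, hinj₀⟩ := exists_lower hp0 hi₀ (by
    have := qsum_eq_core_add_wt hp0 hi₀
    omega)
  have hne₀ : ∀ k, γ₀ k ≠ γ₀ j₀ - p := by
    intro k hk
    by_cases hkj : k = j₀
    · subst hkj; omega
    · refine hkj (hinj₀ ?_)
      simp [lower, hkj, hk]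
  obtain ⟨hβi, hβr, hβeq, hβq⟩ := lower_spec hp0 hi₀ hj₀ hne₀
  set β := lower p γ₀ j₀
  have hβw : wt p β = 0 := by
    have := qsum_eq_core_add_wt hp0 hi₀
    have h := qsum_eq_core_add_wt hp0 hβi
    rw [hβr] at h
    omega
  let term : (Fin N → ℕ) → Fin N → ℂ := fun γ j =>
    if h : p ≤ γ j ∧ ∃ π : Equiv.Perm (Fin N), β ∘ π = γ - Pi.single j p then
      ((Equiv.Perm.sign h.2.choose : ℤ) : ℂ) else 0
  refine ⟨fun γ => ∑ j, term γ j, fun y hy => ?_⟩
  obtain ⟨a₀, hL⟩ := exists_cycle hy
  have hpres : ∀ a, y.SameCycle a₀ (y a) ↔ y.SameCycle a₀ a := fun a =>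
    Equiv.Perm.sameCycle_apply_right
  set P : σ → Prop := fun a => y.SameCycle a₀ a
  set u := y.subtypePerm (p := P) hpres
  set s := y.subtypePerm (p := fun a => ¬ P a) fun a => not_congr (hpres a)
  have hfix : fixCol (Fin N) u = univ.image fun j : Fin N => fun _ : {a // P a} => j := by
    ext f
    simp only [mem_fixCol, Finset.mem_image, Finset.mem_univ, true_and]
    constructor
    · intro hf
      refine ⟨f ⟨a₀, Equiv.Perm.SameCycle.refl y a₀⟩, funext fun b => ?_⟩
      have hb : y.SameCycle a₀ b := b.2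
      obtain ⟨k, hk⟩ := hb.exists_nat_pow_eq
      have hiter : ∀ m : ℕ, f ((u ^ m) ⟨a₀, Equiv.Perm.SameCycle.refl y a₀⟩) =
          f ⟨a₀, Equiv.Perm.SameCycle.refl y a₀⟩ := by
        intro m
        induction m with
        | zero => rfl
        | succ m ih =>
          rw [pow_succ', Equiv.Perm.mul_apply]
          exact (congrFun hf _).trans ih
      rw [← hiter k]
      congr 1
      refine Subtype.ext ?_
      rw [Equiv.Perm.subtypePerm_pow, Equiv.Perm.subtypePerm_apply]
      exact hk
    · rintro ⟨j, rfl⟩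
      rfl
  set L := Fintype.card {a // P a} with hLdef
  have hcnt : ∀ j : Fin N, cnt (fun _ : {a // P a} => j) = Pi.single j L := by
    intro j
    funext k
    by_cases h : k = j
    · subst h
      simp [cnt, hLdef]
    · simp [cnt, h, Ne.symm h]
  have hne : Nonempty {a // P a} := ⟨⟨a₀, Equiv.Perm.SameCycle.refl y a₀⟩⟩
  have hval : ∀ γ : Fin N → ℕ, chi N γ y =
      ∑ j, if L ≤ γ j then chi N (γ - Pi.single j L) s else 0 := by
    intro γ
    conv_lhs => rw [← join_subtypePerm P (c := y) hpres]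
    rw [join_apply, chi_permCongr, chi_sumCongr, hfix,
      Finset.sum_image fun i _ j _ h => congrFun h hne.some]
    refine Finset.sum_congr rfl fun j _ => if_congr ?_ (by rw [hcnt]) rfl
    rw [hcnt]
    refine ⟨fun h => by simpa using h j, fun h k => ?_⟩
    by_cases hk : k = j
    · subst hk; simpa using h
    · simp [hk]
  obtain ⟨l, hl⟩ := hL
  have hl0 : 0 < l := Nat.pos_of_ne_zero fun e => by
    rw [e, mul_zero] at hl
    exact (Fintype.card_pos (α := {a // P a})).ne' hl
  refine ⟨if l = 1 then chi N β s else 0, fun γ hγ hi hr => ?_⟩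
  rw [hval, Finset.sum_mul]
  refine Finset.sum_congr rfl fun j _ => ?_
  have hq : qsum p γ = qsum p γ₀ := by
    have h := qsum_eq_of_rcnt_eq hp0 hr (c := 0) (by
      rw [mul_zero, add_zero, mem_tup.1 hγ, mem_tup.1 hγ₀])
    omega
  have hsub : L ≤ γ j → rcnt p (γ - Pi.single j L) = rcnt p γ₀ ∧
      qsum p γ = qsum p (γ - Pi.single j L) + l := by
    intro hle
    have e : γ - Pi.single j L + Pi.single j L = γ := funext fun k => by
      by_cases hk : k = j
      · subst hk; simp [Nat.sub_add_cancel hle]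
      · simp [hk]
    have hd : ∀ k, p ∣ (Pi.single j L : Fin N → ℕ) k := fun k => by
      by_cases hk : k = j
      · subst hk; simp [hl]
      · simp [hk]
    have h1 : rcnt p (γ - Pi.single j L) = rcnt p γ := by
      conv_rhs => rw [← e, rcnt_add hd]
    refine ⟨h1.trans hr, qsum_eq_of_rcnt_eq hp0 h1.symm ?_⟩
    conv_lhs => rw [← e]
    simp only [Pi.add_apply, Finset.sum_add_distrib]
    congr 1
    rw [Finset.sum_pi_single', if_pos (Finset.mem_univ j), ← hl]
  have hqc := qsum_eq_core_add_wt hp0 hi₀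
  by_cases hle : L ≤ γ j
  · obtain ⟨hr', hq'⟩ := hsub hle
    rw [if_pos hle]
    by_cases hinj : Function.Injective (γ - Pi.single j L)
    · have hc := core_le_qsum hp0 hinj
      rw [hr'] at hc
      have hl1 : l = 1 := by omega
      have hLp : L = p := by rw [hl, hl1, mul_one]
      rw [hLp] at hle hinj hr' hq' ⊢
      have hw' : wt p (γ - Pi.single j p) = 0 := by
        rw [wt, hr']
        omega
      have hπ := exists_perm_of_weight_zero hp0 hinj hβi (hr'.trans hβr.symm) hw' hβw
      have hh : p ≤ γ j ∧ ∃ π : Equiv.Perm (Fin N), β ∘ π = γ - Pi.single j p := ⟨hle, hπ⟩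
      simp only [term, dif_pos hh, if_pos hl1]
      conv_lhs => rw [← hh.2.choose_spec, chi_comp]
    · rw [chi_eq_zero_of_not_injective hinj]
      simp only [term]
      split_ifs with hh hl1
      · have hLp : L = p := by rw [hl, hl1, mul_one]
        obtain ⟨-, π, hπ⟩ := hh
        refine absurd ?_ hinj
        rw [hLp, ← hπ]
        exact hβi.comp π.injective
      all_goals simp
  · rw [if_neg hle]
    simp only [term]
    split_ifs with hh hl1
    · exact absurd (show L ≤ γ j by rw [hl, hl1, mul_one]; exact hh.1) hle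
    all_goals simp

end Cfsg.Agent.H15.SymBlocks
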