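import Cfsg.Agent.H15.SymBlocks.AltRestrict
import Cfsg.Agent.H15.SymBlocks.WeightOne

/-!
# Self-associate characters in a block

The members of a residue set equal to their sign twist correspond to self-complementary tuples.
In weight one the difference of two associates does not vanish on the `p`-regular elements when a
self-associate character is present.
-/

set_option linter.unusedSectionVars false

namespace Cfsg.Agent.H15.SymBlocks

open Finset
open Cfsg.Agent

variable {σ : Type} [Fintype σ] [DecidableEq σ] {N p : ℕ}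

/-- The members of a set equal to their twist. -/
noncomputable def selfSet (B : Set (Cfsg.IrrCharacter (Equiv.Perm σ))) :
    Finset (Cfsg.IrrCharacter (Equiv.Perm σ)) := by
  classical exact univ.filter fun χ => χ ∈ B ∧ twist χ = χ

theorem mem_selfSet {B : Set (Cfsg.IrrCharacter (Equiv.Perm σ))}
    {χ : Cfsg.IrrCharacter (Equiv.Perm σ)} : χ ∈ selfSet B ↔ χ ∈ B ∧ twist χ = χ := by
  simp [selfSet]

/-- The tuple of a character equal to its twist is self-complementary. -/
theorem isSelfComp_of_twist (hN : Fintype.card σ ≤ N) {γ : Fin N → ℕ} (hm : γ ∈ monoTup σ N)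
    {χ : Cfsg.IrrCharacter (Equiv.Perm σ)} {ε : ℂ} (hε : ε * ε = 1)
    (he : (chi N γ : Equiv.Perm σ → ℂ) = ε • (χ : Equiv.Perm σ → ℂ)) (hχ : twist χ = χ) :
    IsSelfComp γ := by
  classical
  obtain ⟨hγ, hmono⟩ := mem_monoTup.1 hm
  have hsum : ∑ g : Equiv.Perm σ, sgnC g * (chi N γ g * chi N γ g) ≠ 0 := by
    have h2 := CharBasic.classInner_irr_self χ.2
    rw [CharBasic.classInner_def] at h2
    have e : ∑ g : Equiv.Perm σ, sgnC g * (chi N γ g * chi N γ g) =
        ∑ g : Equiv.Perm σ, (χ : Equiv.Perm σ → ℂ) g *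
          starRingEnd ℂ ((χ : Equiv.Perm σ → ℂ) g) := by
      refine Finset.sum_congr rfl fun g _ => ?_
      have ht := congrFun (congrArg Subtype.val hχ) g
      rw [twist_apply] at ht
      rw [conj_irr hN, show chi N γ g = ε * (χ : Equiv.Perm σ → ℂ) g from congrFun he g]
      linear_combination (χ : Equiv.Perm σ → ℂ) g * ht +
        sgnC g * (χ : Equiv.Perm σ → ℂ) g * (χ : Equiv.Perm σ → ℂ) g * hε
    rw [e]
    intro h0
    rw [h0, mul_zero] at h2
    exact zero_ne_one h2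
  obtain ⟨π, h1, h2⟩ := exists_perm_of_sgn_inner hγ hsum
  change ∀ i, γ i = _ at h1
  refine ⟨fun i => by rw [h1 i]; exact (π (Fin.castAdd N i)).isLt, fun i j hij => ?_⟩
  rw [h1 i, h2 j] at hij
  have h3 := (π (Fin.castAdd N i)).isLt
  have h4 := (π (Fin.natAdd N j)).isLt
  have h5 : π (Fin.castAdd N i) = π (Fin.natAdd N j) := Fin.ext (by omega)
  have h6 := congrArg Fin.val (π.injective h5)
  simp only [Fin.val_castAdd, Fin.val_natAdd] at h6
  omega

/-- The count of self-associate members. -/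
theorem card_selfSet_le (hp : 0 < p) (hN : Fintype.card σ ≤ N) {γ₀ : Fin N → ℕ}
    (hγ₀ : γ₀ ∈ tup N (lvl N (Fintype.card σ)))
    {B : Set (Cfsg.IrrCharacter (Equiv.Perm σ))} (hBκ : B ⊆ resSet σ N p (rcnt p γ₀)) :
    (selfSet B).card ≤ (selfTup N p σ (rcnt p γ₀) (wt p γ₀)).card := by
  classical
  let c : Cfsg.IrrCharacter (Equiv.Perm σ) → Fin N → ℕ := fun χ => (exists_tuple_of_irr hN χ).choose
  refine Finset.card_le_card_of_injOn c (fun χ hχ => ?_) ?_
  · rw [Finset.mem_coe, mem_selfSet] at hχ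
    obtain ⟨hm, ε, hε, he⟩ := (exists_tuple_of_irr hN χ).choose_spec
    obtain ⟨hγ, hmono⟩ := mem_monoTup.1 hm
    have hr : rcnt p (c χ) = rcnt p γ₀ :=
      (mem_resSet_iff hγ hmono.injective hε he _).1 (hBκ hχ.1)
    have hq := qsum_eq_of_rcnt_eq hp hr (c := 0) (by
      rw [mul_zero, add_zero, mem_tup.1 hγ, mem_tup.1 hγ₀])
    rw [Finset.mem_coe, mem_selfTup]
    exact ⟨hm, isSelfComp_of_twist hN hm hε he hχ.2, hr, by rw [wt, wt, hr, hq, add_zero]⟩
  · intro χ hχ ψ hψ h
    obtain ⟨-, ε, hε, he⟩ := (exists_tuple_of_irr hN χ).choose_spec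
    obtain ⟨-, ε', hε', he'⟩ := (exists_tuple_of_irr hN ψ).choose_spec
    by_contra hne
    have h0 : Cfsg.classInner ((χ : Equiv.Perm σ → ℂ)) (ψ : Equiv.Perm σ → ℂ) = 0 :=
      CharBasic.classInner_irr_of_ne χ.2 ψ.2 fun e => hne (Subtype.ext e)
    rw [show (χ : Equiv.Perm σ → ℂ) = (ε * ε') • (ψ : Equiv.Perm σ → ℂ) by
      rw [irr_eq_smul_chi hε he, mul_smul, ← he']
      exact congrArg _ (congrArg (fun γ => chi N γ) h),
      CharBasic.classInner_smul_left, CharBasic.classInner_irr_self ψ.2, mul_one] at h0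
    rcases mul_eq_zero.1 h0 with e | e
    · simp [e] at hε
    · simp [e] at hε'

theorem centralChar_twist' (χ : Cfsg.IrrCharacter (Equiv.Perm σ)) (g : Equiv.Perm σ) :
    Cfsg.centralChar (twist χ : Equiv.Perm σ → ℂ) g =
      sgnC g * Cfsg.centralChar (χ : Equiv.Perm σ → ℂ) g := by
  simp only [Cfsg.centralChar, twist_apply]
  rw [show sgnC (1 : Equiv.Perm σ) = 1 by simp [sgnC]]
  ring

/-- A block with a self-associate member is closed under twisting. -/
theorem twist_mem_of_selfSet {M : Ideal Cfsg.AlgInt} (hM : Cfsg.IsPModular p M)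
    {B : Set (Cfsg.IrrCharacter (Equiv.Perm σ))} (hB : Cfsg.IsPBlock M B)
    {χ₀ χ : Cfsg.IrrCharacter (Equiv.Perm σ)} (h₀ : χ₀ ∈ selfSet B) (hχ : χ ∈ B) :
    twist χ ∈ B := by
  rw [mem_selfSet] at h₀
  have hs := BlockBasic.isPBlock_sameBlock hM hB h₀.1 hχ
  rw [BlockBasic.isPBlock_eq_blockOf hM hB h₀.1, BlockBasic.mem_blockOf]
  intro g
  have ht := centralChar_twist' χ₀ g
  rw [h₀.2] at ht
  rw [ht, centralChar_twist', ← mul_sub]
  rcases Int.units_eq_one_or (Equiv.Perm.sign g) with e | e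
  · simpa [sgnC, e] using hs g
  · simpa [sgnC, e] using BlockBasic.memLocalIdeal_neg (hs g)

/-- In weight one, associates in a residue set with a self-associate member differ on some
`p`-regular element. -/
theorem pRegularPart_twist_ne [hp : Fact p.Prime] {γ₀ : Fin N → ℕ}
    (hγ₀ : γ₀ ∈ tup N (lvl N (Fintype.card σ))) (hi₀ : Function.Injective γ₀)
    (hw : wt p γ₀ = 1) {χ₀ χ : Cfsg.IrrCharacter (Equiv.Perm σ)}
    (h₀ : χ₀ ∈ resSet σ N p (rcnt p γ₀)) (hχ : χ ∈ resSet σ N p (rcnt p γ₀))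
    (hself : twist χ₀ = χ₀) (hne : twist χ ≠ χ) :
    Cfsg.pRegularPart p (χ : Equiv.Perm σ → ℂ) ≠
      Cfsg.pRegularPart p (twist χ : Equiv.Perm σ → ℂ) := by
  classical
  intro heq
  obtain ⟨a, ha⟩ := exists_weightOne_values σ hγ₀ hi₀ hw
  obtain ⟨α, hα, hαi, hακ, εa, hεa, hαχ⟩ := h₀
  obtain ⟨β, hβ, hβi, hβκ, εb, hεb, hβχ⟩ := hχ
  have hwα : 0 < wt p α := by
    have h := qsum_eq_of_rcnt_eq hp.out.pos hακ (c := 0) (by
      rw [mul_zero, add_zero, mem_tup.1 hα, mem_tup.1 hγ₀])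
    rw [wt, hακ, h, add_zero]
    change 0 < wt p γ₀
    omega
  obtain ⟨y₀, hy₀, hy₀'⟩ := exists_singular_ne_zero hα hαi hwα
  have haα : a α ≠ 0 := by
    obtain ⟨F, hF⟩ := ha y₀ hy₀
    intro e
    rw [hF α hα hαi hακ, e, zero_mul] at hy₀'
    exact hy₀' rfl
  refine hne (Subtype.ext (funext fun g => ?_))
  rw [twist_apply]
  rcases Int.units_eq_one_or (Equiv.Perm.sign g) with e | e
  · simp [sgnC, e]
  have hs : sgnC g = -1 := by simp [sgnC, e]
  suffices hz : (χ : Equiv.Perm σ → ℂ) g = 0 by rw [hz, mul_zero]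
  by_cases hg : p ∣ orderOf g
  · obtain ⟨F, hF⟩ := ha g hg
    have h0 := congrFun (congrArg Subtype.val hself) g
    rw [twist_apply, hs, irr_eq_smul_chi hεa hαχ, Pi.smul_apply, smul_eq_mul,
      hF α hα hαi hακ] at h0
    have hεa0 : εa ≠ 0 := fun e0 => by simp [e0] at hεa
    have hF0 : F = 0 := by
      have h3 : εa * (a α * F) = 0 := by linear_combination (-1 / 2 : ℂ) * h0
      simpa [hεa0, haα] using h3
    rw [irr_eq_smul_chi hεb hβχ, Pi.smul_apply, smul_eq_mul, hF β hβ hβi hβκ, hF0, mul_zero,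
      mul_zero]
  · have h0 := congrFun heq g
    simp [Cfsg.pRegularPart, Cfsg.IsPRegular, hg, twist_apply, hs] at h0
    linear_combination (1 / 2 : ℂ) * h0

end Cfsg.Agent.H15.SymBlocks
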