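import Cfsg.Agent.H15.SymBlocks.Parts

/-!
# The rank bound for `p = 2`

With one residue class left over, a spanning monomial depends only on the partition it gives.
-/

set_option linter.unusedSectionVars false

namespace Cfsg.Agent.H15.SymBlocks

open MvPolynomial Finset

variable {σ : Type} [Fintype σ] [DecidableEq σ] {N : ℕ}

/-- For `p = 2` the rank is at most the number of partitions of the weight. -/
theorem finrank_resSet_two [Fact (Nat.Prime 2)] (hN : Fintype.card σ ≤ N) {γ₀ : Fin N → ℕ}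
    (hγ : γ₀ ∈ tup N (lvl N (Fintype.card σ))) (hi : Function.Injective γ₀) :
    Module.finrank ℂ (Submodule.span ℂ ((fun χ : Cfsg.IrrCharacter (Equiv.Perm σ) =>
      Cfsg.pRegularPart 2 (χ : Equiv.Perm σ → ℂ)) '' resSet σ N 2 (rcnt 2 γ₀))) ≤
      nparts (wt 2 γ₀) := by
  classical
  obtain ⟨ρ, i₀, h⟩ := exists_span_resSet (σ := σ) (p := 2) hN hγ hi
  refine (Submodule.finrank_mono h).trans ((finrank_span_finset_le_card _).trans ?_)
  haveI : Subsingleton {i : Fin 2 // i ≠ i₀} := ⟨fun a b => Subtype.ext (by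
    have ha := a.2
    have hb := b.2
    omega)⟩
  obtain ⟨a, ha⟩ : ∃ a : Fin 2, a ≠ i₀ := exists_ne i₀
  let G : Multiset ℕ → Equiv.Perm σ → ℂ := fun m =>
    spanFun σ ρ i₀ (m.toList.map fun k => ((⟨a, ha⟩ : {i : Fin 2 // i ≠ i₀}), k))
  have hG : ∀ l : List ({i : Fin 2 // i ≠ i₀} × ℕ),
      spanFun σ ρ i₀ l = G ((l.map Prod.snd : List ℕ) : Multiset ℕ) := by
    intro l
    simp only [G, spanFun, List.map_map]
    congr 2
    rw [show ((fun x : {i : Fin 2 // i ≠ i₀} × ℕ => bpsum ρ x.1.1 x.2) ∘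
        fun k => ((⟨a, ha⟩ : {i : Fin 2 // i ≠ i₀}), k)) = fun k => bpsum ρ a k from rfl]
    rw [← Multiset.prod_coe, ← Multiset.prod_coe, ← Multiset.map_coe, ← Multiset.map_coe,
      Multiset.coe_toList, ← Multiset.map_coe, Multiset.map_map]
    congr 1
    refine Multiset.map_congr rfl fun x _ => ?_
    rw [Function.comp_apply, Subsingleton.elim x.1 (⟨a, ha⟩ : {i : Fin 2 // i ≠ i₀})]
  refine (Finset.card_le_card (t := (partsSet (wt 2 γ₀)).image G) fun x hx => ?_).trans
    Finset.card_image_le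
  obtain ⟨l, hl, rfl⟩ := Finset.mem_image.1 hx
  refine Finset.mem_image.2 ⟨_, mem_partsSet.2 ?_, (hG l).symm⟩
  simpa [Multiset.sum_coe] using comps_spec _ l hl

end Cfsg.Agent.H15.SymBlocks
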