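import Cfsg.Agent.H15.SymBlocks.AltDefect
import Cfsg.Agent.H15.SymBlocks.AltSelf
import Cfsg.Agent.H15.SymBlocks.RankTwo
import Cfsg.Agent.BlockBasic.CoverAll

/-!
# The `p`-regular rank of a block of an alternating group is below `p` to the sectional rank
-/

set_option linter.unusedSectionVars false

namespace Cfsg.Agent.H15.SymBlocks

open Finset
open Cfsg.Agent

theorem pRegularPart_sub {G : Type*} [Group G] (p : ℕ) (f g : G → ℂ) :
    Cfsg.pRegularPart p (f - g) = Cfsg.pRegularPart p f - Cfsg.pRegularPart p g := by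
  funext x
  simp only [Cfsg.pRegularPart, Pi.sub_apply]
  split_ifs <;> simp

theorem two_pow_count {w : ℕ} (hw : 3 ≤ w) :
    nparts w + (if 2 ∣ w then nparts (w / 2) else 0) < 2 ^ (w - 1) := by
  rcases Nat.eq_or_lt_of_le hw with h | h
  · subst h
    rw [nparts_three, if_neg (by norm_num)]
    norm_num
  obtain ⟨a, rfl⟩ : ∃ a, w = a + 4 := ⟨w - 4, by omega⟩
  have h1 := nparts_le_five_mul a
  have h2 : (if 2 ∣ a + 4 then nparts ((a + 4) / 2) else 0) ≤ 2 ^ (a + 1) := by
    split_ifs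
    · rw [show (a + 4) / 2 = a / 2 + 1 + 1 by omega]
      exact (nparts_succ_le_two_pow _).trans (Nat.pow_le_pow_right two_pos (by omega))
    · exact Nat.zero_le _
  have h3 : 2 ^ (a + 4 - 1) = 8 * 2 ^ a := by
    rw [show a + 4 - 1 = a + 3 by omega, pow_add]
    ring
  have h4 : 2 ^ (a + 1) = 2 * 2 ^ a := by rw [pow_succ']
  have := Nat.one_le_two_pow (n := a)
  omega

theorem succ_le_pow_pred {p : ℕ} (hp : 3 ≤ p) : ∀ j : ℕ, 2 ≤ j → j + 1 ≤ p ^ (j - 1) := by
  intro j hj
  induction j, hj using Nat.le_induction with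
  | base => simpa using hp
  | succ j hj ih =>
    rw [show j + 1 - 1 = j - 1 + 1 by omega, pow_succ]
    calc j + 1 + 1 ≤ (j + 1) * 3 := by omega
      _ ≤ p ^ (j - 1) * p := Nat.mul_le_mul ih hp

theorem odd_count {p : ℕ} (hp : 3 ≤ p) {w : ℕ} (hw : 2 ≤ w) :
    ∑ e ∈ Finset.range (w / 2 + 1), (p - 1) ^ e * (oddSets (w - 2 * e)).card < p ^ (w - 1) := by
  rcases Nat.eq_or_lt_of_le hw with h | h
  · subst h
    rw [Finset.sum_range_succ, Finset.sum_range_one, show (oddSets (2 - 2 * 0)).card = 0 by decide,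
      show (oddSets (2 - 2 * 1)).card = 1 by decide]
    norm_num
    omega
  rcases Nat.eq_or_lt_of_le h with h3 | h4
  · subst h3
    rw [Finset.sum_range_succ, Finset.sum_range_one,
      show (oddSets (Nat.succ 2 - 2 * 0)).card = 1 by decide,
      show (oddSets (Nat.succ 2 - 2 * 1)).card = 1 by decide]
    norm_num
    rw [sq]
    have := Nat.mul_le_mul_right p hp
    omega
  replace h4 : 4 ≤ w := h4
  have hterm : ∀ e ∈ Finset.range (w / 2 + 1),
      (p - 1) ^ e * (oddSets (w - 2 * e)).card ≤ (p - 1) ^ ((w + 1) / 2) := by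
    intro e he
    rw [Finset.mem_range] at he
    calc (p - 1) ^ e * (oddSets (w - 2 * e)).card
        ≤ (p - 1) ^ e * 2 ^ ((w - 2 * e + 1) / 2) := Nat.mul_le_mul_left _ (card_oddSets_le _)
      _ ≤ (p - 1) ^ e * (p - 1) ^ ((w - 2 * e + 1) / 2) :=
          Nat.mul_le_mul_left _ (Nat.pow_le_pow_left (by omega) _)
      _ = (p - 1) ^ ((w + 1) / 2) := by rw [← pow_add]; congr 1; omega
  calc ∑ e ∈ Finset.range (w / 2 + 1), (p - 1) ^ e * (oddSets (w - 2 * e)).card
      ≤ (w / 2 + 1) * (p - 1) ^ ((w + 1) / 2) := by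
        refine (Finset.sum_le_card_nsmul _ _ _ hterm).trans (le_of_eq ?_)
        rw [Finset.card_range, smul_eq_mul]
    _ < (w / 2 + 1) * p ^ ((w + 1) / 2) :=
        Nat.mul_lt_mul_of_pos_left (Nat.pow_lt_pow_left (by omega) (by omega)) (by omega)
    _ ≤ p ^ (w / 2 - 1) * p ^ ((w + 1) / 2) :=
        Nat.mul_le_mul_right _ (succ_le_pow_pred hp _ (by omega))
    _ = p ^ (w - 1) := by rw [← pow_add]; congr 1; omega

variable {σ : Type} [Fintype σ] [DecidableEq σ]

/-- The span of the `p`-regular parts of a set of characters. -/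
noncomputable def regSpan (p : ℕ) (B : Set (Cfsg.IrrCharacter (Equiv.Perm σ))) :
    Submodule ℂ (Equiv.Perm σ → ℂ) :=
  Submodule.span ℂ ((fun χ : Cfsg.IrrCharacter (Equiv.Perm σ) =>
    Cfsg.pRegularPart p (χ : Equiv.Perm σ → ℂ)) '' B)

theorem pRegularPart_mem_regSpan {p : ℕ} {B : Set (Cfsg.IrrCharacter (Equiv.Perm σ))}
    {χ : Cfsg.IrrCharacter (Equiv.Perm σ)} (h : χ ∈ B) :
    Cfsg.pRegularPart p (χ : Equiv.Perm σ → ℂ) ∈ regSpan p B :=
  Submodule.subset_span (Set.mem_image_of_mem _ h)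

/-- The block below is spanned by the restrictions and one constituent for each self-associate
member of the block above. -/
theorem blockRank_le_add [Nontrivial σ] (p : ℕ)
    {B : Set (Cfsg.IrrCharacter (alternatingGroup σ))}
    {Bh : Set (Cfsg.IrrCharacter (Equiv.Perm σ))}
    (hover : ∀ θ ∈ B, ∃ χ ∈ Bh,
      Cfsg.classInner (resA σ (χ : Equiv.Perm σ → ℂ)) (θ : alternatingGroup σ → ℂ) ≠ 0) :
    Cfsg.blockRank p B ≤
      Module.finrank ℂ ((regSpan p Bh).map (resA σ)) + (selfSet Bh).card := by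
  classical
  have hpair : ∀ χ : Cfsg.IrrCharacter (Equiv.Perm σ),
      ∃ θ₁ : alternatingGroup σ → ℂ, twist χ = χ → ∀ θ : Cfsg.IrrCharacter (alternatingGroup σ),
        Cfsg.classInner (resA σ (χ : Equiv.Perm σ → ℂ)) (θ : alternatingGroup σ → ℂ) ≠ 0 →
          (θ : alternatingGroup σ → ℂ) = θ₁ ∨
          (θ : alternatingGroup σ → ℂ) = resA σ (χ : Equiv.Perm σ → ℂ) - θ₁ := by
    intro χ
    by_cases h : twist χ = χ
    · obtain ⟨θ₁, h₁⟩ := exists_span_pair h
      exact ⟨θ₁, fun _ => h₁⟩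
    · exact ⟨0, fun e => absurd e h⟩
  choose θ₁ hθ₁ using hpair
  set W := Submodule.span ℂ
    (((selfSet Bh).image fun χ => Cfsg.pRegularPart p (θ₁ χ) : Finset (alternatingGroup σ → ℂ)) :
      Set (alternatingGroup σ → ℂ))
  have hW : ∀ χ ∈ selfSet Bh, Cfsg.pRegularPart p (θ₁ χ) ∈ W := fun χ hχ =>
    Submodule.subset_span (Finset.mem_coe.2 (Finset.mem_image_of_mem _ hχ))
  have hle : Submodule.span ℂ ((fun χ : Cfsg.IrrCharacter (alternatingGroup σ) =>
      Cfsg.pRegularPart p (χ : alternatingGroup σ → ℂ)) '' B) ≤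
      (regSpan p Bh).map (resA σ) ⊔ W := by
    rw [Submodule.span_le]
    rintro _ ⟨θ, hθ, rfl⟩
    obtain ⟨χ, hχ, hne⟩ := hover θ hθ
    have h1 : Cfsg.pRegularPart p (resA σ (χ : Equiv.Perm σ → ℂ)) ∈ (regSpan p Bh).map (resA σ) :=
      ⟨_, pRegularPart_mem_regSpan hχ, resA_pRegularPart p _⟩
    show Cfsg.pRegularPart p (θ : alternatingGroup σ → ℂ) ∈ _
    by_cases ht : twist χ = χ
    · have hS : χ ∈ selfSet Bh := mem_selfSet.2 ⟨hχ, ht⟩
      rcases hθ₁ χ ht θ hne with e | e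
      · rw [e]
        exact Submodule.mem_sup_right (hW χ hS)
      · rw [e, pRegularPart_sub]
        exact Submodule.sub_mem _ (Submodule.mem_sup_left h1) (Submodule.mem_sup_right (hW χ hS))
    · rw [eq_resA_of_twist_ne ht hne]
      exact Submodule.mem_sup_left h1
  refine (Submodule.finrank_mono hle).trans
    ((Submodule.finrank_add_le_finrank_add_finrank _ _).trans (Nat.add_le_add_left ?_ _))
  exact (finrank_span_finset_le_card _).trans Finset.card_image_le

/-- In weight one the total is at most `p - 1`. -/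
theorem weight_one_count {p : ℕ} [hp : Fact p.Prime] (hp2 : p ≠ 2) {N : ℕ} {γ : Fin N → ℕ}
    (hγ : γ ∈ tup N (lvl N (Fintype.card σ))) (hi : Function.Injective γ) (hw : wt p γ = 1)
    {M : Ideal Cfsg.AlgInt} (hM : Cfsg.IsPModular p M)
    {Bh : Set (Cfsg.IrrCharacter (Equiv.Perm σ))} (hBh : Cfsg.IsPBlock M Bh)
    (hBκ : Bh ⊆ resSet σ N p (rcnt p γ)) (hV : Module.finrank ℂ (regSpan p Bh) ≤ p - 1)
    (hS : (selfSet Bh).card ≤ 1) :
    Module.finrank ℂ ((regSpan p Bh).map (resA σ)) + (selfSet Bh).card ≤ p - 1 := by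
  classical
  have hle := Submodule.finrank_map_le (resA σ) (regSpan p Bh)
  rcases Nat.eq_zero_or_pos (selfSet Bh).card with h0 | h0
  · omega
  obtain ⟨χ₀, hχ₀⟩ := Finset.card_pos.1 h0
  have hp3 : 3 ≤ p := by
    have := hp.out.two_le
    omega
  by_cases hall : ∀ χ ∈ Bh, twist χ = χ
  · have hV1 : Module.finrank ℂ (regSpan p Bh) ≤ 1 := by
      set T : Finset (Equiv.Perm σ → ℂ) := (selfSet Bh).image
        fun χ : Cfsg.IrrCharacter (Equiv.Perm σ) =>
          Cfsg.pRegularPart p (χ : Equiv.Perm σ → ℂ) with hT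
      have h1 : regSpan p Bh ≤ Submodule.span ℂ (T : Set (Equiv.Perm σ → ℂ)) := by
        refine Submodule.span_mono ?_
        rintro _ ⟨χ, hχ, rfl⟩
        exact Finset.mem_coe.2 (Finset.mem_image_of_mem _ (mem_selfSet.2 ⟨hχ, hall χ hχ⟩))
      have h2 := (Submodule.finrank_mono h1).trans (finrank_span_finset_le_card (R := ℂ) T)
      exact h2.trans (Finset.card_image_le.trans hS)
    omega
  push Not at hall
  obtain ⟨χ, hχ, hne⟩ := hall
  have ht : twist χ ∈ Bh := twist_mem_of_selfSet hM hBh hχ₀ hχ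
  rw [mem_selfSet] at hχ₀
  set f := Cfsg.pRegularPart p (χ : Equiv.Perm σ → ℂ) -
    Cfsg.pRegularPart p (twist χ : Equiv.Perm σ → ℂ) with hf
  have hfV : f ∈ regSpan p Bh :=
    Submodule.sub_mem _ (pRegularPart_mem_regSpan hχ) (pRegularPart_mem_regSpan ht)
  have hf0 : f ≠ 0 :=
    sub_ne_zero.2 (pRegularPart_twist_ne hγ hi hw (hBκ hχ₀.1) (hBκ hχ) hχ₀.2 hne)
  have hLf : resA σ f = 0 := by
    funext a
    rw [resA_apply, hf, Pi.sub_apply, Pi.zero_apply]
    simp [Cfsg.pRegularPart, twist_apply, sgnC_of_mem a.2]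
  have hrk := LinearMap.finrank_range_add_finrank_ker ((resA σ).domRestrict (regSpan p Bh))
  rw [LinearMap.range_domRestrict] at hrk
  have hker : 0 < Module.finrank ℂ (LinearMap.ker ((resA σ).domRestrict (regSpan p Bh))) := by
    refine Nat.pos_of_ne_zero fun e => hf0 ?_
    have hbot := Submodule.finrank_eq_zero.1 e
    have hmem : (⟨f, hfV⟩ : regSpan p Bh) ∈ LinearMap.ker ((resA σ).domRestrict (regSpan p Bh)) := hLf
    rw [hbot, Submodule.mem_bot] at hmem
    exact congrArg Subtype.val hmem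
  omega

/-- **Blocks of alternating groups.** -/
theorem blockRank_alt_lt {p : ℕ} [hp : Fact p.Prime] {M : Ideal Cfsg.AlgInt}
    (hM : Cfsg.IsPModular p M) {B : Set (Cfsg.IrrCharacter (alternatingGroup σ))}
    (hB : Cfsg.IsPBlock M B) {D : Subgroup (alternatingGroup σ)}
    (hD : Cfsg.IsDefectGroup p M B D) (hD1 : D ≠ ⊥) {s : ℕ}
    (hs : Cfsg.SectionalPRankLE p s D) : Cfsg.blockRank p B < p ^ s := by
  classical
  set N := Fintype.card σ
  obtain ⟨Bh, hBh, χ₀, hχ₀, θ₀, hθ₀, h0⟩ :=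
    BlockBasic.exists_covering_block hM (alternatingGroup σ) hB
  have hover : ∀ θ ∈ B, ∃ χ ∈ Bh,
      Cfsg.classInner (resA σ (χ : Equiv.Perm σ → ℂ)) (θ : alternatingGroup σ → ℂ) ≠ 0 :=
    fun θ hθ => BlockBasic.exists_over_of_covers hM hBh hχ₀ h0
      (BlockBasic.isPBlock_sameBlock hM hB hθ₀ hθ)
  obtain ⟨P, hP, hPD⟩ := BlockBasic.exists_defectGroup_inf_eq hM hB
    (Q := D.map (alternatingGroup σ).subtype) (Subgroup.map_subtype_le D)
    (by rwa [Subgroup.subgroupOf, Subgroup.comap_map_eq_self_of_injective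
      (alternatingGroup σ).subtype_injective]) hBh ⟨χ₀, hχ₀, θ₀, hθ₀, h0⟩
  obtain ⟨γ, hγ, hi, hBκ⟩ := exists_resSet_of_block (N := N) hM le_rfl hBh
  obtain ⟨hw, hs1, hwodd, hwtwo, hwfour⟩ := weight_le_sectional hM le_rfl hγ hi hBh hBκ hP hPD hD1
    (IsPGroup.of_card (H35.card_defectGroup hM hB hD)) hs
  have hpn : p ≤ N := (Nat.le_mul_of_pos_right p hw).trans (mul_wt_le hp.out.pos hγ hi)
  haveI : Nontrivial σ := Fintype.one_lt_card_iff_nontrivial.1 (by
    have := hp.out.two_le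
    show 1 < N
    omega)
  refine lt_of_le_of_lt (blockRank_le_add p hover) ?_
  have hmap := Submodule.finrank_map_le (resA σ) (regSpan p Bh)
  have hmono : regSpan p Bh ≤ regSpan p (resSet σ N p (rcnt p γ)) :=
    Submodule.span_mono (Set.image_mono hBκ)
  have hS := card_selfSet_le hp.out.pos le_rfl hγ hBκ
  have hpws : p ^ 1 ≤ p ^ s := Nat.pow_le_pow_right hp.out.pos hs1
  rw [pow_one] at hpws
  rcases eq_or_ne p 2 with h2 | h2
  · subst h2
    have hV := (Submodule.finrank_mono hmono).trans (finrank_resSet_two le_rfl hγ hi)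
    have hk := hS.trans (card_selfTup_two (by omega) _ _)
    have hws := hwtwo rfl
    generalize hwdef : wt 2 γ = w at *
    rcases Nat.lt_or_ge w 3 with hlt | hge
    · interval_cases w
      · rw [nparts_one] at hV
        rw [if_neg (by norm_num)] at hk
        omega
      · rw [nparts_two] at hV
        rw [if_pos (by norm_num), show 2 / 2 = 1 from rfl, nparts_one] at hk
        have : 2 ^ 2 ≤ 2 ^ s := Nat.pow_le_pow_right two_pos (hwfour rfl rfl)
        omega
    · have h3 := two_pow_count hge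
      have : 2 ^ (w - 1) ≤ 2 ^ s := Nat.pow_le_pow_right two_pos (by omega)
      omega
  · have hp3 : 3 ≤ p := by
      have := hp.out.two_le
      omega
    have hk := hS.trans (card_selfTup_odd
      (fun h => h2 ((Nat.prime_dvd_prime_iff_eq Nat.prime_two hp.out).1 h).symm) (by omega) _ _)
    obtain ⟨w, hw'⟩ : ∃ w, wt p γ = w + 1 := ⟨wt p γ - 1, by omega⟩
    have hV : Module.finrank ℂ (regSpan p Bh) ≤ (p - 1) * p ^ w :=
      (Submodule.finrank_mono hmono).trans (finrank_resSet_le le_rfl hγ hi hw')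
    rcases Nat.eq_zero_or_pos w with h0' | h0'
    · subst h0'
      rw [pow_zero, mul_one] at hV
      rw [hw', Finset.sum_range_one, pow_zero, one_mul, show (oddSets (0 + 1 - 2 * 0)).card = 1 by
        decide] at hk
      have := weight_one_count h2 hγ hi hw' hM hBh hBκ hV hk
      omega
    · have h3 := odd_count hp3 (w := wt p γ) (by omega)
      rw [hw', Nat.add_sub_cancel] at h3
      rw [hw'] at hk
      have h4 : p ^ (w + 1) ≤ p ^ s := Nat.pow_le_pow_right hp.out.pos (hw' ▸ hwodd h2)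
      have h5 : (p - 1) * p ^ w + p ^ w = p ^ (w + 1) := by
        rw [pow_succ', Nat.sub_one_mul, Nat.sub_add_cancel (Nat.le_mul_of_pos_left _ hp.out.pos)]
      omega

end Cfsg.Agent.H15.SymBlocks
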