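import Cfsg.Agent.H15.SymBlocks.Sign
import Cfsg.Agent.CharInduce.CoprimeExt
import Mathlib.GroupTheory.SpecificGroups.Alternating
import Cfsg.Prelude.Def_BlockRank

/-!
# Restricting characters to the alternating group

The restriction of an irreducible character is irreducible unless the character equals its sign
twist; then it is the sum of two irreducible characters.
-/

set_option linter.unusedSectionVars false

namespace Cfsg.Agent.H15.SymBlocks

open Finset
open scoped ComplexConjugate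

variable {σ : Type} [Fintype σ] [DecidableEq σ]

/-- Restriction to the alternating group, as a linear map. -/
def resA (σ : Type) [Fintype σ] [DecidableEq σ] :
    (Equiv.Perm σ → ℂ) →ₗ[ℂ] (alternatingGroup σ → ℂ) :=
  LinearMap.funLeft ℂ ℂ Subtype.val

theorem resA_apply (f : Equiv.Perm σ → ℂ) (a : alternatingGroup σ) : resA σ f a = f a := rfl

theorem resA_pRegularPart (p : ℕ) (f : Equiv.Perm σ → ℂ) :
    resA σ (Cfsg.pRegularPart p f) = Cfsg.pRegularPart p (resA σ f) := by
  funext a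
  simp only [resA_apply, Cfsg.pRegularPart, Cfsg.IsPRegular, Subgroup.orderOf_coe]
  by_cases h : p ∣ orderOf a <;> simp [h]

theorem sgnC_of_mem {g : Equiv.Perm σ} (h : g ∈ alternatingGroup σ) : sgnC g = 1 := by
  rw [sgnC, Equiv.Perm.mem_alternatingGroup.1 h]
  simp

theorem sgnC_of_notMem {g : Equiv.Perm σ} (h : g ∉ alternatingGroup σ) : sgnC g = -1 := by
  rw [Equiv.Perm.mem_alternatingGroup] at h
  rw [sgnC, (Int.units_eq_one_or _).resolve_left h]
  simp

theorem sgnC_mul_self (g : Equiv.Perm σ) : sgnC g * sgnC g = 1 := by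
  rw [sgnC, ← Int.cast_mul, ← Units.val_mul, Int.units_mul_self, Units.val_one, Int.cast_one]

/-- The sign as a linear character. -/
noncomputable def sgnHom (σ : Type) [Fintype σ] [DecidableEq σ] : Equiv.Perm σ →* ℂˣ :=
  (Units.map (Int.castRingHom ℂ).toMonoidHom).comp Equiv.Perm.sign

/-- The sign twist. -/
noncomputable def twist (χ : Cfsg.IrrCharacter (Equiv.Perm σ)) :
    Cfsg.IrrCharacter (Equiv.Perm σ) :=
  ⟨fun g => sgnC g * (χ : Equiv.Perm σ → ℂ) g, CharInduce.isIrr_hom_mul χ.2 (sgnHom σ)⟩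

theorem twist_apply (χ : Cfsg.IrrCharacter (Equiv.Perm σ)) (g : Equiv.Perm σ) :
    (twist χ : Equiv.Perm σ → ℂ) g = sgnC g * (χ : Equiv.Perm σ → ℂ) g := rfl

theorem twist_twist (χ : Cfsg.IrrCharacter (Equiv.Perm σ)) : twist (twist χ) = χ := by
  refine Subtype.ext (funext fun g => ?_)
  rw [twist_apply, twist_apply, ← mul_assoc, sgnC_mul_self, one_mul]

theorem isChar_resA (χ : Cfsg.IrrCharacter (Equiv.Perm σ)) :
    Cfsg.IsCharacter (alternatingGroup σ) (resA σ (χ : Equiv.Perm σ → ℂ)) :=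
  CharInduce.IsChar.comp (CharBasic.IsIrr.isCharacter χ.2) (alternatingGroup σ).subtype

theorem classInner_resA [Nontrivial σ] (χ : Cfsg.IrrCharacter (Equiv.Perm σ)) :
    Cfsg.classInner (resA σ (χ : Equiv.Perm σ → ℂ)) (resA σ (χ : Equiv.Perm σ → ℂ)) =
      1 + Cfsg.classInner (twist χ : Equiv.Perm σ → ℂ) (χ : Equiv.Perm σ → ℂ) := by
  have hcard : (Nat.card (Equiv.Perm σ) : ℂ) = 2 * (Nat.card (alternatingGroup σ) : ℂ) := by
    rw [← two_mul_nat_card_alternatingGroup (α := σ)]
    push_cast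
    ring
  rw [← CharBasic.classInner_irr_self χ.2]
  simp only [CharBasic.classInner_def, ← mul_add, ← Finset.sum_add_distrib]
  have h : ∑ g : Equiv.Perm σ, ((χ : Equiv.Perm σ → ℂ) g * conj ((χ : Equiv.Perm σ → ℂ) g) +
      (twist χ : Equiv.Perm σ → ℂ) g * conj ((χ : Equiv.Perm σ → ℂ) g)) =
      2 * ∑ a : alternatingGroup σ, resA σ (χ : Equiv.Perm σ → ℂ) a *
        conj (resA σ (χ : Equiv.Perm σ → ℂ) a) := by
    classical
    simp only [resA_apply]
    rw [← Finset.sum_subtype (univ.filter fun g => g ∈ alternatingGroup σ) (by simp)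
      (fun g => (χ : Equiv.Perm σ → ℂ) g * conj ((χ : Equiv.Perm σ → ℂ) g)), Finset.sum_filter,
      Finset.mul_sum]
    refine Finset.sum_congr rfl fun g _ => ?_
    rw [twist_apply]
    split_ifs with hg
    · rw [sgnC_of_mem hg]; ring
    · rw [sgnC_of_notMem hg]; ring
  rw [h, hcard]
  field_simp

/-- A character different from its twist restricts irreducibly. -/
theorem eq_resA_of_twist_ne [Nontrivial σ] {χ : Cfsg.IrrCharacter (Equiv.Perm σ)}
    (h : twist χ ≠ χ) {θ : Cfsg.IrrCharacter (alternatingGroup σ)}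
    (hθ : Cfsg.classInner (resA σ (χ : Equiv.Perm σ → ℂ)) (θ : alternatingGroup σ → ℂ) ≠ 0) :
    (θ : alternatingGroup σ → ℂ) = resA σ (χ : Equiv.Perm σ → ℂ) := by
  have h1 : Cfsg.classInner (resA σ (χ : Equiv.Perm σ → ℂ)) (resA σ (χ : Equiv.Perm σ → ℂ)) = 1 := by
    rw [classInner_resA, CharBasic.classInner_irr_of_ne (twist χ).2 χ.2
      (fun e => h (Subtype.ext e)), add_zero]
  have hirr := CharInduce.isIrr_of_norm_one (isChar_resA χ) h1
  by_contra hne
  exact hθ (CharBasic.classInner_irr_of_ne hirr θ.2 (fun e => hne e.symm))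

open scoped Classical in
/-- A character equal to its twist has at most two constituents, spanned by its restriction and
one of them. -/
theorem exists_span_pair [Nontrivial σ] {χ : Cfsg.IrrCharacter (Equiv.Perm σ)}
    (h : twist χ = χ) : ∃ θ₁ : Cfsg.IrrCharacter (alternatingGroup σ),
      ∀ θ : Cfsg.IrrCharacter (alternatingGroup σ),
        Cfsg.classInner (resA σ (χ : Equiv.Perm σ → ℂ)) (θ : alternatingGroup σ → ℂ) ≠ 0 →
          (θ : alternatingGroup σ → ℂ) = θ₁ ∨
          (θ : alternatingGroup σ → ℂ) =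
            resA σ (χ : Equiv.Perm σ → ℂ) - (θ₁ : alternatingGroup σ → ℂ) := by
  choose m hm using fun θ : Cfsg.IrrCharacter (alternatingGroup σ) =>
    CharBasic.classInner_isChar_nat (isChar_resA χ) (CharBasic.IsIrr.isCharacter θ.2)
  have hexp := CharBasic.classFunction_expansion (CharBasic.IsChar.isClassFunction (isChar_resA χ))
  simp only [hm] at hexp
  have hsq : ∑ θ, m θ * m θ = 2 := by
    have h2 := classInner_resA χ
    rw [h, CharBasic.classInner_irr_self χ.2, CharBasic.classInner_eq_sum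
      (CharBasic.IsChar.isClassFunction (isChar_resA χ))] at h2
    simp only [hm, map_natCast] at h2
    norm_num at h2
    exact_mod_cast h2
  obtain ⟨θ₁, h1⟩ : ∃ θ₁, m θ₁ ≠ 0 := by
    by_contra hc
    push Not at hc
    simp [hc] at hsq
  refine ⟨θ₁, fun θ hθ => ?_⟩
  by_cases he : θ = θ₁
  · exact Or.inl (by rw [he])
  right
  have hθ0 : m θ ≠ 0 := fun e => hθ (by rw [hm, e, Nat.cast_zero])
  have hle : m θ₁ * m θ₁ + m θ * m θ +
      ∑ x ∈ (univ.erase θ₁).erase θ, m x * m x = 2 := by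
    rw [add_assoc, Finset.add_sum_erase _ (fun x => m x * m x) (by simp [he]),
      Finset.add_sum_erase _ (fun x => m x * m x) (Finset.mem_univ _), hsq]
  have hp1 := Nat.mul_pos (Nat.pos_of_ne_zero h1) (Nat.pos_of_ne_zero h1)
  have hp2 := Nat.mul_pos (Nat.pos_of_ne_zero hθ0) (Nat.pos_of_ne_zero hθ0)
  have e1 : m θ₁ = 1 := (mul_eq_one.1 (show m θ₁ * m θ₁ = 1 by omega)).1
  have e2 : m θ = 1 := (mul_eq_one.1 (show m θ * m θ = 1 by omega)).1
  have h0 : ∀ x ∈ (univ.erase θ₁).erase θ, m x = 0 := fun x hx => mul_self_eq_zero.1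
    (Finset.sum_eq_zero_iff.1 (show ∑ x ∈ (univ.erase θ₁).erase θ, m x * m x = 0 by omega) x hx)
  rw [hexp, ← Finset.add_sum_erase _ _ (Finset.mem_univ θ₁),
    ← Finset.add_sum_erase (univ.erase θ₁) _ (a := θ) (by simp [he]),
    Finset.sum_eq_zero (fun x hx => by rw [h0 x hx, Nat.cast_zero, zero_smul]), e1, e2]
  simp

end Cfsg.Agent.H15.SymBlocks
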