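import Cfsg.Agent.H15.SymBlocks.Poly

/-!
# Colourings fixed by a permutation

The generating polynomial of colourings fixed by a permutation and its average against the
permutation character on colourings of given content.
-/

set_option linter.unusedSectionVars false

namespace Cfsg.Agent.H15.SymBlocks

open MvPolynomial Finset
open scoped Nat

variable {σ : Type} [Fintype σ] [DecidableEq σ]

/-- Content of a colouring. -/
def cnt {κ : Type} [DecidableEq κ] (f : σ → κ) : κ → ℕ :=
  fun k => (univ.filter fun i => f i = k).card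

theorem sum_cnt {κ : Type} [Fintype κ] [DecidableEq κ] (f : σ → κ) :
    ∑ k, cnt f k = Fintype.card σ :=
  (Finset.card_eq_sum_card_fiberwise (fun i _ => Finset.mem_univ (f i))).symm

theorem cnt_mem {κ : Type} [Fintype κ] [DecidableEq κ] (f : σ → κ) :
    cnt f ∈ Finset.piAntidiag univ (Fintype.card σ) := by
  simp [Finset.mem_piAntidiag, sum_cnt]

theorem cnt_comp_perm {κ : Type} [DecidableEq κ] (f : σ → κ) (g : Equiv.Perm σ) :
    cnt (f ∘ g) = cnt f := by
  funext k
  exact Finset.card_nbij' (fun i => g i) (fun i => g.symm i) (by intro i; simp) (by intro i; simp)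
    (by intro i; simp) (by intro i; simp)

variable (κ : Type) [Fintype κ] [DecidableEq κ]

/-- Colourings fixed by a permutation. -/
def fixCol (g : Equiv.Perm σ) : Finset (σ → κ) := univ.filter fun f => f ∘ g = f

variable {κ}

theorem mem_fixCol {g : Equiv.Perm σ} {f : σ → κ} : f ∈ fixCol κ g ↔ f ∘ g = f := by
  simp [fixCol]

theorem card_stab (f : σ → κ) :
    (univ.filter fun g : Equiv.Perm σ => f ∘ g = f).card = ∏ k, (cnt f k)! := by
  rw [← Fintype.card_subtype, DomMulAct.stabilizer_card]
  simp [cnt, Fintype.card_subtype]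

theorem exists_comp_eq {f f' : σ → κ} (h : cnt f = cnt f') :
    ∃ g : Equiv.Perm σ, f ∘ g = f' := by
  refine ⟨Equiv.ofFiberEquiv (f := f') (g := f) fun c => Fintype.equivOfCardEq ?_, ?_⟩
  · simpa [cnt, Fintype.card_subtype] using (congrFun h c).symm
  · funext a
    exact Equiv.ofFiberEquiv_map _ a

theorem card_fiber_mul (m : κ → ℕ) (hm : m ∈ Finset.piAntidiag univ (Fintype.card σ)) :
    (univ.filter fun f : σ → κ => cnt f = m).card * ∏ k, (m k)! = (Fintype.card σ)! := by
  classical
  obtain ⟨hm1, -⟩ := Finset.mem_piAntidiag.1 hm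
  obtain ⟨f₀, hf₀⟩ : ∃ f₀ : σ → κ, cnt f₀ = m := by
    let e : σ ≃ Σ k, Fin (m k) := Fintype.equivOfCardEq (by simp [hm1])
    refine ⟨fun i => (e i).1, funext fun k => ?_⟩
    have h1 : Fintype.card {x : Σ k, Fin (m k) // x.1 = k} = m k := by
      rw [Fintype.card_congr (Equiv.sigmaSubtype k), Fintype.card_fin]
    rw [cnt, ← Fintype.card_subtype, ← h1]
    exact Fintype.card_congr (e.subtypeEquiv fun i => Iff.rfl)
  have h : ∀ f ∈ univ.filter (fun f : σ → κ => cnt f = m),
      (univ.filter fun g : Equiv.Perm σ => f₀ ∘ g = f).card = ∏ k, (m k)! := by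
    intro f hf
    obtain ⟨g₁, hg₁⟩ := exists_comp_eq (hf₀.trans (Finset.mem_filter.1 hf).2.symm)
    rw [← hf₀, ← card_stab f₀]
    refine Finset.card_nbij' (fun g => g * g₁⁻¹) (fun g => g * g₁) ?_ ?_
      (fun g _ => by simp) (fun g _ => by simp)
    · intro g hg
      simp only [Finset.coe_filter, Finset.mem_univ, true_and, Set.mem_ofPred_eq] at hg ⊢
      funext i
      have e2 := congrFun hg₁ (g₁⁻¹ i)
      simp only [Function.comp_apply, Equiv.Perm.inv_def, Equiv.apply_symm_apply] at e2
      have e3 := congrFun hg (g₁.symm i)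
      simp only [Function.comp_apply] at e3
      simp only [Function.comp_apply, Equiv.Perm.coe_mul, Equiv.Perm.inv_def]
      rw [e3, e2]
    · intro g hg
      simp only [Finset.coe_filter, Finset.mem_univ, true_and, Set.mem_ofPred_eq] at hg ⊢
      rw [Equiv.Perm.coe_mul, ← Function.comp_assoc, hg, hg₁]
  have h2 := Finset.card_eq_sum_card_fiberwise (s := (univ : Finset (Equiv.Perm σ)))
    (t := univ.filter fun f : σ → κ => cnt f = m) (f := fun g : Equiv.Perm σ => f₀ ∘ g)
    (fun g _ => by simp [cnt_comp_perm, hf₀])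
  rw [Finset.card_univ, Fintype.card_perm, Finset.sum_congr rfl h, Finset.sum_const,
    smul_eq_mul] at h2
  exact h2.symm

/-- Weighted orbit counting for colourings. -/
theorem sum_fixCol {A : Type*} [AddCommMonoid A] (F : (κ → ℕ) → A) :
    ∑ g : Equiv.Perm σ, ∑ f ∈ fixCol κ g, F (cnt f) =
      (Fintype.card σ)! • ∑ m ∈ Finset.piAntidiag univ (Fintype.card σ), F m := by
  classical
  simp only [fixCol, Finset.sum_filter]
  rw [Finset.sum_comm]
  simp only [← Finset.sum_filter, Finset.sum_const, card_stab]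
  rw [← Finset.sum_fiberwise_of_maps_to (fun f _ => cnt_mem f), Finset.smul_sum]
  refine Finset.sum_congr rfl fun m hm => ?_
  rw [← card_fiber_mul m hm, mul_smul, ← Finset.sum_const]
  refine Finset.sum_congr rfl fun f hf => ?_
  rw [(Finset.mem_filter.1 hf).2]

variable (N : ℕ)

/-- Generating polynomial of fixed colourings. -/
noncomputable def pgen (g : Equiv.Perm σ) : MP N := ∑ f ∈ fixCol (Fin N) g, mono (cnt f)

/-- Permutation character on colourings with content `α`. -/
def piCnt (α : Fin N → ℕ) (g : Equiv.Perm σ) : ℕ :=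
  ((fixCol (Fin N) g).filter fun f => cnt f = α).card

variable {N}

theorem coeff_pgen (α : Fin N → ℕ) (g : Equiv.Perm σ) :
    coeff (ev α) (pgen N g) = piCnt N α g := by
  rw [pgen, coeff_sum, piCnt, Finset.natCast_card_filter]
  exact Finset.sum_congr rfl fun f _ => coeff_mono _ _

theorem piCnt_eq_zero {α : Fin N → ℕ} (h : ∑ j, α j ≠ Fintype.card σ) (g : Equiv.Perm σ) :
    piCnt N α g = 0 := by
  refine Finset.card_eq_zero.2 (Finset.filter_eq_empty_iff.2 fun f _ hf => h ?_)
  rw [← hf, sum_cnt]

theorem pgen_conj (g x : Equiv.Perm σ) : pgen N (x * g * x⁻¹) = pgen N g := by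
  refine Finset.sum_nbij' (fun f => f ∘ x) (fun f => f ∘ ⇑x⁻¹) ?_ ?_ ?_ ?_ ?_
  · intro f hf
    simp only [mem_fixCol] at hf ⊢
    funext i
    simpa using congrFun hf (x i)
  · intro f hf
    simp only [mem_fixCol] at hf ⊢
    funext i
    simpa using congrFun hf (x⁻¹ i)
  · intro f _; funext i; simp
  · intro f _; funext i; simp
  · intro f _; rw [cnt_comp_perm]

theorem rename_pgen (τ : Equiv.Perm (Fin N)) (g : Equiv.Perm σ) :
    rename τ (pgen N g) = pgen N g := by
  rw [pgen, map_sum]
  refine Finset.sum_nbij' (fun f => τ ∘ f) (fun f => τ.symm ∘ f) ?_ ?_ ?_ ?_ ?_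
  · intro f hf
    simp only [mem_fixCol] at hf ⊢
    rw [Function.comp_assoc, hf]
  · intro f hf
    simp only [mem_fixCol] at hf ⊢
    rw [Function.comp_assoc, hf]
  · intro f _; funext i; simp
  · intro f _; funext i; simp
  · intro f _
    rw [mono, mono, rename_monomial]
    congr 2
    ext k
    rw [Finsupp.mapDomain_equiv_apply, ev_apply, ev_apply]
    simp [cnt, Equiv.eq_symm_apply]

/-- Average of the generating polynomial against a colouring character. -/
theorem sum_piCnt_smul_pgen (α : Fin N → ℕ) (hα : ∑ j, α j = Fintype.card σ) :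
    ∑ g : Equiv.Perm σ, (piCnt N α g : ℂ) • pgen N g =
      (Fintype.card σ)! • ∏ a, hpol N (α a) := by
  classical
  let F : (Fin N × Fin N → ℕ) → MP N := fun m =>
    if (fun a => ∑ b, m (a, b)) = α then mono (fun b => ∑ a, m (a, b)) else 0
  have hfst : ∀ (h : σ → Fin N × Fin N) (a : Fin N), ∑ b, cnt h (a, b) = cnt (Prod.fst ∘ h) a := by
    intro h a
    rw [cnt, Finset.card_eq_sum_card_fiberwise (fun i _ => Finset.mem_univ (h i).2)]
    refine Finset.sum_congr rfl fun b _ => ?_
    rw [cnt, Finset.filter_filter]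
    simp [Prod.ext_iff]
  have hsnd : ∀ (h : σ → Fin N × Fin N) (b : Fin N), ∑ a, cnt h (a, b) = cnt (Prod.snd ∘ h) b := by
    intro h b
    rw [cnt, Finset.card_eq_sum_card_fiberwise (fun i _ => Finset.mem_univ (h i).1)]
    refine Finset.sum_congr rfl fun a _ => ?_
    rw [cnt, Finset.filter_filter]
    simp [Prod.ext_iff, and_comm]
  have h1 : ∀ g : Equiv.Perm σ, (piCnt N α g : ℂ) • pgen N g =
      ∑ h ∈ fixCol (Fin N × Fin N) g, F (cnt h) := by
    intro g
    rw [Nat.cast_smul_eq_nsmul, piCnt, pgen, ← Finset.sum_const, Finset.sum_filter]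
    simp only [Finset.ite_sum_zero]
    rw [← Finset.sum_product']
    refine Finset.sum_nbij' (fun ff i => (ff.1 i, ff.2 i))
      (fun h => (Prod.fst ∘ h, Prod.snd ∘ h)) ?_ ?_ ?_ ?_ ?_
    · intro ff hff
      simp only [Finset.mem_product, mem_fixCol] at hff ⊢
      funext i
      exact Prod.ext (congrFun hff.1 i) (congrFun hff.2 i)
    · intro h hh
      simp only [Finset.mem_product, mem_fixCol] at hh ⊢
      rw [Function.comp_assoc, Function.comp_assoc, hh]
      exact ⟨rfl, rfl⟩
    · intro ff _; rfl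
    · intro h _; rfl
    · intro ff _
      simp only [F]
      rw [funext (hfst _), funext (hsnd _)]
      rfl
  rw [Finset.sum_congr rfl fun g _ => h1 g, sum_fixCol F]
  congr 1
  rw [← Finset.sum_filter, Finset.prod_congr rfl fun a _ => hpol_eq N (α a), Finset.prod_univ_sum]
  refine Finset.sum_nbij' (fun m a => Finsupp.equivFunOnFinite.symm fun b => m (a, b))
    (fun v ab => v ab.1 ab.2) ?_ ?_ ?_ ?_ ?_
  · intro m hm
    simp only [Finset.mem_filter, Finset.mem_piAntidiag] at hm
    refine Fintype.mem_piFinset.2 fun a => Finset.mem_finsuppAntidiag.2 ?_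
    exact ⟨congrFun hm.2 a, Finset.subset_univ _⟩
  · intro v hv
    replace hv := fun a => Finset.mem_finsuppAntidiag.1 (Fintype.mem_piFinset.1 hv a)
    simp only [Finset.mem_filter, Finset.mem_piAntidiag]
    refine ⟨⟨?_, by simp⟩, funext fun a => (hv a).1⟩
    rw [Fintype.sum_prod_type, ← hα]
    exact Finset.sum_congr rfl fun a _ => (hv a).1
  · intro m _; rfl
  · intro v _; funext a; ext b; rfl
  · intro m _
    rw [mono, ← monomial_sum_one]
    congr 2
    ext b
    simp [Finsupp.finsetSum_apply]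

end Cfsg.Agent.H15.SymBlocks
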