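import Cfsg.Agent.H15.SymBlocks.Degree

/-!
# Tuples with prescribed runners

Every runner of a tuple of weight `w` in degree at most `N` has at least `w` entries, so the
runners can be replaced by arbitrary sets of total excess `w`.  This gives tuples of largest hook
sum and of hook sum one less.
-/

set_option linter.unusedSectionVars false

namespace Cfsg.Agent.H15.SymBlocks

open Finset
open scoped Nat

variable {σ : Type} [Fintype σ] [DecidableEq σ] {N p : ℕ}

theorem wt_le_rcnt (hp : 0 < p) {γ : Fin N → ℕ} (hγ : γ ∈ tup N (lvl N (Fintype.card σ)))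
    (hi : Function.Injective γ) (hN : Fintype.card σ ≤ N) {r : ℕ} (hr : r < p) :
    wt p γ ≤ rcnt p γ r := by
  obtain ⟨β, hb, hbr, hs⟩ := exists_lowered hp hi
  rw [← hbr]
  have hA : (univ.image β).card = N := by
    rw [Finset.card_image_of_injective _ hb, Finset.card_univ, Fintype.card_fin]
  have hmem : ∀ x < p * wt p γ, x ∈ univ.image β := by
    intro x hx
    by_contra hc
    have h := sum_range_le_sum_set (insert x (univ.image β))
    rw [Finset.card_insert_of_notMem hc, hA, Finset.sum_range_succ, Finset.sum_insert hc,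
      Finset.sum_image hb.injOn] at h
    rw [mem_tup, lvl] at hγ
    simp only [stair, Fin.sum_univ_eq_sum_range (fun q => q)] at hγ
    omega
  rw [rcnt]
  have hsub : (Finset.range (wt p γ)).image (fun t => r + p * t) ⊆
      (univ.image β).filter fun a => a % p = r := by
    intro a ha
    obtain ⟨t, ht, rfl⟩ := Finset.mem_image.1 ha
    rw [Finset.mem_range] at ht
    refine Finset.mem_filter.2 ⟨hmem _ ?_, by rw [Nat.add_mul_mod_self_left, Nat.mod_eq_of_lt hr]⟩
    calc r + p * t < p + p * t := Nat.add_lt_add_right hr _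
      _ = p * (t + 1) := by ring
      _ ≤ p * wt p γ := Nat.mul_le_mul_left _ ht
  have h := Finset.card_le_card hsub
  rw [Finset.card_image_of_injective _ (fun a b hab => by simpa [hp.ne'] using hab),
    Finset.card_range, Finset.filter_image, Finset.card_image_of_injective _ hb] at h
  exact h

/-- The set with given runners. -/
def unionR (p : ℕ) (F : ℕ → Finset ℕ) : Finset ℕ :=
  (Finset.range p).biUnion fun r => (F r).image fun t => r + p * t

theorem mem_unionR {F : ℕ → Finset ℕ} {a : ℕ} (hp : 0 < p) :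
    a ∈ unionR p F ↔ a / p ∈ F (a % p) := by
  simp only [unionR, Finset.mem_biUnion, Finset.mem_range, Finset.mem_image]
  constructor
  · rintro ⟨r, hr, t, ht, rfl⟩
    rwa [Nat.add_mul_mod_self_left, Nat.mod_eq_of_lt hr, Nat.add_mul_div_left _ _ hp,
      Nat.div_eq_of_lt hr, zero_add]
  · exact fun h => ⟨a % p, Nat.mod_lt _ hp, a / p, h, Nat.mod_add_div a p⟩

theorem runnerS_unionR (hp : 0 < p) (F : ℕ → Finset ℕ) {r : ℕ} (hr : r < p) :
    runnerS p (unionR p F) r = F r := by
  ext t
  simp only [runnerS, Finset.mem_image, Finset.mem_filter, mem_unionR hp]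
  constructor
  · rintro ⟨a, ⟨ha, rfl⟩, rfl⟩
    exact ha
  · intro ht
    refine ⟨r + p * t, ⟨?_, ?_⟩, ?_⟩
    · rwa [Nat.add_mul_mod_self_left, Nat.mod_eq_of_lt hr, Nat.add_mul_div_left _ _ hp,
        Nat.div_eq_of_lt hr, zero_add]
    · rw [Nat.add_mul_mod_self_left, Nat.mod_eq_of_lt hr]
    · rw [Nat.add_mul_div_left _ _ hp, Nat.div_eq_of_lt hr, zero_add]

theorem card_eq_sum_runnerS (hp : 0 < p) (A : Finset ℕ) :
    A.card = ∑ r ∈ Finset.range p, (runnerS p A r).card := by
  simp only [card_runnerS]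
  exact Finset.card_eq_sum_card_fiberwise fun a _ => Finset.mem_range.2 (Nat.mod_lt _ hp)

theorem sum_eq_runnerS (hp : 0 < p) (A : Finset ℕ) :
    ∑ a ∈ A, a = ∑ r ∈ Finset.range p, r * (runnerS p A r).card +
      p * (∑ r ∈ Finset.range p, exc (runnerS p A r) +
        ∑ r ∈ Finset.range p, ∑ i ∈ Finset.range (runnerS p A r).card, i) := by
  have h : ∀ a, a = a % p + p * (a / p) := fun a => (Nat.mod_add_div a p).symm
  conv_lhs => rw [Finset.sum_congr rfl fun a _ => h a, Finset.sum_add_distrib, ← Finset.mul_sum]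
  congr 1
  · rw [← Finset.sum_fiberwise_of_maps_to (g := fun a => a % p)
      (fun a _ => Finset.mem_range.2 (Nat.mod_lt _ hp))]
    refine Finset.sum_congr rfl fun r _ => ?_
    rw [Finset.sum_congr rfl (fun a ha => (Finset.mem_filter.1 ha).2), Finset.sum_const,
      card_runnerS, smul_eq_mul, mul_comm]
  · congr 1
    rw [← Finset.sum_add_distrib]
    exact (qS_eq_sum hp A).trans (Finset.sum_congr rfl fun r _ =>
      (Nat.sub_add_cancel (sum_range_le_sum_set _)).symm)

/-- A tuple with prescribed runners. -/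
theorem exists_tuple_of_family (hp : 0 < p) {γ₀ : Fin N → ℕ}
    (hγ₀ : γ₀ ∈ tup N (lvl N (Fintype.card σ))) (hi₀ : Function.Injective γ₀)
    {F : ℕ → Finset ℕ} (hc : ∀ r < p, (F r).card = rcnt p γ₀ r)
    (he : ∑ r ∈ Finset.range p, exc (F r) = wt p γ₀) :
    ∃ γ ∈ monoTup σ N, rcnt p γ = rcnt p γ₀ ∧ wt p γ = wt p γ₀ ∧ ∀ r < p, runner p γ r = F r := by
  set A := unionR p F with hAdef
  have hA0 : (univ.image γ₀).card = N := by
    rw [Finset.card_image_of_injective _ hi₀, Finset.card_univ, Fintype.card_fin]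
  have hrun0 : ∀ r, (runnerS p (univ.image γ₀) r).card = rcnt p γ₀ r := fun r => by
    rw [← runner_eq_runnerS, card_runner hi₀]
  have hcr : ∀ r ∈ Finset.range p, (runnerS p A r).card = rcnt p γ₀ r := fun r hr => by
    rw [runnerS_unionR hp F (Finset.mem_range.1 hr), hc r (Finset.mem_range.1 hr)]
  have hA : A.card = N := by
    rw [← hA0, card_eq_sum_runnerS hp A, card_eq_sum_runnerS hp (univ.image γ₀)]
    exact Finset.sum_congr rfl fun r hr => (hcr r hr).trans (hrun0 r).symm
  have hsum : ∑ a ∈ A, a = Fintype.card σ + ∑ q ∈ Finset.range N, q := by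
    have h1 := hγ₀
    rw [mem_tup, lvl] at h1
    simp only [stair, Fin.sum_univ_eq_sum_range (fun q => q)] at h1
    have h2 := sum_eq_runnerS hp (univ.image γ₀)
    rw [Finset.sum_image hi₀.injOn] at h2
    rw [← h1, h2, sum_eq_runnerS hp A, Finset.sum_congr rfl (fun r hr => by rw [hcr r hr]),
      Finset.sum_congr (s₁ := Finset.range p) rfl (fun r hr =>
        show ∑ i ∈ Finset.range (runnerS p A r).card, i = ∑ i ∈ Finset.range (rcnt p γ₀ r), i by
          rw [hcr r hr]),
      Finset.sum_congr (s₁ := Finset.range p) rfl (fun r hr =>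
        show exc (runnerS p A r) = exc (F r) by rw [runnerS_unionR hp F (Finset.mem_range.1 hr)]),
      he, wt_eq_sum_exc hp hi₀]
    simp only [hrun0, runner_eq_runnerS]
  have htup := mem_tup_orderEmb A hA hsum
  have hmono := (A.orderEmbOfFin hA).strictMono
  have hrun : ∀ r < p, runner p (A.orderEmbOfFin hA) r = F r := fun r hr => by
    rw [runner_eq_runnerS, image_orderEmb A hA, hAdef, runnerS_unionR hp F hr]
  have hrc : rcnt p (A.orderEmbOfFin hA) = rcnt p γ₀ := by
    funext r
    by_cases hr : r < p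
    · rw [← card_runner hmono.injective, hrun r hr, hc r hr]
    · have hz : ∀ δ : Fin N → ℕ, rcnt p δ r = 0 := fun δ =>
        Finset.card_eq_zero.2 (Finset.filter_eq_empty_iff.2 fun j _ hj => hr (hj ▸ Nat.mod_lt (δ j) hp))
      rw [hz, hz]
  refine ⟨_, mem_monoTup.2 ⟨htup, hmono⟩, hrc, ?_, hrun⟩
  rw [wt_eq_sum_exc hp hmono.injective, ← he]
  exact Finset.sum_congr rfl fun r hr => by rw [hrun r (Finset.mem_range.1 hr)]

/-- The hook sum of a tuple in degree `n`. -/
def hookVal (p n : ℕ) (γ : Fin N → ℕ) : ℕ := hsum p (lvl N n + N + 2) (univ.image γ)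

theorem lt_pow_of_mem_tup (hp : 1 < p) {n : ℕ} {γ : Fin N → ℕ} (hγ : γ ∈ tup N (lvl N n)) (j : Fin N) :
    γ j < p ^ (lvl N n + N + 1) := by
  rw [mem_tup] at hγ
  have h : γ j ≤ lvl N n :=
    hγ ▸ Finset.single_le_sum (f := γ) (fun i _ => Nat.zero_le _) (Finset.mem_univ j)
  exact lt_of_le_of_lt (h.trans (by omega)) (Nat.lt_pow_self hp)

theorem hookVal_eq (hp : p.Prime) {n : ℕ} {γ : Fin N → ℕ} (hi : Function.Injective γ) :
    hookVal p n γ =
      wt p γ + ∑ r ∈ Finset.range p, hsum p (lvl N n + N + 1) (runner p γ r) := by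
  rw [hookVal, hsum_succ hp.pos (lvl N n + N + 1) (by omega), wt_eq_wtS hp.pos hi]
  simp only [runner_eq_runnerS]

theorem lt_pow_of_mem_runner (hp : p.Prime) {n : ℕ} {γ : Fin N → ℕ} (hγ : γ ∈ tup N (lvl N n))
    {r x : ℕ} (hx : x ∈ runner p γ r) : x < p ^ (lvl N n + N + 1) := by
  obtain ⟨j, -, rfl⟩ := Finset.mem_image.1 hx
  exact lt_of_le_of_lt (Nat.div_le_self _ _) (lt_pow_of_mem_tup hp.one_lt hγ j)

theorem hsum_runner_le (hp : p.Prime) {n : ℕ} {γ : Fin N → ℕ} (hγ : γ ∈ tup N (lvl N n)) (r : ℕ) :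
    hsum p (lvl N n + N + 1) (runner p γ r) ≤ ((exc (runner p γ r))!).factorization p :=
  hsum_le hp (by omega) fun _ hx => lt_pow_of_mem_runner hp hγ hx

theorem sum_factorization_le (hp : p.Prime) (s : Finset ℕ) (e : ℕ → ℕ) :
    ∑ r ∈ s, ((e r)!).factorization p ≤ ((∑ r ∈ s, e r)!).factorization p := by
  rw [← Nat.factorization_prod_apply fun r _ => Nat.factorial_ne_zero _]
  exact (Nat.factorization_le_iff_dvd (Finset.prod_ne_zero_iff.2 fun r _ => Nat.factorial_ne_zero _)
    (Nat.factorial_ne_zero _)).2 (Nat.prod_factorial_dvd_factorial_sum s e) p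

/-- The largest possible hook sum. -/
theorem hookVal_le (hp : p.Prime) {n : ℕ} {γ : Fin N → ℕ} (hγ : γ ∈ tup N (lvl N n))
    (hi : Function.Injective γ) :
    hookVal p n γ ≤ wt p γ + ((wt p γ)!).factorization p := by
  rw [hookVal_eq hp hi]
  refine Nat.add_le_add_left ((Finset.sum_le_sum fun r _ => hsum_runner_le hp hγ r).trans ?_) _
  refine (sum_factorization_le hp (Finset.range p) fun r => exc (runner p γ r)).trans (le_of_eq ?_)
  rw [← wt_eq_sum_exc hp.pos hi]

theorem factorization_factorial_lt (hp : p.Prime) {e : ℕ} (he : e < p) :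
    (e !).factorization p = 0 :=
  Nat.factorization_factorial_eq_zero_of_lt he

theorem factorization_factorial_div (hp : p.Prime) (n : ℕ) :
    (n !).factorization p = n / p + ((n / p)!).factorization p := by
  have hb : Nat.log p n < n + 2 := by have := Nat.log_le_self p n; omega
  have hb' : Nat.log p (n / p) < n + 1 := by
    have := Nat.log_le_self p (n / p)
    have := Nat.div_le_self n p
    omega
  rw [Nat.factorization_factorial hp hb, Nat.factorization_factorial hp hb',
    Finset.sum_eq_sum_Ico_succ_bot (by omega), pow_one,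
    ← Finset.sum_Ico_add' (fun k => n / p ^ k) 1 (n + 1) 1]
  congr 1
  exact Finset.sum_congr rfl fun k _ => by rw [pow_succ', Nat.div_div_eq_div_mul]

/-- A splitting with exactly one carry. -/
theorem exists_splitting (hp : p.Prime) : ∀ w : ℕ, p ≤ w → ((w / p) % p = 0 ∨ w % p + 1 < p) →
    ∃ e, 0 < e ∧ e < w ∧ (w !).factorization p =
      (e !).factorization p + ((w - e)!).factorization p + 1 := by
  intro w
  induction w using Nat.strong_induction_on with
  | _ w ih =>
    intro hw hc
    have h2 := hp.two_le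
    have hq0 : 0 < w / p := Nat.div_pos hw hp.pos
    have hmod := Nat.mod_lt w hp.pos
    have hdm := Nat.mod_add_div w p
    have key := factorization_factorial_div hp w
    by_cases hq : (w / p) % p = 0
    · have hpq : p ≤ w / p := Nat.le_of_dvd hq0 (Nat.dvd_of_mod_eq_zero hq)
      have hlt : w / p < w := Nat.div_lt_self (by omega) hp.one_lt
      obtain ⟨e, he0, hew, he⟩ := ih (w / p) hlt hpq (Or.inr (by rw [hq]; omega))
      refine ⟨p * e, Nat.mul_pos hp.pos he0, ?_, ?_⟩
      · have := Nat.mul_lt_mul_of_pos_left hew hp.pos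
        omega
      · have k1 := factorization_factorial_div hp (p * e)
        have k2 := factorization_factorial_div hp (w - p * e)
        have e1 : p * e / p = e := Nat.mul_div_cancel_left _ hp.pos
        have e2 : (w - p * e) / p = w / p - e := by
          have : p * (w / p) = p * (w / p - e) + p * e := by rw [← Nat.mul_add, Nat.sub_add_cancel hew.le]
          rw [show w - p * e = w % p + p * (w / p - e) by omega, Nat.add_mul_div_left _ _ hp.pos,
            Nat.div_eq_of_lt hmod, zero_add]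
        rw [e1] at k1
        rw [e2] at k2
        omega
    · have hr := hc.resolve_left hq
      refine ⟨w % p + 1, by omega, by omega, ?_⟩
      obtain ⟨q, hq'⟩ : ∃ q, w / p = q + 1 := ⟨w / p - 1, by omega⟩
      have k2 := factorization_factorial_div hp (w - (w % p + 1))
      have e2 : (w - (w % p + 1)) / p = q := by
        rw [hq', Nat.mul_add, mul_one] at hdm
        rw [show w - (w % p + 1) = (p - 1) + p * q by omega, Nat.add_mul_div_left _ _ hp.pos,
          Nat.div_eq_of_lt (by omega), zero_add]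
      rw [e2] at k2
      rw [hq'] at key hq
      have hv : (q + 1).factorization p = 0 :=
        Nat.factorization_eq_zero_of_not_dvd fun hd => hq (Nat.mod_eq_zero_of_dvd hd)
      rw [Nat.factorial_succ, Nat.factorization_mul (Nat.succ_ne_zero q) (Nat.factorial_ne_zero q),
        Finsupp.add_apply, hv] at key
      rw [factorization_factorial_lt hp hr]
      omega

/-- The other case for odd primes: three parts. -/
theorem exists_split_three (hp : p.Prime) (hp3 : 3 ≤ p) {w : ℕ} (hw : p ≤ w)
    (hq : (w / p) % p ≠ 0) (hr : w % p + 1 = p) :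
    ∃ e e' e'', e + e' + e'' = w ∧ (w !).factorization p =
      (e !).factorization p + (e' !).factorization p + (e'' !).factorization p + 1 := by
  have hq0 : 0 < w / p := Nat.div_pos hw hp.pos
  have hdm := Nat.mod_add_div w p
  obtain ⟨q, hq'⟩ : ∃ q, w / p = q + 1 := ⟨w / p - 1, by omega⟩
  rw [hq', Nat.mul_add, mul_one] at hdm
  refine ⟨p - 1, p - 1, 1 + p * q, by omega, ?_⟩
  have key := factorization_factorial_div hp w
  have k2 := factorization_factorial_div hp (1 + p * q)
  rw [Nat.add_mul_div_left _ _ hp.pos, Nat.div_eq_of_lt hp.one_lt, zero_add] at k2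
  rw [hq'] at key hq
  have hv : (q + 1).factorization p = 0 :=
    Nat.factorization_eq_zero_of_not_dvd fun hd => hq (Nat.mod_eq_zero_of_dvd hd)
  rw [Nat.factorial_succ, Nat.factorization_mul (Nat.succ_ne_zero q) (Nat.factorial_ne_zero q),
    Finsupp.add_apply, hv] at key
  rw [factorization_factorial_lt hp (show p - 1 < p by omega)]
  omega

theorem exists_rowShape {k e : ℕ} (hek : e ≤ k) :
    ∃ F : Finset ℕ, F.card = k ∧ exc F = e ∧ ∀ p b : ℕ, p.Prime → 0 < b → k + e < p ^ b →
      hsum p b F = (e !).factorization p := by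
  rcases k with _ | k
  · obtain rfl : e = 0 := by omega
    refine ⟨∅, rfl, rfl, fun p b hp hb h => ?_⟩
    rw [← Finset.range_zero, hsum_range hp hb 0 (by omega), Nat.factorial_zero,
      Nat.factorization_one, Finsupp.zero_apply]
  · exact ⟨rowSet k e, card_rowSet k e, exc_rowSet k e, fun p b hp hb h =>
      hsum_rowSet hp hb (by omega)⟩

theorem rcnt_add_lt (hp : p.Prime) (hN : Fintype.card σ ≤ N) {γ₀ : Fin N → ℕ}
    (hγ₀ : γ₀ ∈ tup N (lvl N (Fintype.card σ))) (hi₀ : Function.Injective γ₀) (r : ℕ) :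
    rcnt p γ₀ r + wt p γ₀ < p ^ (lvl N (Fintype.card σ) + N + 1) := by
  have hbound : rcnt p γ₀ r ≤ N := by
    rw [rcnt]
    exact (Finset.card_le_univ _).trans (le_of_eq (Fintype.card_fin N))
  have hwn := mul_wt_le hp.pos hγ₀ hi₀
  have hw' : wt p γ₀ ≤ p * wt p γ₀ := Nat.le_mul_of_pos_left _ hp.pos
  calc rcnt p γ₀ r + wt p γ₀ ≤ N + N := Nat.add_le_add hbound (hw'.trans (hwn.trans hN))
    _ < 2 ^ (N + 1) := by
      have := Nat.lt_pow_self (n := N) one_lt_two
      rw [pow_succ]
      omega
    _ ≤ p ^ (N + 1) := Nat.pow_le_pow_left hp.two_le _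
    _ ≤ p ^ (lvl N (Fintype.card σ) + N + 1) := Nat.pow_le_pow_right hp.pos (by omega)

/-- A tuple with a given excess on each runner and largest hook sum on each runner. -/
theorem exists_tuple_of_excs (hp : p.Prime) (hN : Fintype.card σ ≤ N) {γ₀ : Fin N → ℕ}
    (hγ₀ : γ₀ ∈ tup N (lvl N (Fintype.card σ))) (hi₀ : Function.Injective γ₀) (e : ℕ → ℕ)
    (he : ∑ r ∈ Finset.range p, e r = wt p γ₀) :
    ∃ γ ∈ monoTup σ N, rcnt p γ = rcnt p γ₀ ∧ wt p γ = wt p γ₀ ∧
      (∀ r < p, exc (runner p γ r) = e r) ∧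
      hookVal p (Fintype.card σ) γ = wt p γ₀ + ∑ r ∈ Finset.range p, ((e r)!).factorization p := by
  classical
  have hle : ∀ r, r < p → e r ≤ rcnt p γ₀ r := fun r hr =>
    le_trans (he ▸ Finset.single_le_sum (fun i _ => Nat.zero_le _) (Finset.mem_range.2 hr))
      (wt_le_rcnt hp.pos hγ₀ hi₀ hN hr)
  choose F hFc hFe hFh using fun r : {r // r < p} => exists_rowShape (hle r r.2)
  let G : ℕ → Finset ℕ := fun r => if h : r < p then F ⟨r, h⟩ else ∅
  obtain ⟨γ, hγ, hr, hw, hrun⟩ := exists_tuple_of_family (σ := σ) hp.pos hγ₀ hi₀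
    (F := G) (fun r hr => by simp only [G, dif_pos hr, hFc])
    ((Finset.sum_congr rfl fun r hr => by
      simp only [G, dif_pos (Finset.mem_range.1 hr), hFe]).trans he)
  refine ⟨γ, hγ, hr, hw, fun r hr' => by rw [hrun r hr']; simp only [G, dif_pos hr', hFe], ?_⟩
  obtain ⟨htup, hmono⟩ := mem_monoTup.1 hγ
  rw [hookVal_eq hp hmono.injective, hw]
  congr 1
  refine Finset.sum_congr rfl fun r hr' => ?_
  rw [Finset.mem_range] at hr'
  rw [hrun r hr']
  simp only [G, dif_pos hr']
  refine hFh ⟨r, hr'⟩ p _ hp (by omega) ?_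
  have hew : e r ≤ wt p γ₀ :=
    he ▸ Finset.single_le_sum (fun i _ => Nat.zero_le _) (Finset.mem_range.2 hr')
  have := rcnt_add_lt hp hN hγ₀ hi₀ r
  show rcnt p γ₀ r + e r < _
  omega

end Cfsg.Agent.H15.SymBlocks
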