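import Cfsg.Agent.BlockBasic.Cover

/-!
# Inner-acted direct factors

Let `ι : F →* C` be injective and suppose that conjugation by every element of `C` induces an inner
automorphism of `F`.  The idempotents of `F` are central in `C`, so each irreducible character of
`C` lies over a single irreducible character of `F`, and over a single union of blocks inside
each block of `C`.
-/

set_option linter.unusedSectionVars false

namespace Cfsg.Agent.H15.SymBlocks

open MonoidAlgebra
open scoped ComplexConjugate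
open Cfsg.Agent

universe u v

variable {C : Type u} [Group C] [Fintype C] {F : Type v} [Group F] [Fintype F]

/-- The idempotent of a set of characters of `F`, in the group algebra of `C`. -/
noncomputable def overElem (ι : F →* C) (U : Set (Cfsg.IrrCharacter F)) : MonoidAlgebra ℂ C :=
  MonoidAlgebra.mapDomainRingHom ℂ ι (BlockBasic.blockElem U)

variable {ι : F →* C}

theorem coeff_overElem (hι : Function.Injective ι) (U : Set (Cfsg.IrrCharacter F)) (x : F) :
    (overElem ι U).coeff (ι x) = Cfsg.blockCoeff U x := by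
  rw [← BlockBasic.coeff_blockElem U x]
  exact Finsupp.mapDomain_apply hι _ x

theorem coeff_overElem_of_notMem (U : Set (Cfsg.IrrCharacter F)) {c : C} (hc : c ∉ Set.range ι) :
    (overElem ι U).coeff c = 0 :=
  Finsupp.mapDomain_of_notMem_range _ c hc

theorem overElem_mul (U V : Set (Cfsg.IrrCharacter F)) :
    overElem ι U * overElem ι V = overElem ι (U ∩ V) := by
  rw [overElem, overElem, overElem, ← map_mul, BlockBasic.blockElem_mul]

theorem overElem_univ : overElem ι (Set.univ : Set (Cfsg.IrrCharacter F)) = 1 := by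
  rw [overElem, BlockBasic.blockElem_univ, map_one]

theorem isCentralElt_overElem (hι : Function.Injective ι)
    (hinn : ∀ (c : C) (x : F), ∃ f : F, c * ι x * c⁻¹ = ι (f * x * f⁻¹))
    (U : Set (Cfsg.IrrCharacter F)) : BlockBasic.IsCentralElt (overElem ι U) := by
  intro g h
  show (overElem ι U).coeff (h * g * h⁻¹) = (overElem ι U).coeff g
  by_cases hg : g ∈ Set.range ι
  · obtain ⟨x, rfl⟩ := hg
    obtain ⟨f, hf⟩ := hinn h x
    rw [hf, coeff_overElem hι, coeff_overElem hι]
    exact BlockBasic.isClassFunction_blockCoeff U x f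
  · rw [coeff_overElem_of_notMem U hg, coeff_overElem_of_notMem U]
    rintro ⟨x, hx⟩
    obtain ⟨f, hf⟩ := hinn h⁻¹ x
    refine hg ⟨f * x * f⁻¹, ?_⟩
    rw [← hf, hx]
    group

theorem isIntElt_overElem {p : ℕ} {M : Ideal Cfsg.AlgInt} (hM : Cfsg.IsPModular p M)
    (hι : Function.Injective ι) {U : Set (Cfsg.IrrCharacter F)}
    (hU : ∀ φ ∈ U, Cfsg.blockOf M (φ : F → ℂ) ⊆ U) :
    BlockBasic.IsIntElt M (overElem ι U) := by
  intro c
  by_cases hc : c ∈ Set.range ι
  · obtain ⟨x, rfl⟩ := hc
    rw [coeff_overElem hι, ← BlockBasic.coeff_blockElem]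
    exact BlockBasic.isIntElt_blockElem_of_union hM hU x
  · rw [coeff_overElem_of_notMem U hc]
    exact BlockBasic.MemLocalIdeal.memLocalRing (BlockBasic.memLocalIdeal_zero hM)

open scoped Classical in
theorem chiLin_overElem_mul_single (ψ : C → ℂ) (c : C) (U : Set (Cfsg.IrrCharacter F)) :
    BlockBasic.chiLin ψ (overElem ι U * single c 1) =
      ∑ φ : Cfsg.IrrCharacter F,
        if φ ∈ U then (φ : F → ℂ) 1 * Cfsg.classInner (fun x => ψ (ι x * c)) (φ : F → ℂ) else 0 := by
  have h1 : ∀ w : MonoidAlgebra ℂ F,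
      BlockBasic.chiLin ψ (MonoidAlgebra.mapDomainRingHom ℂ ι w * single c 1) =
        ∑ x, w.coeff x * ψ (ι x * c) := by
    intro w
    induction w using MonoidAlgebra.induction_linear with
    | zero => simp [BlockBasic.chiLin]
    | add a b ha hb =>
      rw [map_add, add_mul, BlockBasic.chiLin_add, ha, hb]
      simp [add_mul, Finset.sum_add_distrib]
    | single m r =>
      rw [show MonoidAlgebra.mapDomainRingHom ℂ ι (single m r) = single (ι m) r by simp,
        MonoidAlgebra.single_mul_single, BlockBasic.chiLin_single, mul_one,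
        Finset.sum_eq_single m]
      · simp
      · intro x _ hx
        simp [hx.symm]
      · simp
  rw [overElem, h1]
  simp only [BlockBasic.coeff_blockElem, Cfsg.blockCoeff, BlockBasic.finsum_mem_eq_sum_ite,
    Finset.mul_sum, Finset.sum_mul, CharBasic.classInner_def]
  rw [Finset.sum_comm]
  refine Finset.sum_congr rfl fun φ _ => ?_
  split_ifs
  · exact Finset.sum_congr rfl fun x _ => by ring
  · simp

variable (hι : Function.Injective ι)
  (hinn : ∀ (c : C) (x : F), ∃ f : F, c * ι x * c⁻¹ = ι (f * x * f⁻¹))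
  (ψ : Cfsg.IrrCharacter C)

include hι hinn

theorem classInner_eq_zero_of_omega {φ : Cfsg.IrrCharacter F}
    (h : BlockBasic.omega (ψ : C → ℂ) (overElem ι {φ}) = 0) (c : C) :
    Cfsg.classInner (fun x => (ψ : C → ℂ) (ι x * c)) (φ : F → ℂ) = 0 := by
  classical
  have h1 := BlockBasic.chiLin_central_mul ψ.2 (isCentralElt_overElem hι hinn {φ})
    (single c (1 : ℂ))
  rw [h, zero_mul, chiLin_overElem_mul_single, Finset.sum_eq_single φ] at h1
  · simpa [BlockBasic.irr_one_ne_zero φ.2] using h1
  · intro φ' _ hne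
    simp [hne]
  · simp

theorem omega_eq_zero_of_mem {U : Set (Cfsg.IrrCharacter F)} {φ : Cfsg.IrrCharacter F}
    (hφ : φ ∈ U) (h : BlockBasic.omega (ψ : C → ℂ) (overElem ι U) = 0) :
    BlockBasic.omega (ψ : C → ℂ) (overElem ι {φ}) = 0 := by
  have h1 := BlockBasic.omega_mul ψ.2 (isCentralElt_overElem hι hinn U) (overElem ι {φ})
  rwa [overElem_mul, Set.inter_eq_right.2 (Set.singleton_subset_iff.2 hφ), h, zero_mul] at h1

theorem omega_overElem_eq (U : Set (Cfsg.IrrCharacter F)) :
    BlockBasic.omega (ψ : C → ℂ) (overElem ι U) = 0 ∨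
      BlockBasic.omega (ψ : C → ℂ) (overElem ι U) = 1 := by
  have h1 := BlockBasic.omega_mul ψ.2 (isCentralElt_overElem hι hinn U) (overElem ι U)
  rw [overElem_mul, Set.inter_self] at h1
  by_cases h : BlockBasic.omega (ψ : C → ℂ) (overElem ι U) = 0
  · exact Or.inl h
  · exact Or.inr ((mul_eq_left₀ h).1 h1.symm)

/-- A block of `C` lies over one union of blocks of `F`. -/
theorem omega_overElem_congr {p : ℕ} {M : Ideal Cfsg.AlgInt} (hM : Cfsg.IsPModular p M)
    {U : Set (Cfsg.IrrCharacter F)} (hU : ∀ φ ∈ U, Cfsg.blockOf M (φ : F → ℂ) ⊆ U)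
    {ψ' : Cfsg.IrrCharacter C} (h : Cfsg.SameBlock M (ψ : C → ℂ) (ψ' : C → ℂ)) :
    BlockBasic.omega (ψ' : C → ℂ) (overElem ι U) = BlockBasic.omega (ψ : C → ℂ) (overElem ι U) := by
  have h1 := BlockBasic.omega_congr hM (CharBasic.IsIrr.isClassFunction ψ.2)
    (CharBasic.IsIrr.isClassFunction ψ'.2) h (isCentralElt_overElem hι hinn U)
    (isIntElt_overElem hM hι hU)
  rcases omega_overElem_eq hι hinn ψ U with e | e <;>
    rcases omega_overElem_eq hι hinn ψ' U with e' | e' <;> rw [e, e'] at h1 ⊢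
  · rw [zero_sub] at h1
    exact absurd (by simpa using BlockBasic.memLocalIdeal_neg h1) (BlockBasic.not_memLocalIdeal_one hM)
  · rw [sub_zero] at h1
    exact absurd h1 (BlockBasic.not_memLocalIdeal_one hM)

theorem exists_mem_of_omega {U : Set (Cfsg.IrrCharacter F)}
    (h : BlockBasic.omega (ψ : C → ℂ) (overElem ι U) ≠ 0) :
    ∃ φ ∈ U, BlockBasic.omega (ψ : C → ℂ) (overElem ι {φ}) ≠ 0 := by
  classical
  by_contra hc
  push Not at hc
  refine h ?_
  have h1 := chiLin_overElem_mul_single (ι := ι) (ψ : C → ℂ) 1 U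
  rw [Finset.sum_eq_zero (fun φ _ => by
    split_ifs with hφ
    · rw [classInner_eq_zero_of_omega hι hinn ψ (hc φ hφ), mul_zero]
    · rfl), ← MonoidAlgebra.one_def, mul_one] at h1
  rw [BlockBasic.omega, h1, zero_div]

/-- Only one character of `F` occurs under `ψ`. -/
theorem restrict_eq_smul {φ : Cfsg.IrrCharacter F}
    (h : BlockBasic.omega (ψ : C → ℂ) (overElem ι {φ}) ≠ 0) :
    ∃ m : ℂ, m ≠ 0 ∧ ∀ x : F, (ψ : C → ℂ) (ι x) = m * (φ : F → ℂ) x := by
  classical
  have hcl : Cfsg.IsClassFunction F (fun x => (ψ : C → ℂ) (ι x * 1)) := fun a b => by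
    simp only [mul_one, map_mul, map_inv]
    exact CharBasic.IsIrr.isClassFunction ψ.2 (ι a) (ι b)
  have h0 : ∀ φ' : Cfsg.IrrCharacter F, φ' ≠ φ →
      Cfsg.classInner (fun x => (ψ : C → ℂ) (ι x * 1)) (φ' : F → ℂ) = 0 := by
    intro φ' hne
    refine classInner_eq_zero_of_omega hι hinn ψ ?_ 1
    have h1 := BlockBasic.omega_mul ψ.2 (isCentralElt_overElem hι hinn {φ}) (overElem ι {φ'})
    have h2 : overElem ι ({φ} ∩ {φ'} : Set (Cfsg.IrrCharacter F)) = 0 := by
      rw [Set.singleton_inter_eq_empty.2 (by simpa using Ne.symm hne), overElem,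
        show BlockBasic.blockElem (∅ : Set (Cfsg.IrrCharacter F)) = 0 by
          apply MonoidAlgebra.coeff_injective
          ext g
          simp [BlockBasic.coeff_blockElem, Cfsg.blockCoeff], map_zero]
    rw [overElem_mul, h2, show BlockBasic.omega (ψ : C → ℂ) 0 = 0 by
      simp [BlockBasic.omega, BlockBasic.chiLin]] at h1
    exact (mul_eq_zero.1 h1.symm).resolve_left h
  have hexp := CharBasic.classFunction_expansion hcl
  rw [Finset.sum_eq_single φ (fun φ' _ hne => by rw [h0 φ' hne, zero_smul]) (by simp)] at hexp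
  refine ⟨Cfsg.classInner (fun x => (ψ : C → ℂ) (ι x * 1)) (φ : F → ℂ), fun hm => ?_,
    fun x => by simpa [mul_one] using congrFun hexp x⟩
  rw [hm, zero_smul] at hexp
  have h3 := congrFun hexp 1
  simp only [map_one, mul_one] at h3
  exact BlockBasic.irr_one_ne_zero ψ.2 h3

end Cfsg.Agent.H15.SymBlocks
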