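import Cfsg.Agent.H15.SymBlocks.Singular
import Cfsg.Agent.H15.SymBlocks.Over
import Cfsg.Agent.H35.BlockInduction
import Cfsg.Agent.Cores.SecondMain
import Cfsg.Agent.S0958

/-!
# Defect groups of blocks of symmetric groups

If an element `z` of order `p` lies in a defect group of a block with residue vector `κ` and
weight `w`, every block of `C(z)` inducing it lies over the residue vector `κ` on the fixed points
of `z`.  Hence some defect group contains an elementary abelian subgroup of order `p ^ w`.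
-/

set_option linter.unusedSectionVars false

namespace Cfsg.Agent.H15.SymBlocks

open Finset
open scoped ComplexConjugate
open Cfsg.Agent

variable {σ : Type} [Fintype σ] [DecidableEq σ] {N p : ℕ}

section Join

variable (P : σ → Prop) [DecidablePred P]

/-- A permutation of `P` and one of its complement. -/
def join : Equiv.Perm {a // P a} × Equiv.Perm {a // ¬ P a} →* Equiv.Perm σ :=
  (Equiv.sumCompl P).permCongrHom.toMonoidHom.comp (Equiv.Perm.sumCongrHom _ _)

theorem join_apply (u : Equiv.Perm {a // P a}) (s : Equiv.Perm {a // ¬ P a}) :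
    join P (u, s) = (Equiv.sumCompl P).permCongr (Equiv.sumCongr u s) := rfl

theorem join_injective : Function.Injective (join P) :=
  (Equiv.sumCompl P).permCongrHom.injective.comp Equiv.Perm.sumCongrHom_injective

theorem join_subtypePerm {c : Equiv.Perm σ} (h : ∀ a, P (c a) ↔ P a) :
    join P (c.subtypePerm h, c.subtypePerm (p := fun a => ¬ P a) fun a => not_congr (h a)) = c := by
  ext a
  rw [join_apply, Equiv.permCongr_apply]
  by_cases ha : P a
  · rw [Equiv.sumCompl_symm_apply_of_pos ha]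
    rfl
  · rw [Equiv.sumCompl_symm_apply_of_neg ha]
    rfl

theorem join_apply_pos (u : Equiv.Perm {a // P a}) (s : Equiv.Perm {a // ¬ P a}) {a : σ}
    (ha : P a) : join P (u, s) a = u ⟨a, ha⟩ := by
  rw [join_apply, Equiv.permCongr_apply, Equiv.sumCompl_symm_apply_of_pos ha]
  rfl

theorem join_apply_neg (u : Equiv.Perm {a // P a}) (s : Equiv.Perm {a // ¬ P a}) {a : σ}
    (ha : ¬ P a) : join P (u, s) a = s ⟨a, ha⟩ := by
  rw [join_apply, Equiv.permCongr_apply, Equiv.sumCompl_symm_apply_of_neg ha]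
  rfl

theorem regular_join [hp : Fact p.Prime] (u : Equiv.Perm {a // P a})
    (s : Equiv.Perm {a // ¬ P a}) :
    ¬ p ∣ orderOf (join P (u, s)) ↔ ¬ p ∣ orderOf u ∧ ¬ p ∣ orderOf s := by
  rw [orderOf_injective _ (join_injective P), Prod.orderOf]
  refine ⟨fun h => ⟨fun h' => h (h'.trans (Nat.dvd_lcm_left _ _)),
    fun h' => h (h'.trans (Nat.dvd_lcm_right _ _))⟩, fun ⟨h1, h2⟩ h => ?_⟩
  rcases (Nat.Prime.dvd_mul hp.out).1 (h.trans (Nat.lcm_dvd_mul _ _)) with e | e
  exacts [h1 e, h2 e]

end Join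

open scoped Classical in
theorem sum_reg_eq_zero {G : Type} [Group G] [Fintype G] [Fact p.Prime] {M : Ideal Cfsg.AlgInt}
    (hM : Cfsg.IsPModular p M) {U : Set (Cfsg.IrrCharacter G)}
    (hU : ∀ φ ∈ U, Cfsg.blockOf M (φ : G → ℂ) ⊆ U) {φ : Cfsg.IrrCharacter G} (hφ : φ ∈ U)
    {g : G → ℂ} (hg : Cfsg.IsClassFunction G g)
    (h : ∀ θ ∈ U, Cfsg.classInner g (θ : G → ℂ) = 0) :
    ∑ x with ¬ p ∣ orderOf x, (φ : G → ℂ) x * conj (g x) = 0 := by
  rw [CharBasic.classFunction_expansion hg]
  simp only [Finset.sum_apply, Pi.smul_apply, smul_eq_mul, map_sum, map_mul, Finset.mul_sum]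
  rw [Finset.sum_comm]
  refine Finset.sum_eq_zero fun θ _ => ?_
  by_cases hθ : θ ∈ U
  · simp [h θ hθ]
  · rw [Finset.sum_congr rfl (fun x _ => mul_left_comm _ _ _), ← Finset.mul_sum,
      BlockBasic.sum_regular_eq_zero hM (BlockBasic.isPBlock_blockOf M φ)
        (BlockBasic.self_mem_blockOf hM φ) (fun h' => hθ (hU φ hφ h')), mul_zero]

variable (z : Equiv.Perm σ)

/-- The centralizer of `z`. -/
abbrev CZ : Subgroup (Equiv.Perm σ) := Subgroup.centralizer ({z} : Set (Equiv.Perm σ))

/-- The fixed points of `z` act inside its centralizer. -/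
def fixIncl : Equiv.Perm {a // ¬ z a ≠ a} →* CZ z :=
  ((join (fun a => z a ≠ a)).comp (MonoidHom.inr _ _)).codRestrict _ fun s => by
    rw [Subgroup.mem_centralizer_singleton_iff]
    have hz := join_subtypePerm (fun a => z a ≠ a) (c := z) fun a => z.injective.ne_iff
    conv_lhs => arg 2; rw [← hz]
    conv_rhs => arg 1; rw [← hz]
    simp only [MonoidHom.comp_apply, MonoidHom.inr_apply]
    rw [← map_mul, ← map_mul]
    congr 1
    refine Prod.ext (by simp) ?_
    have h1 : z.subtypePerm (p := fun a => ¬ z a ≠ a)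
        (fun a => not_congr z.injective.ne_iff) = 1 := by
      ext a
      simpa using not_not.1 a.2
    simp [h1]

variable {z}

theorem commute_of_mem (c : CZ z) :
    Commute (c : Equiv.Perm σ) z :=
  Subgroup.mem_centralizer_singleton_iff.1 c.2

theorem pres_of_mem (c : CZ z) (a : σ) :
    z ((c : Equiv.Perm σ) a) ≠ (c : Equiv.Perm σ) a ↔ z a ≠ a := by
  rw [← Equiv.Perm.mul_apply, ← (commute_of_mem c).eq, Equiv.Perm.mul_apply]
  exact (c : Equiv.Perm σ).injective.ne_iff

theorem coe_fixIncl (s : Equiv.Perm {a // ¬ z a ≠ a}) :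
    (fixIncl z s : Equiv.Perm σ) = join (fun a => z a ≠ a) (1, s) := rfl

theorem fixIncl_injective : Function.Injective (fixIncl z) := fun s t h => by
  have h1 := join_injective _ (congrArg Subtype.val h)
  exact (Prod.ext_iff.1 h1).2

theorem exists_inner (c : CZ z)
    (x : Equiv.Perm {a // ¬ z a ≠ a}) :
    ∃ f, c * fixIncl z x * c⁻¹ = fixIncl z (f * x * f⁻¹) := by
  refine ⟨(c : Equiv.Perm σ).subtypePerm fun a => not_congr (pres_of_mem c a), Subtype.ext ?_⟩
  have hc := join_subtypePerm (fun a => z a ≠ a) (pres_of_mem c)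
  simp only [Subgroup.coe_mul, Subgroup.coe_inv, coe_fixIncl]
  conv_lhs => rw [← hc, ← map_inv, ← map_mul, ← map_mul]
  congr 1
  refine Prod.ext ?_ ?_
  · ext a; simp
  · simp

open scoped Classical in
/-- **Blocks of `C(z)` inducing a block with residue vector `κ` lie over `κ`.** -/
theorem omega_ne_zero [hp : Fact p.Prime] {M : Ideal Cfsg.AlgInt} (hM : Cfsg.IsPModular p M)
    (hN : Fintype.card σ ≤ N) (hz : orderOf z = p) {κ : ℕ → ℕ}
    {B : Set (Cfsg.IrrCharacter (Equiv.Perm σ))} (hBκ : B ⊆ resSet σ N p κ)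
    {b : Set (Cfsg.IrrCharacter (CZ z))}
    (hind : Cfsg.IsInducedBlock M _ b B)
    {ψ : Cfsg.IrrCharacter (CZ z)} (hψ : ψ ∈ b) :
    BlockBasic.omega (ψ : CZ z → ℂ)
      (overElem (fixIncl z) (resSet {a // ¬ z a ≠ a} N p κ)) ≠ 0 := by
  intro h0
  set P : σ → Prop := fun a => z a ≠ a with hP
  set ι := fixIncl z with hι
  set U := resSet {a // ¬ P a} N p κ with hUdef
  have hb : Cfsg.IsPBlock M b := hind.1
  have hcardρ : Fintype.card {a // ¬ P a} ≤ N := (Fintype.card_subtype_le _).trans hN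
  have hU : ∀ φ ∈ U, Cfsg.blockOf M (φ : Equiv.Perm {a // ¬ P a} → ℂ) ⊆ U :=
    fun φ hφ => blockOf_subset_resSet hM hcardρ hφ
  -- the block parts
  let S : ((CZ z) → ℂ) → ℂ := fun θ =>
    ∑ c : (CZ z) with ¬ p ∣ orderOf c, θ c * BlockBasic.blockKernel b 1 c
  have hker : ∀ c : (CZ z), p ∣ orderOf c → BlockBasic.blockKernel b 1 c = 0 := fun c hc =>
    BlockBasic.blockKernel_eq_zero_of_regular_of_singular hM hb
      (by rw [orderOf_one]; exact hp.out.not_dvd_one) hc
  have hS : ∀ θ : (CZ z) → ℂ, S θ = (Nat.card (CZ z) : ℂ) * Cfsg.blockPart b θ 1 := by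
    intro θ
    have h1 : S θ = ∑ c : (CZ z), θ c * BlockBasic.blockKernel b 1 c :=
      Finset.sum_filter_of_ne fun c _ hne hd => hne (by rw [hker c hd, mul_zero])
    rw [h1, Cfsg.blockPart, Subsingleton.elim (Fintype.ofFinite (CZ z)) (inferInstance : Fintype (CZ z)),
      BlockBasic.finsum_mem_eq_sum_ite, Finset.mul_sum]
    simp only [BlockBasic.blockKernel, BlockBasic.finsum_mem_eq_sum_ite, Finset.mul_sum]
    rw [Finset.sum_comm]
    refine Finset.sum_congr rfl fun φ _ => ?_
    split_ifs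
    · rw [CharBasic.classInner_def, ← mul_assoc, mul_inv_cancel_left₀
        (Nat.cast_ne_zero.2 Nat.card_pos.ne'), Finset.sum_mul]
      exact Finset.sum_congr rfl fun c _ => by ring
    · simp
  -- every contribution vanishes
  have hvan : ∀ χ : Cfsg.IrrCharacter (Equiv.Perm σ),
      S (fun c => (χ : Equiv.Perm σ → ℂ) (z * c)) = 0 := by
    intro χ
    by_cases hχB : χ ∈ B
    swap
    · rw [hS, Cores.second_main hM (e := 1) (by rw [hz, pow_one])
        (BlockBasic.isPBlock_blockOf M χ) (BlockBasic.self_mem_blockOf hM χ) hb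
        (fun h' => hχB (by
          rw [BlockBasic.isInducedBlock_unique hM hind h']
          exact BlockBasic.self_mem_blockOf hM χ)) 1
        (by rw [orderOf_one]; exact hp.out.not_dvd_one), mul_zero]
    · obtain ⟨γ, hγ, hγi, hγκ, ε, hε, hγχ⟩ := hBκ hχB
      have hχ := irr_eq_smul_chi hε hγχ
      simp only [S, BlockBasic.blockKernel, BlockBasic.finsum_mem_eq_sum_ite, Finset.mul_sum]
      rw [Finset.sum_comm]
      refine Finset.sum_eq_zero fun φ _ => ?_
      by_cases hφb : φ ∈ b
      swap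
      · simp [hφb]
      simp only [if_pos hφb]
      have hφ0 : BlockBasic.omega (φ : (CZ z) → ℂ) (overElem ι U) = 0 := by
        rw [omega_overElem_congr fixIncl_injective exists_inner ψ hM hU
          (BlockBasic.isPBlock_sameBlock hM hb hψ hφb), h0]
      -- average over the fixed point factor
      let F : (CZ z) → ℂ := fun c => if ¬ p ∣ orderOf c then
        (χ : Equiv.Perm σ → ℂ) (z * c) * ((φ : (CZ z) → ℂ) 1 * conj ((φ : (CZ z) → ℂ) c)) else 0
      suffices hF : ∀ c : (CZ z), ∑ x : Equiv.Perm {a // ¬ P a}, F (ι x * c) = 0 by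
        rw [Finset.sum_filter]
        have h1 : ∀ x : Equiv.Perm {a // ¬ P a}, ∑ c, F (ι x * c) = ∑ c, F c := fun x =>
          Equiv.sum_comp (Equiv.mulLeft (ι x)) F
        have h2 : (Fintype.card (Equiv.Perm {a // ¬ P a}) : ℂ) * ∑ c, F c = 0 := by
          rw [← Finset.card_univ, ← nsmul_eq_mul, ← Finset.sum_const,
            ← Finset.sum_congr rfl fun x _ => h1 x, Finset.sum_comm]
          exact Finset.sum_eq_zero fun c _ => hF c
        exact (mul_eq_zero.1 h2).resolve_left (Nat.cast_ne_zero.2 Fintype.card_ne_zero)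
      intro c
      -- reduce to `c` trivial on the fixed points
      have hc' := join_subtypePerm P (pres_of_mem c)
      set u := (c : Equiv.Perm σ).subtypePerm (p := P) (pres_of_mem c) with hu
      set s₀ := (c : Equiv.Perm σ).subtypePerm (p := fun a => ¬ P a)
        (fun a => not_congr (pres_of_mem c a)) with hs₀
      let d : (CZ z) := (ι s₀)⁻¹ * c
      have hdval : ∀ x, ((ι x * d : (CZ z)) : Equiv.Perm σ) = join P (u, x) := by
        intro x
        show join P (1, x) * ((join P (1, s₀))⁻¹ * c) = _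
        rw [← hc', ← map_inv, ← map_mul, ← map_mul]
        congr 1
        simp
      rw [← Equiv.sum_comp (Equiv.mulRight s₀⁻¹) (fun x => F (ι x * c))]
      simp only [Equiv.coe_mulRight]
      rw [Finset.sum_congr rfl (fun x _ =>
        show F (ι (x * s₀⁻¹) * c) = F (ι x * d) by simp [d, map_mul, mul_assoc])]
      by_cases hu' : p ∣ orderOf u
      · refine Finset.sum_eq_zero fun x _ => if_neg ?_
        rw [← Subgroup.orderOf_coe, hdval, regular_join]
        exact fun h => h.1 hu'
      have hreg : ∀ x, (¬ p ∣ orderOf (ι x * d)) ↔ ¬ p ∣ orderOf x := fun x => by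
        rw [← Subgroup.orderOf_coe, hdval, regular_join]
        exact and_iff_right hu'
      let g : Equiv.Perm {a // ¬ P a} → ℂ := fun x => (φ : (CZ z) → ℂ) (ι x * d)
      have hgc : Cfsg.IsClassFunction _ g := by
        intro x f
        have e : ι (f * x * f⁻¹) * d = ι f * (ι x * d) * (ι f)⁻¹ := by
          apply Subtype.ext
          simp only [Subgroup.coe_mul, Subgroup.coe_inv, hι, coe_fixIncl] at hdval ⊢
          rw [hdval, hdval]
          show join P (u, f * x * f⁻¹) = join P (1, f) * join P (u, x) * (join P (1, f))⁻¹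
          rw [← map_inv, ← map_mul, ← map_mul]
          congr 1
        simp only [g, e]
        exact CharBasic.IsIrr.isClassFunction φ.2 _ _
      have hgU : ∀ θ ∈ U, Cfsg.classInner g (θ : Equiv.Perm {a // ¬ P a} → ℂ) = 0 := fun θ hθ =>
        classInner_eq_zero_of_omega fixIncl_injective exists_inner φ
          (omega_eq_zero_of_mem fixIncl_injective exists_inner φ hθ hφ0) d
      -- the values of `χ (z ·)` on the fixed point factor
      set zt := z.subtypePerm (p := P) (fun a => z.injective.ne_iff) with hzt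
      have hz1 : z.subtypePerm (p := fun a => ¬ P a) (fun a => not_congr z.injective.ne_iff) = 1 := by
        ext a
        simpa [hP] using not_not.1 a.2
      have hzj : join P (zt, 1) = z := by
        rw [← hz1]
        exact join_subtypePerm P (c := z) fun a => z.injective.ne_iff
      have hzd : ∀ x, z * ((ι x * d : (CZ z)) : Equiv.Perm σ) = join P (zt * u, x) := fun x => by
        rw [hdval]
        refine (congrArg (· * join P (u, x)) hzj.symm).trans ?_
        rw [← map_mul, Prod.mk_mul_mk, one_mul]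
      have hzp : z ^ p = 1 := by rw [← hz, pow_orderOf_eq_one]
      have hztp : zt ^ p = 1 := by
        ext a
        simp [hzt, hzp]
      have hdvd : ∀ f ∈ fixCol (Fin N) (zt * u), ∀ j, p ∣ cnt f j := by
        intro f hf j
        rw [mem_fixCol] at hf
        have hcomm : Commute zt u := by
          ext a
          exact congrArg (fun g : Equiv.Perm σ => g a) (commute_of_mem c).eq.symm
        obtain ⟨k, hk1, hk2⟩ :=
          Nat.chineseRemainder ((hp.out.coprime_iff_not_dvd.2 hu')) 1 0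
        have hk : (zt * u) ^ k = zt := by
          have e1 : zt ^ k = zt := by
            conv_rhs => rw [← pow_one zt]
            exact pow_eq_pow_iff_modEq.2 (hk1.of_dvd (orderOf_dvd_of_pow_eq_one hztp))
          have e2 : u ^ k = 1 := by
            rw [← pow_zero u]
            exact pow_eq_pow_iff_modEq.2 hk2
          rw [hcomm.mul_pow, e1, e2, mul_one]
        refine dvd_cnt_of_fpf hztp (fun i h => i.2 (congrArg Subtype.val h)) ?_ j
        rw [← hk]
        clear hk hk1 hk2
        induction k with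
        | zero => rfl
        | succ k ih => rw [pow_succ, Equiv.Perm.coe_mul, ← Function.comp_assoc, ih, hf]
      have key : ∀ γ' : Fin N → ℕ, rcnt p γ' = κ →
          ∑ x : Equiv.Perm {a // ¬ P a} with ¬ p ∣ orderOf x, chi N γ' x * conj (g x) = 0 := by
        intro γ' hκ'
        by_cases hin : γ' ∈ tup N (lvl N (Fintype.card {a // ¬ P a})) ∧ Function.Injective γ'
        · obtain ⟨θ, ε', hε', hθ⟩ := exists_irr_of_injective hin.1 hin.2
          have hθU : θ ∈ U := ⟨γ', hin.1, hin.2, hκ', ε', hε', hθ⟩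
          simp only [hθ, Pi.smul_apply, smul_eq_mul, mul_assoc, ← Finset.mul_sum]
          rw [sum_reg_eq_zero hM hU hθU hgc hgU, mul_zero]
        · refine Finset.sum_eq_zero fun x _ => ?_
          rcases not_and_or.1 hin with h | h
          · rw [chi_eq_zero h, zero_mul]
          · rw [chi_eq_zero_of_not_injective h, zero_mul]
      calc ∑ x, F (ι x * d)
          = ∑ x : Equiv.Perm {a // ¬ P a} with ¬ p ∣ orderOf x,
              ((φ : (CZ z) → ℂ) 1 * ε) * ((∑ f ∈ fixCol (Fin N) (zt * u),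
                if ∀ j, cnt f j ≤ γ j then chi N (γ - cnt f) x else 0) * conj (g x)) := by
            rw [Finset.sum_filter]
            refine Finset.sum_congr rfl fun x _ => ?_
            simp only [F, g, hreg]
            split_ifs
            · rfl
            · rw [hzd, hχ, Pi.smul_apply, smul_eq_mul, join_apply, chi_permCongr, chi_sumCongr]
              ring
        _ = 0 := by
            rw [← Finset.mul_sum]
            simp only [Finset.sum_mul]
            rw [Finset.sum_comm, Finset.sum_eq_zero, mul_zero]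
            intro f hf
            by_cases hle : ∀ j, cnt f j ≤ γ j
            · simp only [if_pos hle]
              refine key _ ?_
              have e : γ - cnt f + cnt f = γ := funext fun j => Nat.sub_add_cancel (hle j)
              rw [← hγκ, ← e, rcnt_add (hdvd f hf), e]
            · simp [if_neg hle]
  -- the regular character of `(CZ z)` at the identity
  have hsum : ∑ χ : Cfsg.IrrCharacter (Equiv.Perm σ),
      conj ((χ : Equiv.Perm σ → ℂ) z) * S (fun c => (χ : Equiv.Perm σ → ℂ) (z * c)) = 0 :=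
    Finset.sum_eq_zero fun χ _ => by rw [hvan χ, mul_zero]
  simp only [S, Finset.mul_sum] at hsum
  rw [Finset.sum_comm, Finset.sum_eq_single_of_mem (1 : (CZ z))
    (by simp [hp.out.ne_one])] at hsum
  · simp only [OneMemClass.coe_one, mul_one, ← mul_assoc, ← Finset.sum_mul] at hsum
    rw [Finset.sum_congr rfl (fun χ _ => mul_comm _ _), CharBasic.second_orthogonality_self] at hsum
    have hK := (mul_eq_zero.1 hsum).resolve_left (Nat.cast_ne_zero.2 Nat.card_pos.ne')
    rw [BlockBasic.blockKernel, BlockBasic.finsum_mem_eq_sum_ite] at hK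
    have hre := congrArg Complex.re hK
    rw [Complex.re_sum, Complex.zero_re] at hre
    have hterm := (Finset.sum_eq_zero_iff_of_nonneg fun φ _ => ?_).1 hre ψ (Finset.mem_univ _)
    · rw [if_pos hψ, Complex.mul_conj, Complex.ofReal_re] at hterm
      exact BlockBasic.irr_one_ne_zero ψ.2 (Complex.normSq_eq_zero.1 hterm)
    · split_ifs
      · rw [Complex.mul_conj, Complex.ofReal_re]; exact Complex.normSq_nonneg _
      · simp
  · intro c hc hc1
    rw [Finset.mem_filter] at hc
    simp only [← mul_assoc, ← Finset.sum_mul]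
    rw [Finset.sum_congr rfl (fun χ _ => mul_comm _ _),
      CharBasic.second_orthogonality_not_isConj, zero_mul]
    intro hconj
    refine hc1 ?_
    obtain ⟨q, hq⟩ := isConj_iff.1 hconj
    have hzp : z ^ p = 1 := by rw [← hz, pow_orderOf_eq_one]
    have h1 : (z * (c : Equiv.Perm σ)) ^ p = 1 := by
      rw [← orderOf_dvd_iff_pow_eq_one]
      refine (dvd_of_eq ?_).trans (orderOf_dvd_of_pow_eq_one hzp)
      conv_rhs => rw [← hq]
      exact (MulEquiv.orderOf_eq (MulAut.conj q) _).symm
    rw [(commute_of_mem c).symm.mul_pow, hzp, one_mul, ← orderOf_dvd_iff_pow_eq_one] at h1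
    rcases (Nat.dvd_prime hp.out).1 h1 with e | e
    · exact Subtype.ext (orderOf_eq_one_iff.1 e)
    · exact absurd (by rw [← Subgroup.orderOf_coe, e]) hc.2

/-- One step of the search for a defect group with a large elementary abelian subgroup. -/
theorem exists_step [hp : Fact p.Prime] {M : Ideal Cfsg.AlgInt} (hM : Cfsg.IsPModular p M)
    (hN : Fintype.card σ ≤ N) {γ : Fin N → ℕ} (hγ : γ ∈ tup N (lvl N (Fintype.card σ)))
    (hi : Function.Injective γ) {B : Set (Cfsg.IrrCharacter (Equiv.Perm σ))}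
    (hB : Cfsg.IsPBlock M B) (hBκ : B ⊆ resSet σ N p (rcnt p γ))
    {D : Subgroup (Equiv.Perm σ)} (hD : Cfsg.IsDefectGroup p M B D) (hzD : z ∈ D)
    (hz : orderOf z = p) :
    (0 < wt p γ ∧ z.support.card = p * wt p γ ∧ ∃ E, Cfsg.IsDefectGroup p M B E ∧ cycGroup z ≤ E ∧
        (∀ Q : Subgroup (Equiv.Perm σ), Q ≤ CZ z → IsPGroup p Q →
          (∀ c ∈ CZ z, ∀ q ∈ Q, c * q * c⁻¹ ∈ Q) → Q ≤ E) ∧
        p ^ wt p γ ≤ Nat.card (cycGroup z)) ∨
      ∃ z' : Equiv.Perm σ, ∃ E, Cfsg.IsDefectGroup p M B E ∧ z' ∈ E ∧ orderOf z' = p ∧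
        z.support.card < z'.support.card := by
  classical
  set P : σ → Prop := fun a => z a ≠ a with hP
  have hPH : Subgroup.zpowers z ⊔ Subgroup.centralizer (Subgroup.zpowers z : Set (Equiv.Perm σ)) ≤ (CZ z) := by
    refine sup_le (Subgroup.zpowers_le.2 (Subgroup.mem_centralizer_singleton_iff.2 rfl)) fun x hx => ?_
    exact Subgroup.mem_centralizer_singleton_iff.2
      (Subgroup.mem_centralizer_iff.1 hx z (Subgroup.mem_zpowers z)).symm
  have hHN : (CZ z) ≤ Subgroup.normalizer (Subgroup.zpowers z : Set (Equiv.Perm σ)) := by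
    intro c hc
    refine (Subgroup.centralizer_le_normalizer (G := Equiv.Perm σ) (s := (Subgroup.zpowers z : Set (Equiv.Perm σ)))) ?_
    rw [Subgroup.mem_centralizer_iff]
    intro x hx
    obtain ⟨k, rfl⟩ := Subgroup.mem_zpowers_iff.1 hx
    exact ((commute_of_mem (z := z) ⟨c, hc⟩).zpow_right k).symm.eq
  obtain ⟨b, hb⟩ := (S0958.result p M hM _ (CZ z)
    (IsPGroup.of_card (n := 1) (by rw [Nat.card_zpowers, hz, pow_one])) hPH hHN B hB).2
    ⟨D, hD, (1 : Equiv.Perm σ), by
      rintro _ ⟨x, hx, rfl⟩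
      simpa using Subgroup.zpowers_le.2 hzD hx⟩
  obtain ⟨ψ, hψ⟩ := BlockBasic.isPBlock_nonempty hM hb.1
  obtain ⟨φ, hφU, hφ⟩ := exists_mem_of_omega fixIncl_injective exists_inner ψ
    (omega_ne_zero hM hN hz hBκ hb hψ)
  obtain ⟨m, hm, hres⟩ := restrict_eq_smul fixIncl_injective exists_inner ψ hφ
  obtain ⟨γ', hγ', hi', hκ', ε, hε, hγφ⟩ := hφU
  obtain ⟨c, hc0, hc, hcard⟩ := card_support_of_orderOf hz
  have hρ : Fintype.card {a // ¬ z a ≠ a} + p * c = Fintype.card σ := by
    rw [← hc, Fintype.card_subtype_compl, Fintype.card_subtype,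
      show (univ.filter fun a => z a ≠ a) = z.support from rfl]
    exact Nat.sub_add_cancel z.support.card_le_univ
  have hwt : wt p γ = wt p γ' + c := by
    have h1 := qsum_eq_of_rcnt_eq hp.out.pos hκ'.symm (c := c) (by
      rw [mem_tup.1 hγ, mem_tup.1 hγ', lvl, lvl]; omega)
    have h2 := qsum_eq_core_add_wt hp.out.pos hi
    have h3 := qsum_eq_core_add_wt hp.out.pos hi'
    rw [hκ'] at h3
    omega
  -- the cycle subgroup lies in every defect group of `b`
  let E₀ : Subgroup (CZ z) := (cycGroup z).subgroupOf (CZ z)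
  have hE₀n : E₀.Normal := ⟨fun e he c' => by
    rw [Subgroup.mem_subgroupOf] at he ⊢
    push_cast
    exact cycGroup_conj (commute_of_mem c') he⟩
  have hzp : z ^ p = 1 := by rw [← hz, pow_orderOf_eq_one]
  have hcycC : cycGroup z ≤ (CZ z) := fun g hg => Subgroup.mem_centralizer_singleton_iff.2 hg.1.eq
  have hE₀p : IsPGroup p E₀ := fun e => ⟨1, Subtype.ext (Subtype.ext (by
    rw [pow_one]
    push_cast
    exact cycGroup_pow hzp (Subgroup.mem_subgroupOf.1 e.2)))⟩
  have hdef : ∀ Db : Subgroup (CZ z), Cfsg.IsDefectGroup p M b Db →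
      ∃ E, Cfsg.IsDefectGroup p M B E ∧ cycGroup z ≤ E ∧ Db.map (CZ z).subtype ≤ E ∧
        ∀ Q : Subgroup (Equiv.Perm σ), Q ≤ CZ z → IsPGroup p Q →
          (∀ c ∈ CZ z, ∀ q ∈ Q, c * q * c⁻¹ ∈ Q) → Q ≤ E := by
    intro Db hDb
    have hle := H35.le_defectGroup_of_normal hM hb.1 hDb E₀ hE₀p
    obtain ⟨E, hE, hEle⟩ := H35.defectGroup_le_induced hM (CZ z) hb hDb
    refine ⟨E, hE, fun g hg => hEle ⟨⟨g, hcycC hg⟩, hle (Subgroup.mem_subgroupOf.2 hg), rfl⟩, hEle,
      fun Q hQC hQp hQn g hg => ?_⟩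
    haveI : (Q.subgroupOf (CZ z)).Normal := ⟨fun e he c' => by
      rw [Subgroup.mem_subgroupOf] at he ⊢
      push_cast
      exact hQn _ c'.2 _ he⟩
    have hQle := H35.le_defectGroup_of_normal hM hb.1 hDb (Q.subgroupOf (CZ z))
      (hQp.of_equiv (Subgroup.subgroupOfEquivOfLe hQC).symm)
    exact hEle ⟨⟨g, hQC hg⟩, hQle (Subgroup.mem_subgroupOf.2 hg), rfl⟩
  by_cases hw : wt p γ' = 0
  · left
    obtain ⟨a, ha⟩ := BlockBasic.exists_isDefectClass hM hb.1
    obtain ⟨E, hE, hle, -, hQ⟩ := hdef _ ⟨a, ha, default, rfl⟩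
    refine ⟨by omega, by rw [hwt, hw, zero_add, hc], E, hE, hle, hQ, ?_⟩
    rw [hwt, hw, zero_add]
    exact hcard
  · right
    obtain ⟨y, hy, hy0⟩ := exists_singular_ne_zero hγ' hi' (Nat.pos_of_ne_zero hw)
    have hψy : (ψ : (CZ z) → ℂ) (fixIncl z y) ≠ 0 := by
      rw [hres, irr_eq_smul_chi hε hγφ, Pi.smul_apply, smul_eq_mul]
      refine mul_ne_zero hm (mul_ne_zero ?_ hy0)
      intro e; simp [e] at hε
    obtain ⟨Db, hDb, hxDb⟩ : ∃ Db, Cfsg.IsDefectGroup p M b Db ∧
        BlockBasic.pPart (p := p) (fixIncl z y) ∈ Db := by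
      by_contra hcon
      refine hψy (H35.apply_eq_zero_of_no_defectGroup hM ψ _ fun Db hDb hmem => hcon ⟨Db, ?_, hmem⟩)
      rwa [BlockBasic.isPBlock_eq_blockOf hM hb.1 hψ]
    set x := BlockBasic.pPart (p := p) (fixIncl z y) with hx
    obtain ⟨k, hk⟩ := BlockBasic.exists_orderOf_pPart (p := p) (fixIncl z y)
    have hk0 : k ≠ 0 := by
      rintro rfl
      rw [pow_zero, orderOf_eq_one_iff, BlockBasic.pPart_eq_one_iff,
        orderOf_injective _ fixIncl_injective] at hk
      exact hk hy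
    set x' := x ^ (p ^ (k - 1)) with hx'
    have hx'o : orderOf x' = p := by
      rw [hx', orderOf_pow, hk, Nat.gcd_eq_right (pow_dvd_pow _ (Nat.sub_le k 1)),
        Nat.pow_div (Nat.sub_le k 1) hp.out.pos, show k - (k - 1) = 1 by omega, pow_one]
    obtain ⟨s, hs⟩ : ∃ s, x' = fixIncl z s := by
      obtain ⟨q, hq, hcy, ⟨e, he⟩, hreg⟩ := BlockBasic.isPPart_pPart (p := p) y
      refine ⟨(BlockBasic.pPart (p := p) y) ^ (p ^ (k - 1)), ?_⟩
      rw [map_pow, hx', hx]
      congr 1
      refine BlockBasic.pPart_eq_of_isPPart ⟨fixIncl z q, by rw [← map_mul, hq],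
        hcy.map (fixIncl z), ⟨e, by rw [orderOf_injective _ fixIncl_injective, he]⟩, ?_⟩
      rwa [orderOf_injective _ fixIncl_injective]
    obtain ⟨E, hE, hle, hEle, -⟩ := hdef Db hDb
    refine ⟨z * join P (1, s), E, hE, E.mul_mem (hle (mem_cycGroup_self z))
      (hEle ⟨x', pow_mem hxDb _, by rw [hs]; rfl⟩), ?_⟩
    have hso : orderOf s = p := by rw [← hx'o, hs, orderOf_injective _ fixIncl_injective]
    have hz1 : z.subtypePerm (p := fun a => ¬ P a) (fun a => not_congr z.injective.ne_iff) = 1 := by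
      ext a
      simpa [hP] using not_not.1 a.2
    have hsupp : ∀ a, ¬ P a → (z * join P (1, s)) a = join P (1, s) a := fun a ha => by
      rw [Equiv.Perm.mul_apply, join_apply_neg P 1 s ha]
      exact not_not.1 (s ⟨a, ha⟩).2
    have hP1 : ∀ a, P a → (z * join P (1, s)) a = z a := fun a ha => by
      rw [Equiv.Perm.mul_apply, join_apply_pos P 1 s ha]
      rfl
    obtain ⟨a, ha⟩ : ∃ a, s a ≠ a := by
      by_contra hcon
      push Not at hcon
      rw [show s = 1 from Equiv.ext hcon, orderOf_one] at hso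
      exact hp.out.ne_one hso.symm
    have hlt : z.support.card < (z * join P (1, s)).support.card := by
      refine Finset.card_lt_card (Finset.ssubset_iff_of_subset (fun b hb => ?_) |>.2 ⟨a, ?_, ?_⟩)
      · rw [Equiv.Perm.mem_support] at hb ⊢
        rwa [hP1 b hb]
      · rw [Equiv.Perm.mem_support, hsupp a a.2, join_apply_neg P 1 s a.2]
        exact fun e => ha (Subtype.ext e)
      · exact Equiv.Perm.notMem_support.2 (not_not.1 a.2)
    refine ⟨orderOf_eq_prime ?_ fun e => ?_, hlt⟩
    · rw [show join P (1, s) = (fixIncl z s : Equiv.Perm σ) from rfl,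
        ((commute_of_mem (fixIncl z s)).symm).mul_pow, hzp, one_mul, ← Subgroup.coe_pow,
        ← map_pow, ← hso, pow_orderOf_eq_one, map_one, Subgroup.coe_one]
    · rw [e] at hlt
      simp at hlt

/-- Some defect group contains the cycle subgroup of an element of order `p` moving `p * wt` points,
and every normal `p`-subgroup of its centralizer. -/
theorem exists_elementary_full [hp : Fact p.Prime] {M : Ideal Cfsg.AlgInt}
    (hM : Cfsg.IsPModular p M) (hN : Fintype.card σ ≤ N) {γ : Fin N → ℕ}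
    (hγ : γ ∈ tup N (lvl N (Fintype.card σ)))
    (hi : Function.Injective γ) {B : Set (Cfsg.IrrCharacter (Equiv.Perm σ))}
    (hB : Cfsg.IsPBlock M B) (hBκ : B ⊆ resSet σ N p (rcnt p γ))
    {D : Subgroup (Equiv.Perm σ)} (hD : Cfsg.IsDefectGroup p M B D) (hD1 : D ≠ ⊥) :
    0 < wt p γ ∧ ∃ z : Equiv.Perm σ, ∃ E, orderOf z = p ∧ z.support.card = p * wt p γ ∧
      Cfsg.IsDefectGroup p M B E ∧ cycGroup z ≤ E ∧
      (∀ Q : Subgroup (Equiv.Perm σ), Q ≤ CZ z → IsPGroup p Q →
        (∀ c ∈ CZ z, ∀ q ∈ Q, c * q * c⁻¹ ∈ Q) → Q ≤ E) ∧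
      p ^ wt p γ ≤ Nat.card (cycGroup z) := by
  obtain ⟨z, hzD, hz⟩ : ∃ z ∈ D, orderOf z = p := by
    have hc := H35.card_defectGroup hM hB hD
    have hd : Cfsg.blockDefect p B ≠ 0 := fun e =>
      hD1 (Subgroup.eq_bot_of_card_eq D (by rw [hc, e, pow_zero]))
    obtain ⟨x, hx⟩ := exists_prime_orderOf_dvd_card' (G := D) p
      (hc ▸ dvd_pow_self p hd)
    exact ⟨x, x.2, by rw [Subgroup.orderOf_coe, hx]⟩
  induction hk : Fintype.card σ - z.support.card using Nat.strong_induction_on generalizing z D with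
  | _ k ih =>
    rcases exists_step hM hN hγ hi hB hBκ hD hzD hz with ⟨hw, hsupp, E, hE, hle, hQ, hcard⟩ | ⟨z', E, hE, hz', ho, hlt⟩
    · exact ⟨hw, z, E, hz, hsupp, hE, hle, hQ, hcard⟩
    · have h := z'.support.card_le_univ
      refine ih (Fintype.card σ - z'.support.card) (by omega) hE ?_ z' hz' ho rfl
      rintro rfl
      rw [Subgroup.mem_bot] at hz'
      rw [hz', orderOf_one] at ho
      exact hp.out.ne_one ho.symm

/-- Some defect group contains an elementary abelian subgroup of order `p ^ wt`. -/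
theorem exists_elementary [hp : Fact p.Prime] {M : Ideal Cfsg.AlgInt} (hM : Cfsg.IsPModular p M)
    (hN : Fintype.card σ ≤ N) {γ : Fin N → ℕ} (hγ : γ ∈ tup N (lvl N (Fintype.card σ)))
    (hi : Function.Injective γ) {B : Set (Cfsg.IrrCharacter (Equiv.Perm σ))}
    (hB : Cfsg.IsPBlock M B) (hBκ : B ⊆ resSet σ N p (rcnt p γ))
    {D : Subgroup (Equiv.Perm σ)} (hD : Cfsg.IsDefectGroup p M B D) (hD1 : D ≠ ⊥) :
    0 < wt p γ ∧ ∃ E, Cfsg.IsDefectGroup p M B E ∧ ∃ A : Subgroup (Equiv.Perm σ), A ≤ E ∧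
      (∀ a ∈ A, ∀ b ∈ A, a * b = b * a) ∧ (∀ a ∈ A, a ^ p = 1) ∧ p ^ wt p γ ≤ Nat.card A := by
  obtain ⟨hw, z, E, hz, -, hE, hle, -, hcard⟩ := exists_elementary_full hM hN hγ hi hB hBκ hD hD1
  exact ⟨hw, E, hE, cycGroup z, hle, fun a ha b hb => cycGroup_comm ha hb,
    fun a ha => cycGroup_pow (by rw [← hz, pow_orderOf_eq_one]) ha, hcard⟩

end Cfsg.Agent.H15.SymBlocks
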