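import Cfsg.Agent.H15.SymBlocks.Valuation
import Mathlib.LinearAlgebra.Vandermonde

/-!
# Degrees and their valuations

The degree of the character of a tuple is `n!` times the product of the differences divided by the
product of the factorials.  So its `p`-valuation is that of `n!` minus the hook sum.
-/

set_option linter.unusedSectionVars false

namespace Cfsg.Agent.H15.SymBlocks

open MvPolynomial Finset
open scoped Nat

variable {σ : Type} [Fintype σ] [DecidableEq σ] {N p : ℕ}

theorem fixCol_one (κ : Type) [Fintype κ] [DecidableEq κ] :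
    fixCol κ (1 : Equiv.Perm σ) = univ := by
  ext f
  simp [fixCol]

/-- The value of a Frobenius function at the identity. -/
theorem chi_one_mul {γ : Fin N → ℕ} (hγ : γ ∈ tup N (lvl N (Fintype.card σ))) :
    chi N γ (1 : Equiv.Perm σ) * ∏ j, ((γ j)! : ℂ) =
      (((Fintype.card σ)! : ℕ) : ℂ) * (Matrix.vandermonde fun j => (γ j : ℂ)).det := by
  classical
  rw [Matrix.det_eval_matrixOfPolynomials_eq_det_vandermonde (fun j => (γ j : ℂ))
      (fun i => descPochhammer ℂ i) (fun i => descPochhammer_natDegree ℂ i)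
      (fun i => monic_descPochhammer ℂ i),
    ← Matrix.det_transpose, Matrix.det_apply, chi_eq_sum, Finset.sum_mul, Finset.mul_sum]
  refine Finset.sum_congr rfl fun π _ => ?_
  rw [Units.smul_def, zsmul_eq_mul, sgnLe]
  simp only [Matrix.transpose_apply, Matrix.of_apply, descPochhammer_eval_eq_descFactorial]
  rw [← Nat.cast_prod, ← Nat.cast_prod]
  split_ifs with hle
  · have hsum : ∑ j, (γ - stair N ∘ π) j = Fintype.card σ := by
      rw [mem_tup, lvl, ← sum_comp_perm (stair N) π] at hγ
      have h : ∑ j, (γ - stair N ∘ π) j + ∑ j, (stair N ∘ π) j = ∑ j, γ j := by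
        rw [← Finset.sum_add_distrib]
        exact Finset.sum_congr rfl fun j _ => Nat.sub_add_cancel (hle j)
      omega
    have hfib := card_fiber_mul (σ := σ) (γ - stair N ∘ π)
      (by simp [Finset.mem_piAntidiag, ← hsum])
    have hpi : piCnt N (γ - stair N ∘ π) (1 : Equiv.Perm σ) =
        (univ.filter fun f : σ → Fin N => cnt f = γ - stair N ∘ π).card := by
      rw [piCnt, fixCol_one]
    have hprod : ∏ j, (γ j)! =
        (∏ j, ((γ - stair N ∘ π) j)!) * ∏ j, Nat.descFactorial (γ j) (π j) := by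
      rw [← Finset.prod_mul_distrib]
      exact Finset.prod_congr rfl fun j _ => (Nat.factorial_mul_descFactorial (hle j)).symm
    rw [hpi, ← hfib, hprod]
    push_cast
    ring
  · obtain ⟨j, hj⟩ : ∃ j, γ j < π j := by
      by_contra hc
      push Not at hc
      exact hle hc
    rw [Finset.prod_eq_zero (f := fun j => (γ j).descFactorial (π j)) (Finset.mem_univ j)
      (Nat.descFactorial_of_lt hj)]
    simp

theorem natAbs_det_vandermonde (γ : Fin N → ℕ) :
    (Matrix.vandermonde fun j => (γ j : ℤ)).det.natAbs = ∏ i, ∏ j ∈ Ioi i, Nat.dist (γ i) (γ j) := by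
  rw [Matrix.det_vandermonde, ← Int.natAbsHom_apply, map_prod]
  refine Finset.prod_congr rfl fun i _ => ?_
  rw [map_prod]
  refine Finset.prod_congr rfl fun j _ => ?_
  rw [Int.natAbsHom_apply, Nat.dist]
  omega

theorem prod_dist_eq_delta {γ : Fin N → ℕ} (hγ : StrictMono γ) :
    ∏ i, ∏ j ∈ Ioi i, Nat.dist (γ i) (γ j) = delta (univ.image γ) := by
  rw [delta, Finset.prod_image hγ.injective.injOn,
    Finset.prod_comm' (t' := univ) (s' := fun j => Iio j) (by simp)]
  refine Finset.prod_congr rfl fun j _ => ?_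
  rw [Finset.filter_image, Finset.prod_image hγ.injective.injOn]
  refine Finset.prod_congr (by ext i; simp [hγ.lt_iff_lt]) fun i hi => ?_
  simp only [Finset.mem_filter, Finset.mem_univ, true_and] at hi
  exact Nat.dist_eq_sub_of_le hi.le

/-- The degree times the factorials is `n!` times the differences. -/
theorem charDegree_mul_prod {γ : Fin N → ℕ} (hγ : γ ∈ tup N (lvl N (Fintype.card σ)))
    (hmono : StrictMono γ) {χ : Cfsg.IrrCharacter (Equiv.Perm σ)} {ε : ℂ} (hε : ε * ε = 1)
    (h : (chi N γ : Equiv.Perm σ → ℂ) = ε • (χ : Equiv.Perm σ → ℂ)) :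
    Cfsg.charDegree (χ : Equiv.Perm σ → ℂ) * ∏ x ∈ univ.image γ, x ! =
      (Fintype.card σ)! * delta (univ.image γ) := by
  classical
  have h1 := chi_one_mul (σ := σ) hγ
  rw [congrFun h 1, Pi.smul_apply, smul_eq_mul, BlockBasic.apply_one_eq_charDegree χ] at h1
  set d := Cfsg.charDegree (χ : Equiv.Perm σ → ℂ)
  set Δ := (Matrix.vandermonde fun j => (γ j : ℤ)).det with hΔ
  have hcast : (Matrix.vandermonde fun j => (γ j : ℂ)).det = (Δ : ℂ) := by
    rw [hΔ, Matrix.det_vandermonde, Matrix.det_vandermonde]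
    push_cast
    rfl
  rw [hcast] at h1
  have h2 : (d * ∏ x ∈ univ.image γ, x ! : ℕ) = ((Fintype.card σ)! * Δ.natAbs : ℕ) := by
    rw [Finset.prod_image hmono.injective.injOn]
    rcases mul_self_eq_one_iff.1 hε with rfl | rfl
    · have h3 : ((d * ∏ j, (γ j)! : ℕ) : ℤ) = ((Fintype.card σ)! : ℤ) * Δ := by
        rw [← Int.cast_inj (α := ℂ)]
        push_cast
        linear_combination h1
      have := congrArg Int.natAbs h3
      rwa [Int.natAbs_natCast, Int.natAbs_mul, Int.natAbs_natCast] at this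
    · have h3 : ((d * ∏ j, (γ j)! : ℕ) : ℤ) = -(((Fintype.card σ)! : ℤ) * Δ) := by
        rw [← Int.cast_inj (α := ℂ)]
        push_cast
        linear_combination -h1
      have := congrArg Int.natAbs h3
      rwa [Int.natAbs_natCast, Int.natAbs_neg, Int.natAbs_mul, Int.natAbs_natCast] at this
  rw [h2, hΔ, natAbs_det_vandermonde, prod_dist_eq_delta hmono]

/-- **The valuation of a degree.** -/
theorem factorization_charDegree (hp : p.Prime) {γ : Fin N → ℕ}
    (hγ : γ ∈ tup N (lvl N (Fintype.card σ))) (hmono : StrictMono γ)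
    {χ : Cfsg.IrrCharacter (Equiv.Perm σ)} {ε : ℂ} (hε : ε * ε = 1)
    (h : (chi N γ : Equiv.Perm σ → ℂ) = ε • (χ : Equiv.Perm σ → ℂ))
    {b : ℕ} (hb : 0 < b) (hlt : ∀ j, γ j < p ^ b) :
    (Cfsg.charDegree (χ : Equiv.Perm σ → ℂ)).factorization p + hsum p b (univ.image γ) =
      ((Fintype.card σ)!).factorization p := by
  have h1 := congrArg (fun t => t.factorization p) (charDegree_mul_prod hγ hmono hε h)
  have h2 := hsum_add hp hb (A := univ.image γ) (by simpa using hlt)
  have hd : Cfsg.charDegree (χ : Equiv.Perm σ → ℂ) ≠ 0 := (BlockBasic.charDegree_pos χ).ne'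
  have hprod : ∏ x ∈ univ.image γ, x ! ≠ 0 :=
    Finset.prod_ne_zero_iff.2 fun x _ => Nat.factorial_ne_zero x
  simp only [Nat.factorization_mul hd hprod,
    Nat.factorization_mul (Nat.factorial_ne_zero _) (delta_ne_zero _), Finsupp.add_apply] at h1
  omega

theorem image_orderEmb (A : Finset ℕ) {k : ℕ} (h : A.card = k) :
    univ.image (A.orderEmbOfFin h) = A := by
  conv_rhs => rw [← Finset.map_orderEmbOfFin_univ A h, Finset.map_eq_image]
  rfl

theorem mem_tup_orderEmb (A : Finset ℕ) {k n : ℕ} (h : A.card = k)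
    (hn : ∑ q ∈ A, q = n + ∑ q ∈ Finset.range k, q) :
    (A.orderEmbOfFin h : Fin k → ℕ) ∈ tup k (lvl k n) := by
  rw [mem_tup, lvl]
  simp only [stair, Fin.sum_univ_eq_sum_range (fun q => q)]
  rw [← hn]
  conv_rhs => rw [← image_orderEmb A h, Finset.sum_image (A.orderEmbOfFin h).injective.injOn]

/-- The hook sum is at most the valuation of the factorial of the size. -/
theorem hsum_le (hp : p.Prime) {b : ℕ} (hb : 0 < b) {A : Finset ℕ} (hA : ∀ x ∈ A, x < p ^ b) :
    hsum p b A ≤ ((exc A)!).factorization p := by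
  have hn : ∑ q ∈ A, q = exc A + ∑ q ∈ Finset.range A.card, q :=
    (Nat.sub_add_cancel (sum_range_le_sum_set A)).symm
  have htup := mem_tup_orderEmb A rfl hn
  rw [← Fintype.card_fin (exc A)] at htup
  obtain ⟨χ, ε, hε, h⟩ :=
    exists_irr_of_injective (σ := Fin (exc A)) htup (A.orderEmbOfFin rfl).injective
  have h1 := factorization_charDegree hp htup (A.orderEmbOfFin rfl).strictMono hε h hb
    fun j => hA _ (A.orderEmbOfFin_mem rfl j)
  rw [image_orderEmb, Fintype.card_fin] at h1
  omega

theorem runner_eq_runnerS (γ : Fin N → ℕ) (r : ℕ) :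
    runner p γ r = runnerS p (univ.image γ) r := by
  rw [runner, runnerS, Finset.filter_image, Finset.image_image]
  rfl

theorem wt_eq_wtS (hp : 0 < p) {γ : Fin N → ℕ} (hi : Function.Injective γ) :
    wt p γ = wtS p (univ.image γ) := by
  rw [wt_eq_sum_exc hp hi, wtS_eq_sum_exc hp]
  simp only [runner_eq_runnerS]

end Cfsg.Agent.H15.SymBlocks
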