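import Cfsg.Agent.H15.SymBlocks.Colour
import Cfsg.Agent.BlockBasic.Orth
import Cfsg.Agent.CharBasic.Virtual

/-!
# Frobenius formula for the characters of symmetric groups

`chi N γ g` is the coefficient of the monomial `γ` in `vand N * pgen N g`.  For injective `γ` of
the right degree it is, up to sign, an irreducible character, and for `N ≥ |σ|` every irreducible
character occurs.
-/

set_option linter.unusedSectionVars false

namespace Cfsg.Agent.H15.SymBlocks

open MvPolynomial Finset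
open scoped Nat ComplexConjugate

variable {σ : Type} [Fintype σ] [DecidableEq σ] {N : ℕ}

theorem mono_mul (a b : Fin N → ℕ) : mono a * mono b = mono (a + b) := by
  rw [mono, mono, monomial_mul, one_mul, mono]
  congr 2
  ext j
  rfl

theorem ev_sub (a b : Fin N → ℕ) : ev a - ev b = ev (a - b) := by
  ext j
  simp

/-- Degree of the tuples attached to a set of size `n`. -/
def lvl (N n : ℕ) : ℕ := n + ∑ j, stair N j

/-- The tuples of a given degree. -/
def tup (N L : ℕ) : Finset (Fin N → ℕ) := Finset.piAntidiag univ L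

theorem mem_tup {L : ℕ} {γ : Fin N → ℕ} : γ ∈ tup N L ↔ ∑ j, γ j = L := by
  simp [tup, Finset.mem_piAntidiag]

theorem sum_comp_perm (γ : Fin N → ℕ) (π : Equiv.Perm (Fin N)) :
    ∑ j, (γ ∘ π) j = ∑ j, γ j :=
  Equiv.sum_comp π γ

theorem comp_mem_tup {L : ℕ} {γ : Fin N → ℕ} (h : γ ∈ tup N L) (π : Equiv.Perm (Fin N)) :
    γ ∘ π ∈ tup N L := by
  rw [mem_tup] at h ⊢
  rw [sum_comp_perm, h]

/-- A function of tuples is antisymmetric. -/
def IsAlt (F : (Fin N → ℕ) → ℂ) : Prop :=
  ∀ (γ : Fin N → ℕ) (π : Equiv.Perm (Fin N)), F (γ ∘ π) = ((Equiv.Perm.sign π : ℤ) : ℂ) * F γ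

theorem sum_coeff_alt_mul {L : ℕ} {F : (Fin N → ℕ) → ℂ} (hF : IsAlt F) {β : Fin N → ℕ}
    (hβ : β ∈ tup N L) :
    ∑ γ ∈ tup N L, coeff (ev β) (alt γ) * F γ = (N ! : ℂ) * F β := by
  classical
  simp only [coeff_alt, Finset.sum_mul, ite_mul, zero_mul]
  rw [Finset.sum_comm]
  have h : ∀ π : Equiv.Perm (Fin N),
      (∑ γ ∈ tup N L, if γ ∘ π = β then ((Equiv.Perm.sign π : ℤ) : ℂ) * F γ else 0) = F β := by
    intro π
    rw [Finset.sum_eq_single_of_mem (β ∘ ⇑π⁻¹) (comp_mem_tup hβ _)]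
    · rw [if_pos (by funext j; simp), hF, Equiv.Perm.sign_inv, ← mul_assoc, ← Int.cast_mul,
        ← Units.val_mul, Int.units_mul_self, Units.val_one, Int.cast_one, one_mul]
    · intro γ _ hne
      refine if_neg fun e => hne ?_
      funext j
      simp [← e]
  rw [Finset.sum_congr rfl fun π _ => h π, Finset.sum_const, Finset.card_univ, Fintype.card_perm,
    Fintype.card_fin, nsmul_eq_mul]

variable (N)

/-- The Frobenius class function. -/
noncomputable def chi (γ : Fin N → ℕ) (g : Equiv.Perm σ) : ℂ :=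
  coeff (ev γ) (vand N * pgen N g)

variable {N}

/-- The sign attached to a summand of the Frobenius function. -/
noncomputable def sgnLe (γ : Fin N → ℕ) (π : Equiv.Perm (Fin N)) : ℤ := by
  classical exact if stair N ∘ π ≤ γ then ((Equiv.Perm.sign π : ℤˣ) : ℤ) else 0

theorem chi_eq_sum (γ : Fin N → ℕ) (g : Equiv.Perm σ) :
    chi N γ g = ∑ π : Equiv.Perm (Fin N),
      (sgnLe γ π : ℂ) * (piCnt N (γ - stair N ∘ π) g : ℂ) := by
  classical
  rw [chi, vand, alt_eq, Finset.sum_mul, coeff_sum]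
  refine Finset.sum_congr rfl fun π _ => ?_
  rw [Units.smul_def, smul_mul_assoc, coeff_smul, mono, coeff_monomial_mul', one_mul, ev_sub,
    coeff_pgen, zsmul_eq_mul, sgnLe]
  simp only [ev_le]
  split_ifs <;> simp

theorem chi_eq_zero {γ : Fin N → ℕ} (h : γ ∉ tup N (lvl N (Fintype.card σ))) (g : Equiv.Perm σ) :
    chi N γ g = 0 := by
  rw [chi_eq_sum]
  refine Finset.sum_eq_zero fun π _ => ?_
  unfold sgnLe
  split_ifs with hle
  · rw [piCnt_eq_zero (fun he => h ?_), Nat.cast_zero, mul_zero]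
    rw [mem_tup, lvl, ← he, ← sum_comp_perm (stair N) π, ← Finset.sum_add_distrib]
    exact Finset.sum_congr rfl fun j _ => (Nat.sub_add_cancel (hle j)).symm
  · simp

theorem exists_int_chi (γ : Fin N → ℕ) (g : Equiv.Perm σ) : ∃ z : ℤ, chi N γ g = (z : ℂ) := by
  refine ⟨∑ π : Equiv.Perm (Fin N), sgnLe γ π * (piCnt N (γ - stair N ∘ π) g : ℤ), ?_⟩
  rw [chi_eq_sum]
  push_cast
  rfl

theorem conj_chi (γ : Fin N → ℕ) (g : Equiv.Perm σ) : conj (chi N γ g) = chi N γ g := by
  obtain ⟨z, hz⟩ := exists_int_chi γ g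
  rw [hz, map_intCast]

theorem isClassFunction_chi (γ : Fin N → ℕ) :
    Cfsg.IsClassFunction (Equiv.Perm σ) (chi N γ) := fun g h => by
  rw [chi, chi, pgen_conj]

theorem chi_comp (γ : Fin N → ℕ) (τ : Equiv.Perm (Fin N)) (g : Equiv.Perm σ) :
    chi N (γ ∘ τ) g = ((Equiv.Perm.sign τ : ℤ) : ℂ) * chi N γ g := by
  have h : Finsupp.mapDomain τ (ev (γ ∘ τ)) = ev γ := by
    ext j
    rw [Finsupp.mapDomain_equiv_apply]
    simp
  have h2 : rename τ (vand N * pgen N g) =
      ((Equiv.Perm.sign τ : ℤ) : ℂ) • (vand N * pgen N g) := by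
    rw [map_mul, rename_vand, rename_pgen, Units.smul_def, smul_mul_assoc, Int.cast_smul_eq_zsmul]
  have h3 := coeff_rename_mapDomain τ τ.injective (vand N * pgen N g) (ev (γ ∘ τ))
  rw [h, h2, coeff_smul, smul_eq_mul] at h3
  exact h3.symm

theorem isAlt_chi (g : Equiv.Perm σ) : IsAlt (fun γ => chi N γ g) := fun γ π => chi_comp γ π g

theorem chi_eq_zero_of_not_injective {γ : Fin N → ℕ} (h : ¬ Function.Injective γ)
    (g : Equiv.Perm σ) : chi N γ g = 0 := by
  classical
  rw [Function.not_injective_iff] at h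
  obtain ⟨i, j, hij, hne⟩ := h
  have h1 := chi_comp γ (Equiv.swap i j) g
  rw [Equiv.comp_swap_eq_update, hij, Function.update_eq_self, ← hij, Function.update_eq_self,
    Equiv.Perm.sign_swap hne] at h1
  push_cast at h1
  linear_combination h1 / 2

/-- **Frobenius inversion.** -/
theorem sum_chi_smul {γ : Fin N → ℕ} (hγ : γ ∈ tup N (lvl N (Fintype.card σ))) :
    ∑ g : Equiv.Perm σ, chi N γ g • (vand N * pgen N g) = (Fintype.card σ)! • alt γ := by
  classical
  rw [alt_eq_det_mul, ← Matrix.det_transpose, Matrix.det_apply, Finset.sum_mul, Finset.smul_sum]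
  simp only [chi_eq_sum, Finset.sum_smul, sgnLe]
  rw [Finset.sum_comm]
  refine Finset.sum_congr rfl fun π _ => ?_
  simp only [Matrix.transpose_apply, hMat, Matrix.of_apply]
  rw [Finset.prod_ite_zero]
  by_cases hle : stair N ∘ π ≤ γ
  · have hle' : ∀ i ∈ (univ : Finset (Fin N)), (π i : ℕ) ≤ γ i := fun i _ => hle i
    rw [if_pos hle', if_pos hle, Units.smul_def, smul_mul_assoc, smul_comm,
      ← smul_mul_assoc (Fintype.card σ)!]
    have hsum : ∑ j, (γ - stair N ∘ π) j = Fintype.card σ := by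
      have h1 : ∑ j, (γ - stair N ∘ π) j + ∑ j, (stair N ∘ π) j = ∑ j, γ j := by
        rw [← Finset.sum_add_distrib]
        exact Finset.sum_congr rfl fun j _ => Nat.sub_add_cancel (hle j)
      rw [sum_comp_perm, mem_tup.1 hγ, lvl] at h1
      omega
    have h2 : (∏ i, hpol N (γ i - (π i : ℕ))) = ∏ a, hpol N ((γ - stair N ∘ π) a) := rfl
    rw [h2, ← sum_piCnt_smul_pgen _ hsum, Finset.sum_mul, Finset.smul_sum]
    refine Finset.sum_congr rfl fun g _ => ?_
    rw [mul_smul, Int.cast_smul_eq_zsmul, mul_comm (vand N), smul_mul_assoc]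
  · have hle' : ¬ ∀ i ∈ (univ : Finset (Fin N)), (π i : ℕ) ≤ γ i :=
      fun h => hle fun i => h i (Finset.mem_univ i)
    rw [if_neg hle', if_neg hle]
    simp

theorem sum_chi_mul_chi {γ : Fin N → ℕ} (hγ : γ ∈ tup N (lvl N (Fintype.card σ)))
    (β : Fin N → ℕ) :
    ∑ g : Equiv.Perm σ, chi N γ g * chi N β g =
      ((Fintype.card σ)! : ℂ) * coeff (ev β) (alt γ) := by
  have h := congrArg (coeff (ev β)) (sum_chi_smul hγ)
  rw [coeff_sum, coeff_smul, nsmul_eq_mul] at h
  rw [← h]
  exact Finset.sum_congr rfl fun g _ => by rw [coeff_smul, smul_eq_mul]; rfl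

theorem classInner_chi {γ : Fin N → ℕ} (hγ : γ ∈ tup N (lvl N (Fintype.card σ)))
    (β : Fin N → ℕ) :
    Cfsg.classInner (chi N γ : Equiv.Perm σ → ℂ) (chi N β) = coeff (ev β) (alt γ) := by
  rw [CharBasic.classInner_def]
  simp only [conj_chi]
  rw [sum_chi_mul_chi hγ, Nat.card_perm, Nat.card_eq_fintype_card,
    inv_mul_cancel_left₀ (Nat.cast_ne_zero.2 (Nat.factorial_ne_zero _))]

/-- Stabiliser of a colouring. -/
def colStab (f : σ → Fin N) : Subgroup (Equiv.Perm σ) where
  carrier := {g | f ∘ g = f}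
  one_mem' := rfl
  mul_mem' := fun {a b} ha hb => by
    show f ∘ ⇑(a * b) = f
    rw [Equiv.Perm.coe_mul, ← Function.comp_assoc, ha, hb]
  inv_mem' := fun {a} ha => by
    show f ∘ ⇑a⁻¹ = f
    funext i
    simpa using (congrFun ha (a⁻¹ i)).symm

theorem isClassFunction_piCnt (α : Fin N → ℕ) :
    Cfsg.IsClassFunction (Equiv.Perm σ) (fun g => (piCnt N α g : ℂ)) := fun g h => by
  show ((piCnt N α (h * g * h⁻¹) : ℕ) : ℂ) = (piCnt N α g : ℂ)
  rw [← coeff_pgen, ← coeff_pgen, pgen_conj]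

theorem exists_classInner_piCnt (α : Fin N → ℕ) (ψ : Cfsg.IrrCharacter (Equiv.Perm σ)) :
    ∃ m : ℤ, Cfsg.classInner (fun g => (piCnt N α g : ℂ)) (ψ : Equiv.Perm σ → ℂ) = m := by
  classical
  by_cases hα : α ∈ Finset.piAntidiag univ (Fintype.card σ)
  swap
  · refine ⟨0, ?_⟩
    have h : ∀ g : Equiv.Perm σ, piCnt N α g = 0 :=
      piCnt_eq_zero fun e => hα (Finset.mem_piAntidiag.2 ⟨e, by simp⟩)
    simp [CharBasic.classInner_def, h]
  let S : (σ → Fin N) → ℂ := fun f =>
    ∑ g : Equiv.Perm σ, if f ∘ g = f then conj ((ψ : Equiv.Perm σ → ℂ) g) else 0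
  have hS : ∀ (f : σ → Fin N) (x : Equiv.Perm σ), S (f ∘ x) = S f := by
    intro f x
    refine Fintype.sum_equiv (MulAut.conj x).toEquiv _ _ fun g => ?_
    simp only [MulEquiv.toEquiv_eq_coe, EquivLike.coe_coe, MulAut.conj_apply,
      CharBasic.IsIrr.isClassFunction ψ.2 g x]
    refine if_congr ?_ rfl rfl
    simp only [funext_iff, Function.comp_apply, Equiv.Perm.coe_mul]
    refine ⟨fun h i => ?_, fun h i => ?_⟩
    · simpa using h (x⁻¹ i)
    · simpa using h (x i)
  rcases (univ.filter fun f : σ → Fin N => cnt f = α).eq_empty_or_nonempty with he | ⟨f₀, hf₀⟩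
  · have h2 := card_fiber_mul α hα
    rw [he] at h2
    exact absurd h2.symm (by simp [Nat.factorial_ne_zero])
  rw [Finset.mem_filter] at hf₀
  obtain ⟨m, hm⟩ := BlockBasic.isIrr_sum_sylow ψ (colStab f₀)
  have hS0 : S f₀ = (∏ k, (α k)! : ℕ) * (m : ℂ) := by
    rw [← hf₀.2, ← card_stab f₀]
    have hc : Nat.card (colStab f₀) = (univ.filter fun g : Equiv.Perm σ => f₀ ∘ g = f₀).card := by
      rw [← Fintype.card_subtype, Nat.card_eq_fintype_card]
      exact Fintype.card_congr (Equiv.subtypeEquivRight fun g => Iff.rfl)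
    rw [← hc]
    have h2 := congrArg conj hm
    rw [map_sum, map_mul, Complex.conj_natCast, Complex.conj_natCast] at h2
    rw [← h2]
    simp only [S]
    rw [← Finset.sum_filter]
    exact Finset.sum_subtype _ (fun g => by
      simp only [Finset.mem_filter, Finset.mem_univ, true_and]; exact Iff.rfl) _
  refine ⟨m, ?_⟩
  have h1 : ∑ g : Equiv.Perm σ, (piCnt N α g : ℂ) * conj ((ψ : Equiv.Perm σ → ℂ) g) =
      ∑ f ∈ univ.filter (fun f : σ → Fin N => cnt f = α), S f := by
    simp only [S]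
    rw [Finset.sum_comm]
    refine Finset.sum_congr rfl fun g _ => ?_
    rw [← Finset.sum_filter, Finset.sum_const, nsmul_eq_mul, piCnt]
    congr 2
    congr 1
    ext f
    simp [mem_fixCol, and_comm]
  have h2 : ∀ f ∈ univ.filter (fun f : σ → Fin N => cnt f = α), S f = S f₀ := by
    intro f hf
    obtain ⟨x, rfl⟩ := exists_comp_eq (hf₀.2.trans (Finset.mem_filter.1 hf).2.symm)
    exact hS _ _
  rw [CharBasic.classInner_def, h1, Finset.sum_congr rfl h2, Finset.sum_const, nsmul_eq_mul, hS0,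
    ← mul_assoc (_ : ℂ) (_ : ℂ) (m : ℂ), ← Nat.cast_mul, card_fiber_mul α hα, Nat.card_perm,
    Nat.card_eq_fintype_card, inv_mul_cancel_left₀ (Nat.cast_ne_zero.2 (Nat.factorial_ne_zero _))]
  simp

theorem isGeneralized_chi (γ : Fin N → ℕ) :
    Cfsg.IsGeneralizedCharacter (Equiv.Perm σ) (chi N γ) := by
  refine CharBasic.isGeneralized_iff_int.2 ⟨isClassFunction_chi γ, fun ψ => ?_⟩
  choose m hm using fun π : Equiv.Perm (Fin N) =>
    exists_classInner_piCnt (σ := σ) (γ - stair N ∘ π) ψ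
  let c : Equiv.Perm (Fin N) → ℤ := sgnLe γ
  refine ⟨∑ π, c π * m π, ?_⟩
  have h : (chi N γ : Equiv.Perm σ → ℂ) =
      ∑ π, (c π : ℂ) • fun g => (piCnt N (γ - stair N ∘ π) g : ℂ) := by
    funext g
    simp [chi_eq_sum, c, Finset.sum_apply]
  rw [h, CharBasic.classInner_sum_left]
  push_cast
  exact Finset.sum_congr rfl fun π _ => by rw [CharBasic.classInner_smul_left, hm]

theorem exists_irr_of_injective {γ : Fin N → ℕ} (hγ : γ ∈ tup N (lvl N (Fintype.card σ)))
    (hi : Function.Injective γ) :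
    ∃ (ψ : Cfsg.IrrCharacter (Equiv.Perm σ)) (ε : ℂ), ε * ε = 1 ∧
      (chi N γ : Equiv.Perm σ → ℂ) = ε • (ψ : Equiv.Perm σ → ℂ) := by
  rcases CharBasic.IsGen.norm_one (isGeneralized_chi γ)
    (by rw [classInner_chi hγ, coeff_alt_self hi]) with h | h
  · exact ⟨⟨_, h⟩, 1, one_mul 1, (one_smul ℂ _).symm⟩
  · exact ⟨⟨_, h⟩, -1, by ring, by simp⟩

section Complete

variable (σ N)

/-- Increasing tuples of the degree attached to `σ`. -/
def monoTup : Finset (Fin N → ℕ) :=
  (tup N (lvl N (Fintype.card σ))).filter fun γ => ∀ i j : Fin N, i < j → γ i < γ j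

variable {σ N}

theorem mem_monoTup {γ : Fin N → ℕ} :
    γ ∈ monoTup σ N ↔ γ ∈ tup N (lvl N (Fintype.card σ)) ∧ StrictMono γ := by
  simp [monoTup, StrictMono]

theorem eq_of_strictMono_comp {γ β : Fin N → ℕ} (hγ : StrictMono γ) (hβ : StrictMono β)
    {π : Equiv.Perm (Fin N)} (h : γ ∘ π = β) : γ = β := by
  have hπ : StrictMono π := fun i j hij => hγ.lt_iff_lt.1 (by
    have := hβ hij
    rw [← h] at this
    exact this)
  have h2 : ∀ j, π j = j := fun j =>
    congrFun (f := ⇑π) (g := id) (hπ.range_inj strictMono_id |>.1 (by simp)) j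
  funext j
  rw [← h, Function.comp_apply, h2]

theorem classInner_chi_mono {γ β : Fin N → ℕ} (hγ : γ ∈ monoTup σ N) (hβ : β ∈ monoTup σ N)
    (hne : γ ≠ β) : Cfsg.classInner (chi N γ : Equiv.Perm σ → ℂ) (chi N β) = 0 := by
  rw [mem_monoTup] at hγ hβ
  rw [classInner_chi hγ.1]
  exact coeff_alt_eq_zero fun π h => hne (eq_of_strictMono_comp hγ.2 hβ.2 h)

theorem exists_tuple_classes (hN : Fintype.card σ ≤ N) :
    ∃ F : ConjClasses (Equiv.Perm σ) → (Fin N → ℕ),
      Function.Injective F ∧ ∀ C, F C ∈ monoTup σ N := by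
  classical
  let P : ConjClasses (Equiv.Perm σ) → Multiset ℕ := fun C => C.out.partition.parts
  have hP : Function.Injective P := by
    intro C D h
    rw [← ConjClasses.mk_eq_mk_iff_isConj.2 (Equiv.Perm.partition_eq_of_isConj.2 (Nat.Partition.ext h)
      : IsConj C.out D.out) |> fun e => ((Quotient.out_eq C).symm.trans e).trans (Quotient.out_eq D)]
  have hc : ∀ C, (P C).card ≤ N := fun C => by
    refine le_trans ?_ hN
    have h := Multiset.card_nsmul_le_sum (s := P C) (a := 1) fun x hx => C.out.partition.parts_pos hx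
    rw [smul_eq_mul, mul_one, C.out.partition.parts_sum] at h
    exact h
  let l : ConjClasses (Equiv.Perm σ) → List ℕ := fun C =>
    (P C + Multiset.replicate (N - (P C).card) 0).sort (· ≤ ·)
  have hl : ∀ C, (l C).length = N := fun C => by
    simp only [l, Multiset.length_sort, Multiset.card_add, Multiset.card_replicate]
    have := hc C
    omega
  let F : ConjClasses (Equiv.Perm σ) → Fin N → ℕ := fun C j => (l C).get (Fin.cast (hl C).symm j) + j
  refine ⟨F, fun C D h => hP ?_, fun C => mem_monoTup.2 ⟨mem_tup.2 ?_, fun i j hij => ?_⟩⟩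
  · have hlist : l C = l D := by
      refine List.ext_get (by rw [hl, hl]) fun i h1 h2 => ?_
      have := congrFun h ⟨i, (hl C) ▸ h1⟩
      simpa [F] using this
    have hm := congrArg (fun L : List ℕ => (Multiset.ofList L).filter (· ≠ 0)) hlist
    simp only [l, Multiset.sort_eq, Multiset.filter_add] at hm
    have hz : ∀ k : ℕ, (Multiset.replicate k 0).filter (fun x : ℕ => x ≠ 0) = 0 := fun k =>
      Multiset.filter_eq_nil.2 fun a ha => by simp [Multiset.eq_of_mem_replicate ha]
    have hp : ∀ E, (P E).filter (fun x : ℕ => x ≠ 0) = P E := fun E =>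
      Multiset.filter_eq_self.2 fun a ha => (E.out.partition.parts_pos ha).ne'
    rwa [hz, hz, hp, hp, add_zero, add_zero] at hm
  · simp only [F, Finset.sum_add_distrib, lvl]
    congr 1
    rw [show ∑ j : Fin N, (l C).get (Fin.cast (hl C).symm j) = ∑ k, (l C).get k from
      Fintype.sum_equiv (finCongr (hl C).symm) _ _ fun _ => rfl]
    rw [← List.sum_ofFn, List.ofFn_get, ← Multiset.sum_coe]
    simp only [l, Multiset.sort_eq, Multiset.sum_add, Multiset.sum_replicate, smul_zero, add_zero]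
    exact C.out.partition.parts_sum
  · refine Nat.add_lt_add_of_le_of_lt ?_ hij
    exact (Multiset.pairwise_sort _ _).rel_get_of_le (by exact hij.le)

/-- Every irreducible character is, up to sign, some `chi`. -/
theorem exists_tuple_of_irr (hN : Fintype.card σ ≤ N) (χ : Cfsg.IrrCharacter (Equiv.Perm σ)) :
    ∃ γ ∈ monoTup σ N, ∃ ε : ℂ, ε * ε = 1 ∧
      (chi N γ : Equiv.Perm σ → ℂ) = ε • (χ : Equiv.Perm σ → ℂ) := by
  classical
  obtain ⟨F, hF, hFm⟩ := exists_tuple_classes (σ := σ) hN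
  choose ψ ε hε hψ using fun C =>
    exists_irr_of_injective (σ := σ) (mem_monoTup.1 (hFm C)).1 (mem_monoTup.1 (hFm C)).2.injective
  have := CharBasic.finite_irrCharacter (G := Equiv.Perm σ)
  have hinj : Function.Injective ψ := by
    intro C D h
    by_contra hne
    have h0 := classInner_chi_mono (hFm C) (hFm D) (fun e => hne (hF e))
    rw [hψ, hψ, h, CharBasic.classInner_smul_left, CharBasic.classInner_smul_right,
      CharBasic.classInner_irr_self (ψ D).2, mul_one] at h0
    rcases mul_eq_zero.1 h0 with e | e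
    · exact zero_ne_one ((mul_eq_zero_of_left e (ε C)).symm.trans (hε C))
    · rw [map_eq_zero] at e
      exact zero_ne_one ((mul_eq_zero_of_left e (ε D)).symm.trans (hε D))
  have hbij : Function.Bijective ψ := by
    refine (Nat.bijective_iff_injective_and_card _).2 ⟨hinj, ?_⟩
    exact (CharBasic.card_irrCharacter (G := Equiv.Perm σ)).symm
  obtain ⟨C, rfl⟩ := hbij.2 χ
  exact ⟨F C, hFm C, ε C, hε C, hψ C⟩

/-- A class function orthogonal to all `chi` vanishes. -/
theorem eq_zero_of_orth (hN : Fintype.card σ ≤ N) {f : Equiv.Perm σ → ℂ}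
    (hf : Cfsg.IsClassFunction (Equiv.Perm σ) f)
    (h : ∀ γ ∈ tup N (lvl N (Fintype.card σ)), ∑ g, f g * chi N γ g = 0) : f = 0 := by
  refine CharBasic.eq_zero_of_classInner_eq_zero hf fun χ => ?_
  obtain ⟨γ, hγ, ε, hε, he⟩ := exists_tuple_of_irr hN χ
  have h2 := h γ (mem_monoTup.1 hγ).1
  have h3 : ∀ g, conj ((χ : Equiv.Perm σ → ℂ) g) = conj ε * chi N γ g := by
    intro g
    have h4 := congrFun he g
    rw [Pi.smul_apply, smul_eq_mul] at h4
    rw [← conj_chi γ g, h4, ← map_mul, ← mul_assoc, hε, one_mul]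
  simp only [CharBasic.classInner_def, h3, mul_left_comm _ (conj ε), ← Finset.mul_sum, h2, mul_zero]

/-- **Column relation.** -/
theorem sum_tup_chi_mul_chi (hN : Fintype.card σ ≤ N) {g h : Equiv.Perm σ} (hgh : ¬ IsConj g h) :
    ∑ γ ∈ tup N (lvl N (Fintype.card σ)), chi N γ g * chi N γ h = 0 := by
  classical
  set T := tup N (lvl N (Fintype.card σ))
  let d : Equiv.Perm σ → ℂ := fun a =>
    (N ! : ℂ) * ∑ x : Equiv.Perm σ, if x * h * x⁻¹ = a then 1 else 0
  let f : Equiv.Perm σ → ℂ := fun a => ∑ γ ∈ T, chi N γ a * chi N γ h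
  have hd : Cfsg.IsClassFunction (Equiv.Perm σ) (f - d) := by
    intro a b
    simp only [Pi.sub_apply, f, d, isClassFunction_chi _ a b]
    congr 2
    refine Fintype.sum_equiv (Equiv.mulLeft b⁻¹) _ _ fun x => ?_
    refine if_congr ?_ rfl rfl
    simp only [Equiv.coe_mulLeft, mul_inv_rev, inv_inv]
    constructor
    · intro e
      calc b⁻¹ * x * h * (x⁻¹ * b) = b⁻¹ * (x * h * x⁻¹) * b := by group
        _ = a := by rw [e]; group
    · intro e
      calc x * h * x⁻¹ = b * (b⁻¹ * x * h * (x⁻¹ * b)) * b⁻¹ := by group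
        _ = b * a * b⁻¹ := by rw [e]
  have h0 : f - d = 0 := by
    refine eq_zero_of_orth hN hd fun β hβ => ?_
    have h1 : ∑ a, f a * chi N β a = ((Fintype.card σ)! : ℂ) * ((N ! : ℂ) * chi N β h) := by
      rw [← sum_coeff_alt_mul (isAlt_chi h) hβ, Finset.mul_sum]
      simp only [f, Finset.sum_mul]
      rw [Finset.sum_comm]
      refine Finset.sum_congr rfl fun γ hγ => ?_
      rw [← mul_assoc, ← sum_chi_mul_chi hγ β, Finset.sum_mul]
      exact Finset.sum_congr rfl fun a _ => by ring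
    have h2 : ∑ a, d a * chi N β a = ((Fintype.card σ)! : ℂ) * ((N ! : ℂ) * chi N β h) := by
      rw [mul_left_comm, show ∑ a, d a * chi N β a =
          (N ! : ℂ) * ∑ a, (∑ x : Equiv.Perm σ, if x * h * x⁻¹ = a then 1 else 0) * chi N β a by
        rw [Finset.mul_sum]; exact Finset.sum_congr rfl fun a _ => mul_assoc _ _ _]
      congr 1
      simp only [Finset.sum_mul, ite_mul, one_mul, zero_mul]
      rw [Finset.sum_comm]
      simp only [Finset.sum_ite_eq, Finset.mem_univ, if_true]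
      rw [Finset.sum_congr rfl fun x _ => isClassFunction_chi β h x, Finset.sum_const,
        Finset.card_univ, Fintype.card_perm, nsmul_eq_mul]
    simp only [Pi.sub_apply, sub_mul, Finset.sum_sub_distrib, h1, h2, sub_self]
  have h3 := congrFun h0 g
  simp only [Pi.sub_apply, Pi.zero_apply, sub_eq_zero, f, d] at h3
  rw [h3, Finset.sum_eq_zero (fun x _ => if_neg fun e => hgh (isConj_iff.2 ⟨x, e⟩).symm), mul_zero]

end Complete

end Cfsg.Agent.H15.SymBlocks
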