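import Cfsg.Agent.H15.SymBlocks.Defect
import Cfsg.Prelude.Def_CaseTheorems

/-!
# The `p`-regular rank of a block of a symmetric group is below `p` to the sectional rank
-/

set_option linter.unusedSectionVars false

namespace Cfsg.Agent.H15.SymBlocks

open Cfsg.Agent

theorem card_le_of_sectional {p s : ℕ} {G : Type*} [Group G] {D : Subgroup G}
    (hs : Cfsg.SectionalPRankLE p s D) {A : Subgroup G} (hAD : A ≤ D)
    (hcomm : ∀ a ∈ A, ∀ b ∈ A, a * b = b * a) (hexp : ∀ a ∈ A, a ^ p = 1) :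
    Nat.card A ≤ p ^ s := by
  let A' : Subgroup D := A.subgroupOf D
  let f : A' →* A' ⧸ (⊥ : Subgroup A') := QuotientGroup.mk' ⊥
  have hf : Function.Surjective f := QuotientGroup.mk'_surjective _
  have h := hs A' ⊥ ⊤ ?_ ?_
  · rwa [Subgroup.card_top, Nat.card_congr (QuotientGroup.quotientBot (G := A')).toEquiv,
      Nat.card_congr (Subgroup.subgroupOfEquivOfLe hAD).toEquiv] at h
  · refine ⟨⟨fun a b => Subtype.ext ?_⟩⟩
    obtain ⟨x, hx⟩ := hf a
    obtain ⟨y, hy⟩ := hf b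
    show (a : A' ⧸ (⊥ : Subgroup A')) * b = b * a
    rw [← hx, ← hy, ← map_mul, ← map_mul]
    exact congrArg f (Subtype.ext (Subtype.ext (hcomm _ x.2 _ y.2)))
  · intro a _
    obtain ⟨x, rfl⟩ := hf a
    rw [← map_pow, ← map_one f]
    exact congrArg f (Subtype.ext (Subtype.ext (hexp _ x.2)))

theorem blockRank_lt {σ : Type} [Fintype σ] [DecidableEq σ] {p : ℕ} [hp : Fact p.Prime]
    {M : Ideal Cfsg.AlgInt} (hM : Cfsg.IsPModular p M)
    {B : Set (Cfsg.IrrCharacter (Equiv.Perm σ))} (hB : Cfsg.IsPBlock M B)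
    {D : Subgroup (Equiv.Perm σ)} (hD : Cfsg.IsDefectGroup p M B D) (hD1 : D ≠ ⊥) {s : ℕ}
    (hs : Cfsg.SectionalPRankLE p s D) : Cfsg.blockRank p B < p ^ s := by
  classical
  set N := Fintype.card σ
  obtain ⟨γ, hγ, hi, hBκ⟩ := exists_resSet_of_block (N := N) hM le_rfl hB
  obtain ⟨hw, E, hE, A, hAE, hcomm, hexp, hcard⟩ :=
    exists_elementary hM le_rfl hγ hi hB hBκ hD hD1
  obtain ⟨c, hc⟩ := H35.defectGroup_le_conj hM hB hD hE
  let A' : Subgroup (Equiv.Perm σ) := A.map (MulAut.conj c⁻¹).toMonoidHom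
  have hA'D : A' ≤ D := by
    rintro _ ⟨a, ha, rfl⟩
    obtain ⟨d, hd, hda⟩ := hc (hAE ha)
    rw [← hda]
    simpa [mul_assoc] using hd
  have hws : wt p γ ≤ s := by
    refine (Nat.pow_le_pow_iff_right hp.out.one_lt).1 (hcard.trans ?_)
    have hinj : Function.Injective (MulAut.conj c⁻¹).toMonoidHom := (MulAut.conj c⁻¹).injective
    rw [← Subgroup.card_map_of_injective (K := A) hinj]
    refine card_le_of_sectional hs hA'D ?_ ?_
    · rintro _ ⟨a, ha, rfl⟩ _ ⟨b, hb, rfl⟩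
      rw [← map_mul, ← map_mul, hcomm a ha b hb]
    · rintro _ ⟨a, ha, rfl⟩
      rw [← map_pow, hexp a ha, map_one]
  obtain ⟨w, hw'⟩ : ∃ w, wt p γ = w + 1 := ⟨wt p γ - 1, by omega⟩
  calc Cfsg.blockRank p B
      ≤ (p - 1) * p ^ w := (Submodule.finrank_mono (Submodule.span_mono (Set.image_mono hBκ))).trans
        (finrank_resSet_le le_rfl hγ hi hw')
    _ < p * p ^ w := Nat.mul_lt_mul_of_pos_right (Nat.sub_lt hp.out.pos one_pos) (pow_pos hp.out.pos w)
    _ ≤ p ^ s := by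
        rw [← pow_succ']
        exact Nat.pow_le_pow_right hp.out.pos (hw' ▸ hws)

end Cfsg.Agent.H15.SymBlocks
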