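import Cfsg.Agent.H15.SymBlocks.Defect
import Cfsg.Agent.H15.SymBlocks.WeightOne
import Cfsg.Agent.BlockBasic.Cover
import Cfsg.Agent.BlockBasic.Kernel

/-!
# One block for each residue vector

Blocks of the centralizer of an element with `w` cycles of length `p` are determined by the
character on the fixed points.  Hence a residue set is one block, and every `p`-subgroup on the
moved points of such an element lies in a defect group.
-/

set_option linter.unusedSectionVars false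

namespace Cfsg.Agent.H15.SymBlocks

open Finset
open Cfsg.Agent

variable {σ : Type} [Fintype σ] [DecidableEq σ] {N p : ℕ}

/-- In weight zero a residue set has at most one member. -/
theorem resSet_subsingleton (hp : 0 < p) {κ : ℕ → ℕ}
    (hw : ∀ γ : Fin N → ℕ, γ ∈ tup N (lvl N (Fintype.card σ)) → Function.Injective γ →
      rcnt p γ = κ → wt p γ = 0)
    {φ φ' : Cfsg.IrrCharacter (Equiv.Perm σ)} (h : φ ∈ resSet σ N p κ)
    (h' : φ' ∈ resSet σ N p κ) : φ = φ' := by
  obtain ⟨γ, hγ, hi, hκ, ε, hε, he⟩ := h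
  obtain ⟨β, hβ, hbi, hbκ, δ, hδ, hd⟩ := h'
  obtain ⟨π, hπ⟩ := exists_perm_of_weight_zero hp hi hbi (hκ.trans hbκ.symm) (hw γ hγ hi hκ)
    (hw β hβ hbi hbκ)
  have hc : (φ : Equiv.Perm σ → ℂ) =
      (ε * ((Equiv.Perm.sign π : ℤ) : ℂ) * δ) • (φ' : Equiv.Perm σ → ℂ) := by
    funext g
    rw [irr_eq_smul_chi hε he, Pi.smul_apply, Pi.smul_apply, smul_eq_mul, smul_eq_mul, ← hπ,
      chi_comp, show chi N β g = δ * (φ' : Equiv.Perm σ → ℂ) g from congrFun hd g]
    ring
  by_contra hne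
  have h0 : Cfsg.classInner (φ : Equiv.Perm σ → ℂ) (φ' : Equiv.Perm σ → ℂ) = 0 :=
    CharBasic.classInner_irr_of_ne φ.2 φ'.2 fun e => hne (Subtype.ext e)
  rw [hc, CharBasic.classInner_smul_left, CharBasic.classInner_irr_self φ'.2, mul_one] at h0
  rcases mul_eq_zero.1 h0 with e | e
  · rcases mul_eq_zero.1 e with e' | e'
    · simp [e'] at hε
    · exact Units.ne_zero _ (Int.cast_eq_zero.1 e')
  · simp [e] at hδ

variable {z : Equiv.Perm σ}

theorem cycleOf_mem_cycGroup (z : Equiv.Perm σ) (a : σ) : z.cycleOf a ∈ cycGroup z := by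
  refine ⟨?_, fun b => ?_⟩
  · refine Equiv.ext fun b => ?_
    rw [Equiv.Perm.mul_apply, Equiv.Perm.mul_apply, Equiv.Perm.cycleOf_apply,
      Equiv.Perm.cycleOf_apply]
    by_cases h : z.SameCycle a b
    · rw [if_pos h, if_pos (Equiv.Perm.sameCycle_apply_right.2 h)]
    · rw [if_neg h, if_neg (mt Equiv.Perm.sameCycle_apply_right.1 h)]
  · rw [Equiv.Perm.cycleOf_apply]
    split_ifs
    · exact ⟨1, by rw [zpow_one]⟩
    · exact ⟨0, by simp⟩

/-- A regular element centralizing the cycle group acts on the fixed points only. -/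
theorem exists_fixIncl_eq [hp : Fact p.Prime] (hzp : z ^ p = 1) (c : CZ z)
    (hreg : ¬ p ∣ orderOf c)
    (hc : ∀ g ∈ cycGroup z, g * (c : Equiv.Perm σ) = (c : Equiv.Perm σ) * g) :
    ∃ s, c = fixIncl z s := by
  set P : σ → Prop := fun a => z a ≠ a with hP
  set u := (c : Equiv.Perm σ).subtypePerm (p := P) (pres_of_mem c)
  set s := (c : Equiv.Perm σ).subtypePerm (p := fun a => ¬ P a)
    (fun a => not_congr (pres_of_mem c a))
  have hcj : join P (u, s) = c := join_subtypePerm P (pres_of_mem c)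
  have hu : join P (u, 1) ∈ cycGroup z := by
    have hpos : ∀ a, P a → join P (u, 1) a = (c : Equiv.Perm σ) a := fun a ha => by
      rw [join_apply_pos P u 1 ha]
      rfl
    refine ⟨Equiv.ext fun a => ?_, fun a => ?_⟩
    · by_cases ha : P a
      · rw [Equiv.Perm.mul_apply, Equiv.Perm.mul_apply, hpos _ (z.injective.ne_iff.2 ha),
          hpos a ha, ← Equiv.Perm.mul_apply, ← Equiv.Perm.mul_apply, (commute_of_mem c).eq]
      · have hza : z a = a := not_not.1 ha
        rw [Equiv.Perm.mul_apply, Equiv.Perm.mul_apply, hza, join_apply_neg P u 1 ha]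
        simp [hza]
    · by_cases ha : P a
      · rw [hpos a ha]
        have hsc : z.SameCycle a ((c : Equiv.Perm σ) a) := by
          by_contra hn
          have e := congrArg (fun g : Equiv.Perm σ => g a) (hc _ (cycleOf_mem_cycGroup z a))
          simp only [Equiv.Perm.mul_apply, Equiv.Perm.cycleOf_apply, if_neg hn,
            if_pos (Equiv.Perm.SameCycle.refl z a)] at e
          exact ha ((c : Equiv.Perm σ).injective e).symm
        obtain ⟨k, hk⟩ := hsc
        exact ⟨k, hk.symm⟩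
      · exact ⟨0, by rw [join_apply_neg P u 1 ha]; simp⟩
  have hu1 : u = 1 := by
    have h1 : u ^ p = 1 := by
      have h := cycGroup_pow hzp hu
      rw [← map_pow, ← map_one (join P), Prod.pow_mk] at h
      exact (Prod.ext_iff.1 (join_injective P h)).1
    rw [← Subgroup.orderOf_coe, ← hcj, regular_join] at hreg
    rcases (Nat.dvd_prime hp.out).1 (orderOf_dvd_of_pow_eq_one h1) with e | e
    · exact orderOf_eq_one_iff.1 e
    · exact absurd e.symm.dvd hreg.1
  exact ⟨s, Subtype.ext (by rw [coe_fixIncl, ← hcj, hu1])⟩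

theorem cycGroup_le_CZ (z : Equiv.Perm σ) : cycGroup z ≤ CZ z := fun _ hg =>
  Subgroup.mem_centralizer_singleton_iff.2 hg.1.eq

instance normal_cycGroup (z : Equiv.Perm σ) : ((cycGroup z).subgroupOf (CZ z)).Normal :=
  ⟨fun e he c' => by
    rw [Subgroup.mem_subgroupOf] at he ⊢
    push_cast
    exact cycGroup_conj (commute_of_mem c') he⟩

/-- Characters of the centralizer over one character of the fixed points lie in one block. -/
theorem local_sameBlock [hp : Fact p.Prime] {M : Ideal Cfsg.AlgInt} (hM : Cfsg.IsPModular p M)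
    (hzp : z ^ p = 1) {ψ ψ' : Cfsg.IrrCharacter (CZ z)}
    {φ : Cfsg.IrrCharacter (Equiv.Perm {a // ¬ z a ≠ a})}
    {m m' : ℂ} (hm : m ≠ 0) (hm' : m' ≠ 0)
    (h : ∀ x, (ψ : CZ z → ℂ) (fixIncl z x) = m * (φ : Equiv.Perm {a // ¬ z a ≠ a} → ℂ) x)
    (h' : ∀ x, (ψ' : CZ z → ℂ) (fixIncl z x) = m' * (φ : Equiv.Perm {a // ¬ z a ≠ a} → ℂ) x) :
    Cfsg.SameBlock M (ψ : CZ z → ℂ) (ψ' : CZ z → ℂ) := by
  set Q := (cycGroup z).subgroupOf (CZ z)
  have hQp : IsPGroup p Q := fun e => ⟨1, Subtype.ext (Subtype.ext (by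
    rw [pow_one]
    push_cast
    exact cycGroup_pow hzp (Subgroup.mem_subgroupOf.1 e.2)))⟩
  refine BlockBasic.sameBlock_of_congr_regular hM fun g hg => ?_
  by_cases hgC : g ∈ Subgroup.centralizer (Q : Set (CZ z))
  · obtain ⟨s, rfl⟩ := exists_fixIncl_eq hzp g hg fun x hx =>
      congrArg Subtype.val (Subgroup.mem_centralizer_iff.1 hgC ⟨x, cycGroup_le_CZ z hx⟩
        (Subgroup.mem_subgroupOf.2 hx))
    have e1 : (ψ : CZ z → ℂ) 1 = m * (φ : Equiv.Perm {a // ¬ z a ≠ a} → ℂ) 1 := by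
      rw [← h 1, map_one]
    have e1' : (ψ' : CZ z → ℂ) 1 = m' * (φ : Equiv.Perm {a // ¬ z a ≠ a} → ℂ) 1 := by
      rw [← h' 1, map_one]
    rw [Cfsg.centralChar, Cfsg.centralChar, h, h', e1, e1', mul_left_comm, mul_left_comm _ m',
      mul_div_mul_left _ _ hm, mul_div_mul_left _ _ hm', sub_self]
    exact BlockBasic.memLocalIdeal_zero hM
  · exact BlockBasic.memLocalIdeal_sub hM
      (BlockBasic.centralChar_mem_of_not_centralizer hM Q hQp ψ hgC)
      (BlockBasic.centralChar_mem_of_not_centralizer hM Q hQp ψ' hgC)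

/-- A block is induced from the centralizer of an element of order `p` in a defect group, and
all the characters there lie over the residue vector of the block. -/
theorem exists_local_block [hp : Fact p.Prime] {M : Ideal Cfsg.AlgInt} (hM : Cfsg.IsPModular p M)
    (hN : Fintype.card σ ≤ N) {κ : ℕ → ℕ} {B : Set (Cfsg.IrrCharacter (Equiv.Perm σ))}
    (hB : Cfsg.IsPBlock M B) (hBκ : B ⊆ resSet σ N p κ) {D : Subgroup (Equiv.Perm σ)}
    (hD : Cfsg.IsDefectGroup p M B D) (hzD : z ∈ D) (hz : orderOf z = p) :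
    ∃ b, Cfsg.IsInducedBlock M (CZ z) b B ∧ ∀ ψ ∈ b,
      ∃ φ ∈ resSet {a // ¬ z a ≠ a} N p κ, ∃ m : ℂ, m ≠ 0 ∧
        ∀ x, (ψ : CZ z → ℂ) (fixIncl z x) = m * (φ : Equiv.Perm {a // ¬ z a ≠ a} → ℂ) x := by
  have hPH : Subgroup.zpowers z ⊔ Subgroup.centralizer (Subgroup.zpowers z : Set (Equiv.Perm σ)) ≤
      CZ z := by
    refine sup_le (Subgroup.zpowers_le.2 (Subgroup.mem_centralizer_singleton_iff.2 rfl)) fun x hx => ?_
    exact Subgroup.mem_centralizer_singleton_iff.2
      (Subgroup.mem_centralizer_iff.1 hx z (Subgroup.mem_zpowers z)).symm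
  have hHN : CZ z ≤ Subgroup.normalizer (Subgroup.zpowers z : Set (Equiv.Perm σ)) := by
    intro c hc
    refine Subgroup.centralizer_le_normalizer (G := Equiv.Perm σ)
      (s := (Subgroup.zpowers z : Set (Equiv.Perm σ))) ?_
    rw [Subgroup.mem_centralizer_iff]
    intro x hx
    obtain ⟨k, rfl⟩ := Subgroup.mem_zpowers_iff.1 hx
    exact ((commute_of_mem (z := z) ⟨c, hc⟩).zpow_right k).symm.eq
  obtain ⟨b, hb⟩ := (S0958.result p M hM _ (CZ z)
    (IsPGroup.of_card (n := 1) (by rw [Nat.card_zpowers, hz, pow_one])) hPH hHN B hB).2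
    ⟨D, hD, (1 : Equiv.Perm σ), by
      rintro _ ⟨x, hx, rfl⟩
      simpa using Subgroup.zpowers_le.2 hzD hx⟩
  refine ⟨b, hb, fun ψ hψ => ?_⟩
  classical
  obtain ⟨φ, hφU, hφ⟩ := exists_mem_of_omega fixIncl_injective exists_inner ψ
    (omega_ne_zero hM hN hz hBκ hb hψ)
  exact ⟨φ, hφU, restrict_eq_smul fixIncl_injective exists_inner ψ hφ⟩

/-- The fixed points of an element with `w` cycles of length `p` carry weight zero. -/
theorem weight_fixed_eq_zero [hp : Fact p.Prime] {γ : Fin N → ℕ}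
    (hγ : γ ∈ tup N (lvl N (Fintype.card σ))) (hi : Function.Injective γ)
    (hsupp : z.support.card = p * wt p γ) (γ' : Fin N → ℕ)
    (hγ' : γ' ∈ tup N (lvl N (Fintype.card {a // ¬ z a ≠ a}))) (hi' : Function.Injective γ')
    (hκ : rcnt p γ' = rcnt p γ) : wt p γ' = 0 := by
  have hρ : Fintype.card {a // ¬ z a ≠ a} + p * wt p γ = Fintype.card σ := by
    rw [← hsupp, Fintype.card_subtype_compl, Fintype.card_subtype,
      show (univ.filter fun a => z a ≠ a) = z.support from rfl]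
    exact Nat.sub_add_cancel z.support.card_le_univ
  have h1 := qsum_eq_of_rcnt_eq hp.out.pos hκ.symm (c := wt p γ) (by
    rw [mem_tup.1 hγ, mem_tup.1 hγ', lvl, lvl]; omega)
  have h2 := qsum_eq_core_add_wt hp.out.pos hi
  have h3 := qsum_eq_core_add_wt hp.out.pos hi'
  rw [hκ] at h3
  omega

/-- **A residue set is one block.** -/
theorem eq_resSet [hp : Fact p.Prime] {M : Ideal Cfsg.AlgInt} (hM : Cfsg.IsPModular p M)
    (hN : Fintype.card σ ≤ N) {γ : Fin N → ℕ} (hγ : γ ∈ tup N (lvl N (Fintype.card σ)))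
    (hi : Function.Injective γ)
    (hdef : ∀ B : Set (Cfsg.IrrCharacter (Equiv.Perm σ)), Cfsg.IsPBlock M B →
      B ⊆ resSet σ N p (rcnt p γ) → 0 < wt p γ → ∀ D, Cfsg.IsDefectGroup p M B D → D ≠ ⊥)
    {B : Set (Cfsg.IrrCharacter (Equiv.Perm σ))} (hB : Cfsg.IsPBlock M B)
    (hBκ : B ⊆ resSet σ N p (rcnt p γ)) : B = resSet σ N p (rcnt p γ) := by
  refine Set.Subset.antisymm hBκ fun ψ hψ => ?_
  have hp0 := hp.out.pos
  obtain ⟨χ, hχ⟩ := BlockBasic.isPBlock_nonempty hM hB
  rcases Nat.eq_zero_or_pos (wt p γ) with hw | hw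
  · rwa [← resSet_subsingleton hp0 (fun β hβ hbi hbκ => ?_) (hBκ hχ) hψ]
    have h1 := qsum_eq_of_rcnt_eq hp0 hbκ (c := 0) (by
      rw [mul_zero, add_zero, mem_tup.1 hβ, mem_tup.1 hγ])
    have h2 : wt p β = wt p γ := by rw [wt, wt, hbκ, h1, add_zero]
    omega
  set B' := Cfsg.blockOf M (ψ : Equiv.Perm σ → ℂ) with hB'def
  have hB' : Cfsg.IsPBlock M B' := BlockBasic.isPBlock_blockOf M ψ
  have hB'κ : B' ⊆ resSet σ N p (rcnt p γ) := blockOf_subset_resSet hM hN hψ
  obtain ⟨a, ha⟩ := BlockBasic.exists_isDefectClass hM hB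
  obtain ⟨a', ha'⟩ := BlockBasic.exists_isDefectClass hM hB'
  have hD : Cfsg.IsDefectGroup p M B _ := ⟨a, ha, default, rfl⟩
  have hD' : Cfsg.IsDefectGroup p M B' _ := ⟨a', ha', default, rfl⟩
  obtain ⟨-, z, E, hz, hsupp, hE, hle, -⟩ :=
    exists_elementary_full hM hN hγ hi hB hBκ hD (hdef B hB hBκ hw _ hD)
  obtain ⟨-, z', E', hz', hsupp', hE', hle', -⟩ :=
    exists_elementary_full hM hN hγ hi hB' hB'κ hD' (hdef B' hB' hB'κ hw _ hD')
  have hconj : IsConj z' z := by
    rw [Equiv.Perm.isConj_iff_cycleType_eq]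
    obtain ⟨n, hn⟩ := Equiv.Perm.cycleType_prime_order (σ := z) (hz.symm ▸ hp.out)
    obtain ⟨n', hn'⟩ := Equiv.Perm.cycleType_prime_order (σ := z') (hz'.symm ▸ hp.out)
    have e := Equiv.Perm.sum_cycleType z
    have e' := Equiv.Perm.sum_cycleType z'
    rw [hn, hz, Multiset.sum_replicate, hsupp, smul_eq_mul, mul_comm p] at e
    rw [hn', hz', Multiset.sum_replicate, hsupp', smul_eq_mul, mul_comm p] at e'
    rw [hn, hn', hz, hz', Nat.eq_of_mul_eq_mul_right hp0 (e.trans e'.symm)]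
  obtain ⟨c, hc⟩ := isConj_iff.1 hconj
  obtain ⟨b, hb, hover⟩ := exists_local_block hM hN hB hBκ hE (hle (mem_cycGroup_self z)) hz
  obtain ⟨b', hb', hover'⟩ := exists_local_block hM hN hB' hB'κ (H35.isDefectGroup_conj hE' c)
    (z := z) ⟨z', hle' (mem_cycGroup_self z'), by simpa using hc⟩ hz
  obtain ⟨η, hη⟩ := BlockBasic.isPBlock_nonempty hM hb.1
  obtain ⟨η', hη'⟩ := BlockBasic.isPBlock_nonempty hM hb'.1
  obtain ⟨φ, hφ, m, hm, hφr⟩ := hover η hη
  obtain ⟨φ', hφ', m', hm', hφr'⟩ := hover' η' hη'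
  obtain rfl : φ = φ' := resSet_subsingleton hp0
    (fun β hβ hbi hbκ => weight_fixed_eq_zero hγ hi hsupp β hβ hbi hbκ) hφ hφ'
  have hbb : b = b' := by
    rw [BlockBasic.isPBlock_eq_blockOf hM hb.1 hη, BlockBasic.isPBlock_eq_blockOf hM hb'.1 hη']
    exact BlockBasic.blockOf_eq_of_sameBlock hM
      (local_sameBlock hM (by rw [← hz, pow_orderOf_eq_one]) hm hm' hφr hφr')
  subst hbb
  rw [BlockBasic.isInducedBlock_unique hM hb hb']
  exact BlockBasic.self_mem_blockOf hM ψ

theorem resMap_linear_sum {G : Type} [Group G] [Fintype G] {H : Subgroup G} [Fintype H]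
    (ψ : H → ℂ) {ι : Type*} (s : Finset ι) (c : ι → ℂ) (v : ι → MonoidAlgebra ℂ G) :
    BlockBasic.omega ψ (BlockBasic.resMap H (∑ i ∈ s, c i • v i)) =
      ∑ i ∈ s, c i * BlockBasic.omega ψ (BlockBasic.resMap H (v i)) := by
  simp only [BlockBasic.omega, BlockBasic.chiLin, BlockBasic.coeff_resMap, MonoidAlgebra.coeff_sum,
    Finsupp.finsetSum_apply, MonoidAlgebra.coeff_smul_apply, smul_eq_mul, Finset.sum_mul]
  rw [Finset.sum_comm, Finset.sum_div]
  refine Finset.sum_congr rfl fun i _ => ?_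
  rw [← mul_div_assoc, Finset.mul_sum]
  simp only [mul_assoc]

/-- Every `p`-subgroup on the moved points lies in a defect group. -/
theorem exists_defectGroup_supp [hp : Fact p.Prime] {M : Ideal Cfsg.AlgInt}
    (hM : Cfsg.IsPModular p M)
    (hN : Fintype.card σ ≤ N) {κ : ℕ → ℕ} {B : Set (Cfsg.IrrCharacter (Equiv.Perm σ))}
    (hB : Cfsg.IsPBlock M B) (hBκ : B ⊆ resSet σ N p κ) {D : Subgroup (Equiv.Perm σ)}
    (hD : Cfsg.IsDefectGroup p M B D) (hzD : z ∈ D) (hz : orderOf z = p)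
    (Q : Subgroup (Equiv.Perm {a // z a ≠ a})) (hQ : IsPGroup p Q) :
    ∃ E, Cfsg.IsDefectGroup p M B E ∧
      Q.map ((join fun a => z a ≠ a).comp (MonoidHom.inl _ _)) ≤ E := by
  classical
  obtain ⟨b, hb, -⟩ := exists_local_block hM hN hB hBκ hD hzD hz
  obtain ⟨η, hη⟩ := BlockBasic.isPBlock_nonempty hM hb.1
  obtain ⟨χ, hχ⟩ := BlockBasic.isPBlock_nonempty hM hB
  have hzp : z ^ p = 1 := by rw [← hz, pow_orderOf_eq_one]
  set E₀ := (cycGroup z).subgroupOf (CZ z)
  have hE₀p : IsPGroup p E₀ := fun e => ⟨1, Subtype.ext (Subtype.ext (by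
    rw [pow_one]
    push_cast
    exact cycGroup_pow hzp (Subgroup.mem_subgroupOf.1 e.2)))⟩
  set e := BlockBasic.blockElem B
  have hec : BlockBasic.IsCentralElt e := BlockBasic.isCentralElt_blockElem B
  haveI : Fintype (ConjClasses (Equiv.Perm σ)) := Fintype.ofFinite _
  haveI : Fintype (ConjClasses (CZ z)) := Fintype.ofFinite _
  have hcongr : Cfsg.MemLocalIdeal M
      (BlockBasic.omega (η : CZ z → ℂ) (BlockBasic.resMap (CZ z) e) - 1) := by
    have h1 : BlockBasic.omega (χ : Equiv.Perm σ → ℂ) e = 1 := by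
      rw [BlockBasic.omega_blockElem, if_pos hχ]
    rw [← h1, BlockBasic.omega_eq_sum_classes (CharBasic.IsIrr.isClassFunction χ.2) hec]
    conv => arg 2; arg 1; rw [BlockBasic.eq_sum_classSum hec, resMap_linear_sum]
    rw [← Finset.sum_sub_distrib]
    refine BlockBasic.memLocalIdeal_sum hM _ _ fun C _ => ?_
    rw [← mul_sub, BlockBasic.omega_resMap_classSum]
    exact BlockBasic.memLocalIdeal_mul hM
      (by rw [BlockBasic.coeff_blockElem]; exact BlockBasic.memLocalRing_blockCoeff hM hB _)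
      (hb.2.2 η hη χ hχ _)
  rw [BlockBasic.omega_eq_sum_classes (CharBasic.IsIrr.isClassFunction η.2)
    (BlockBasic.isCentralElt_resMap hec)] at hcongr
  obtain ⟨C, hC⟩ : ∃ C : ConjClasses (CZ z), ¬ Cfsg.MemLocalIdeal M
      ((BlockBasic.resMap (CZ z) e).coeff C.out * Cfsg.centralChar (η : CZ z → ℂ) C.out) := by
    by_contra hcon
    push Not at hcon
    have h := BlockBasic.memLocalIdeal_sub hM
      (BlockBasic.memLocalIdeal_sum hM Finset.univ _ fun C _ => hcon C) hcongr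
    rw [sub_sub_cancel] at h
    exact BlockBasic.not_memLocalIdeal_one hM h
  rw [BlockBasic.coeff_resMap, BlockBasic.coeff_blockElem] at hC
  have hreg : ¬ p ∣ orderOf C.out := by
    intro h
    rw [← Subgroup.orderOf_coe] at h
    rw [BlockBasic.blockCoeff_eq_zero_of_singular hM hB h, zero_mul] at hC
    exact hC (BlockBasic.memLocalIdeal_zero hM)
  have hcen : C.out ∈ Subgroup.centralizer (E₀ : Set (CZ z)) := by
    by_contra h
    refine hC (BlockBasic.memLocalIdeal_mul hM (BlockBasic.memLocalRing_blockCoeff hM hB _) ?_)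
    exact BlockBasic.centralChar_mem_of_not_centralizer hM E₀ hE₀p η h
  obtain ⟨s, hs⟩ := exists_fixIncl_eq hzp C.out hreg fun x hx =>
    congrArg Subtype.val (Subgroup.mem_centralizer_iff.1 hcen ⟨x, cycGroup_le_CZ z hx⟩
      (Subgroup.mem_subgroupOf.2 hx))
  refine H35.exists_defectGroup_ge hM hB (h := (C.out : Equiv.Perm σ)) (fun h => hC ?_) _
    (hQ.map _) ?_
  · rw [mul_comm]
    exact BlockBasic.memLocalIdeal_mul hM (BlockBasic.memLocalRing_centralChar hM η.2 _) h
  · rintro _ ⟨q, -, rfl⟩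
    rw [Subgroup.mem_centralizer_singleton_iff, hs, coe_fixIncl]
    show join _ (q, 1) * join _ (1, s) = join _ (1, s) * join _ (q, 1)
    rw [← map_mul, ← map_mul]
    simp

end Cfsg.Agent.H15.SymBlocks
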