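import Cfsg.Agent.H15.SymBlocks.Rank

/-!
# Numbers of partitions and of sets with given excess
-/

set_option linter.unusedSectionVars false

namespace Cfsg.Agent.H15.SymBlocks

open Finset

/-- The partitions of `a`, as multisets of parts. -/
def partsSet (a : ℕ) : Finset (Multiset ℕ) :=
  (comps Unit a).image fun l => ((l.map Prod.snd : List ℕ) : Multiset ℕ)

theorem comps_spec {ι : Type} [Fintype ι] [DecidableEq ι] : ∀ (a : ℕ), ∀ l ∈ comps ι a,
    (∀ x ∈ l.map Prod.snd, 0 < x) ∧ (l.map Prod.snd).sum = a
  | 0, l, hl => by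
    simp only [comps, Finset.mem_singleton] at hl
    simp [hl]
  | a + 1, l, hl => by
    simp only [comps, Finset.mem_union] at hl
    rcases hl with hl | hl
    · obtain ⟨⟨i, t⟩, ht, rfl⟩ := Finset.mem_image.1 hl
      obtain ⟨h1, h2⟩ := comps_spec a t (Finset.mem_product.1 ht).2
      refine ⟨fun x hx => ?_, by simp [h2, add_comm]⟩
      simp only [List.map_cons, List.mem_cons] at hx
      rcases hx with rfl | hx
      exacts [one_pos, h1 x hx]
    · split_ifs at hl with ha
      · simp at hl
      · obtain ⟨t, ht, rfl⟩ := Finset.mem_image.1 hl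
        obtain ⟨h1, h2⟩ := comps_spec a t ht
        rcases t with _ | ⟨⟨i, k⟩, t⟩
        · exact absurd h2.symm ha
        · simp only [bump, List.map_cons, List.mem_cons, forall_eq_or_imp, List.sum_cons] at h1 h2 ⊢
          exact ⟨⟨k.succ_pos, h1.2⟩, by omega⟩

theorem mem_partsSet {a : ℕ} {m : Multiset ℕ} :
    m ∈ partsSet a ↔ (∀ x ∈ m, 0 < x) ∧ m.sum = a := by
  constructor
  · intro h
    obtain ⟨l, hl, rfl⟩ := Finset.mem_image.1 h
    simpa [Multiset.sum_coe] using comps_spec a l hl
  · induction m using Multiset.induction_on generalizing a with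
    | empty =>
      rintro ⟨-, rfl⟩
      exact Finset.mem_image.2 ⟨[], by simp [comps], rfl⟩
    | cons x m ih =>
      rintro ⟨h1, rfl⟩
      obtain ⟨l, hl, hlm⟩ := Finset.mem_image.1
        (ih ⟨fun y hy => h1 y (Multiset.mem_cons_of_mem hy), rfl⟩)
      have hx := h1 x (Multiset.mem_cons_self x m)
      refine Finset.mem_image.2 ⟨((), x - 1 + 1) :: l, ?_, ?_⟩
      · rw [Multiset.sum_cons, show x + m.sum = m.sum + (x - 1) + 1 by omega]
        exact cons_mem_comps () hl (x - 1)
      · rw [List.map_cons, ← Multiset.cons_coe, hlm, Nat.sub_add_cancel hx]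

/-- The number of partitions. -/
def nparts (a : ℕ) : ℕ := (partsSet a).card

/-- Raise the least part. -/
noncomputable def bumpMin (m : Multiset ℕ) : Multiset ℕ :=
  if h : m.toFinset.Nonempty then (m.toFinset.min' h + 1) ::ₘ m.erase (m.toFinset.min' h) else m

theorem nparts_succ_le (a : ℕ) : nparts (a + 1) ≤ 2 * nparts a := by
  classical
  have h : partsSet (a + 1) ⊆
      (partsSet a).image (fun m => 1 ::ₘ m) ∪ (partsSet a).image bumpMin := by
    intro m hm
    rw [mem_partsSet] at hm
    by_cases h1 : 1 ∈ m
    · refine Finset.mem_union_left _ (Finset.mem_image.2 ⟨m.erase 1, ?_, Multiset.cons_erase h1⟩)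
      refine mem_partsSet.2 ⟨fun x hx => hm.1 x (Multiset.mem_of_mem_erase hx), ?_⟩
      have := congrArg Multiset.sum (Multiset.cons_erase h1)
      rw [Multiset.sum_cons, hm.2] at this
      omega
    · have hne : m.toFinset.Nonempty := by
        rw [Finset.nonempty_iff_ne_empty]
        intro e
        have : m = 0 := Multiset.toFinset_eq_empty.1 e
        simp [this] at hm
      set x := m.toFinset.min' hne with hxdef
      have hxm : x ∈ m := Multiset.mem_toFinset.1 (Finset.min'_mem _ hne)
      have hx2 : 2 ≤ x := by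
        have := hm.1 x hxm
        have : x ≠ 1 := fun e => h1 (e ▸ hxm)
        omega
      refine Finset.mem_union_right _ (Finset.mem_image.2 ⟨(x - 1) ::ₘ m.erase x, ?_, ?_⟩)
      · refine mem_partsSet.2 ⟨fun y hy => ?_, ?_⟩
        · rcases Multiset.mem_cons.1 hy with rfl | hy
          · omega
          · exact hm.1 y (Multiset.mem_of_mem_erase hy)
        · have := congrArg Multiset.sum (Multiset.cons_erase hxm)
          rw [Multiset.sum_cons, hm.2] at this
          rw [Multiset.sum_cons]
          omega
      · have hne' : ((x - 1) ::ₘ m.erase x).toFinset.Nonempty := ⟨x - 1, by simp⟩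
        have hmin : ((x - 1) ::ₘ m.erase x).toFinset.min' hne' = x - 1 := by
          refine le_antisymm (Finset.min'_le _ _ (by simp)) (Finset.le_min' _ _ _ fun y hy => ?_)
          rcases Multiset.mem_cons.1 (Multiset.mem_toFinset.1 hy) with rfl | hy
          · exact le_rfl
          · exact (Nat.sub_le x 1).trans
              (Finset.min'_le _ _ (Multiset.mem_toFinset.2 (Multiset.mem_of_mem_erase hy)))
        rw [bumpMin, dif_pos hne', hmin, Multiset.erase_cons_head, Nat.sub_add_cancel (by omega),
          Multiset.cons_erase hxm]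
  refine (Finset.card_le_card h).trans ((Finset.card_union_le _ _).trans ?_)
  rw [two_mul]
  exact Nat.add_le_add Finset.card_image_le Finset.card_image_le

theorem nparts_zero : nparts 0 = 1 := rfl
theorem nparts_one : nparts 1 = 1 := by decide
theorem nparts_two : nparts 2 = 2 := by decide
theorem nparts_three : nparts 3 = 3 := by decide
theorem nparts_four : nparts 4 = 5 := by decide

theorem nparts_le_two_pow : ∀ a : ℕ, nparts a ≤ 2 ^ a
  | 0 => by rw [nparts_zero]; exact le_refl _
  | 1 => by rw [nparts_one]; norm_num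
  | a + 2 => by
    refine (nparts_succ_le _).trans ?_
    rw [pow_succ']
    exact Nat.mul_le_mul_left _ (nparts_le_two_pow (a + 1))

theorem nparts_succ_le_two_pow : ∀ a : ℕ, nparts (a + 1) ≤ 2 ^ a
  | 0 => by rw [nparts_one]; norm_num
  | a + 1 => by
    refine (nparts_succ_le _).trans ?_
    rw [pow_succ']
    exact Nat.mul_le_mul_left _ (nparts_succ_le_two_pow a)

theorem nparts_le_five_mul : ∀ a : ℕ, nparts (a + 4) ≤ 5 * 2 ^ a
  | 0 => by rw [nparts_four]; norm_num
  | a + 1 => by
    refine (nparts_succ_le _).trans ?_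
    rw [pow_succ']
    have := nparts_le_five_mul a
    omega

/-- The number of increasing tuples of a given degree is at most the number of partitions. -/
theorem card_monoTup_le (a k : ℕ) : (monoTup (Fin a) k).card ≤ nparts a := by
  classical
  let ψ : {γ // γ ∈ monoTup (Fin a) k} → Cfsg.IrrCharacter (Equiv.Perm (Fin a)) := fun γ =>
    (exists_irr_of_injective (mem_monoTup.1 γ.2).1 (mem_monoTup.1 γ.2).2.injective).choose
  have hψ : Function.Injective ψ := by
    intro γ β h
    by_contra hne
    obtain ⟨ε, hε, hγ⟩ :=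
      (exists_irr_of_injective (mem_monoTup.1 γ.2).1 (mem_monoTup.1 γ.2).2.injective).choose_spec
    obtain ⟨ε', hε', hβ⟩ :=
      (exists_irr_of_injective (mem_monoTup.1 β.2).1 (mem_monoTup.1 β.2).2.injective).choose_spec
    have h0 := classInner_chi_mono γ.2 β.2 (fun e => hne (Subtype.ext e))
    rw [hγ, hβ] at h0
    change ψ γ = ψ β at h
    change Cfsg.classInner (ε • (ψ γ : Equiv.Perm (Fin a) → ℂ)) (ε' • (ψ β : Equiv.Perm (Fin a) → ℂ)) = 0 at h0
    rw [h, CharBasic.classInner_smul_left, CharBasic.classInner_smul_right,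
      CharBasic.classInner_irr_self (ψ β).2, mul_one] at h0
    rcases mul_eq_zero.1 h0 with e | e
    · simp [e] at hε
    · rw [map_eq_zero] at e
      simp [e] at hε'
  have := CharBasic.finite_irrCharacter (G := Equiv.Perm (Fin a))
  have h1 := Nat.card_le_card_of_injective ψ hψ
  rw [CharBasic.card_irrCharacter, Nat.card_eq_fintype_card, Fintype.card_coe] at h1
  refine h1.trans ?_
  let F : ConjClasses (Equiv.Perm (Fin a)) → (partsSet a : Finset _) := fun C =>
    ⟨C.out.partition.parts, mem_partsSet.2
      ⟨fun x hx => C.out.partition.parts_pos hx,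
        C.out.partition.parts_sum.trans (Fintype.card_fin a)⟩⟩
  have hF : Function.Injective F := fun C D h => by
    have h' : IsConj C.out D.out :=
      Equiv.Perm.partition_eq_of_isConj.2 (Nat.Partition.ext (congrArg Subtype.val h))
    exact (Quotient.out_eq C).symm.trans ((ConjClasses.mk_eq_mk_iff_isConj.2 h').trans (Quotient.out_eq D))
  refine (Nat.card_le_card_of_injective F hF).trans ?_
  rw [Nat.card_eq_fintype_card, Fintype.card_coe, nparts]

/-- Excess of a set of natural numbers over the initial segment of the same size. -/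
def exc (A : Finset ℕ) : ℕ := ∑ q ∈ A, q - ∑ q ∈ Finset.range A.card, q

theorem sum_range_le_sum_set (A : Finset ℕ) :
    ∑ q ∈ Finset.range A.card, q ≤ ∑ q ∈ A, q := by
  have h := sum_stair_le (b := A.orderEmbOfFin rfl) (A.orderEmbOfFin rfl).injective
  simp only [stair] at h
  rw [Fin.sum_univ_eq_sum_range (fun q => q)] at h
  refine h.trans (le_of_eq ?_)
  conv_rhs => rw [← Finset.map_orderEmbOfFin_univ A rfl, Finset.sum_map]
  rfl

/-- Subsets of an initial segment with given size and excess. -/
def excSets (L k a : ℕ) : Finset (Finset ℕ) :=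
  (Finset.powersetCard k (Finset.range L)).filter fun A => exc A = a

theorem card_excSets_le (L k a : ℕ) : (excSets L k a).card ≤ nparts a := by
  classical
  let b : Finset ℕ → Fin k → ℕ := fun A =>
    if h : A.card = k then A.orderEmbOfFin h else fun _ => 0
  refine le_trans ?_ (card_monoTup_le a k)
  refine Finset.card_le_card_of_injOn b (fun A hA => ?_) ?_
  · rw [Finset.mem_coe, excSets, Finset.mem_filter, Finset.mem_powersetCard] at hA
    obtain ⟨⟨-, hk⟩, ha⟩ := hA
    rw [Finset.mem_coe, mem_monoTup, mem_tup]
    simp only [b, dif_pos hk]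
    refine ⟨?_, (A.orderEmbOfFin hk).strictMono⟩
    have h1 : ∑ i, A.orderEmbOfFin hk i = ∑ q ∈ A, q := by
      conv_rhs => rw [← Finset.map_orderEmbOfFin_univ A hk, Finset.sum_map]
      rfl
    have h2 := sum_range_le_sum_set A
    simp only [lvl, stair, Fintype.card_fin, Fin.sum_univ_eq_sum_range (fun q => q)]
    rw [h1, ← ha, exc, hk] at *
    omega
  · intro A hA A' hA' h
    rw [Finset.mem_coe, excSets, Finset.mem_filter, Finset.mem_powersetCard] at hA hA'
    simp only [b, dif_pos hA.1.2, dif_pos hA'.1.2] at h
    exact Finset.coe_injective ((A.range_orderEmbOfFin hA.1.2).symm.trans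
      ((congrArg Set.range h).trans (A'.range_orderEmbOfFin hA'.1.2)))

end Cfsg.Agent.H15.SymBlocks
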