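import Mathlib

/-!
# Alternants and the Jacobi-Trudi identity

Elementary polynomial identity behind the Frobenius character formula: the alternant with
exponents `γ` is the determinant of complete symmetric polynomials times the Vandermonde
alternant.
-/

namespace Cfsg.Agent.H15.SymBlocks

open MvPolynomial Matrix

variable {N : ℕ}

/-- Polynomial ring in `N` colours. -/
abbrev MP (N : ℕ) := MvPolynomial (Fin N) ℂ

/-- An exponent vector as a finitely supported function. -/
noncomputable def ev (γ : Fin N → ℕ) : Fin N →₀ ℕ := Finsupp.equivFunOnFinite.symm γ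

@[simp] theorem ev_apply (γ : Fin N → ℕ) (j : Fin N) : ev γ j = γ j := rfl

theorem ev_inj {γ γ' : Fin N → ℕ} : ev γ = ev γ' ↔ γ = γ' :=
  Finsupp.equivFunOnFinite.symm.injective.eq_iff

theorem ev_le {γ γ' : Fin N → ℕ} : ev γ ≤ ev γ' ↔ γ ≤ γ' := Iff.rfl

/-- The monomial with exponents `γ`. -/
noncomputable def mono (γ : Fin N → ℕ) : MP N := monomial (ev γ) 1

theorem mono_eq_prod (γ : Fin N → ℕ) : mono γ = ∏ j, X j ^ γ j := by
  rw [mono, monomial_eq, C_1, one_mul, Finsupp.prod_fintype _ _ fun _ => pow_zero _]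
  rfl

theorem coeff_mono (γ β : Fin N → ℕ) :
    coeff (ev β) (mono γ) = if γ = β then 1 else 0 := by
  classical
  rw [mono, coeff_monomial]
  simp only [ev_inj]

/-- Geometric series in a variable. -/
noncomputable def geo (a : MP N) : PowerSeries (MP N) := PowerSeries.mk fun m => a ^ m

theorem one_sub_mul_geo (a : MP N) :
    (1 - PowerSeries.C a * PowerSeries.X) * geo a = 1 := by
  refine PowerSeries.ext fun m => ?_
  rcases m with _ | m
  · simp [geo]
  · rw [sub_mul, one_mul, map_sub, mul_assoc, PowerSeries.coeff_C_mul,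
      PowerSeries.coeff_succ_X_mul, geo, PowerSeries.coeff_mk, PowerSeries.coeff_mk,
      PowerSeries.coeff_one, if_neg m.succ_ne_zero, ← pow_succ', sub_self]

/-- Complete symmetric polynomial. -/
noncomputable def hpol (N m : ℕ) : MP N := PowerSeries.coeff m (∏ j : Fin N, geo (X j))

theorem hpol_eq (N m : ℕ) :
    hpol N m = ∑ v ∈ Finset.univ.finsuppAntidiag m, monomial v (1 : ℂ) := by
  classical
  rw [hpol, PowerSeries.coeff_prod]
  refine Finset.sum_congr rfl fun v _ => ?_
  rw [monomial_eq, C_1, one_mul, Finsupp.prod_fintype _ _ fun _ => pow_zero _]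
  exact Finset.prod_congr rfl fun j _ => PowerSeries.coeff_mk _ _

theorem hpol_zero (N : ℕ) : hpol N 0 = 1 := by
  rw [hpol, PowerSeries.coeff_zero_eq_constantCoeff_apply, map_prod]
  refine Finset.prod_eq_one fun j _ => ?_
  rw [geo, PowerSeries.constantCoeff_mk, pow_zero]

/-- The product omitting one colour. -/
noncomputable def omitOne (l : Fin N) : Polynomial (MP N) :=
  ∏ k ∈ Finset.univ.erase l, (1 - Polynomial.C (X k) * Polynomial.X)

theorem natDegree_omitOne (l : Fin N) : (omitOne l).natDegree < N := by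
  refine lt_of_le_of_lt (Polynomial.natDegree_prod_le _ _) ?_
  calc ∑ k ∈ Finset.univ.erase l, (1 - Polynomial.C (X k) * Polynomial.X : Polynomial (MP N)).natDegree
      ≤ ∑ _k ∈ Finset.univ.erase l, 1 := Finset.sum_le_sum fun k _ => by
        refine (Polynomial.natDegree_sub_le _ _).trans (max_le (by simp) ?_)
        exact (Polynomial.natDegree_C_mul_le _ _).trans Polynomial.natDegree_X_le
    _ < N := by
        rw [Finset.sum_const, smul_eq_mul, mul_one, Finset.card_erase_of_mem (Finset.mem_univ l),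
          Finset.card_univ, Fintype.card_fin]
        have := l.isLt
        omega

theorem omitOne_mul (l : Fin N) :
    (omitOne l : PowerSeries (MP N)) * ∏ j : Fin N, geo (X j) = geo (X l) := by
  rw [omitOne, ← Polynomial.coeToPowerSeries.ringHom_apply, map_prod,
    ← Finset.mul_prod_erase Finset.univ (fun j => geo (X j)) (Finset.mem_univ l),
    mul_left_comm, ← Finset.prod_mul_distrib, Finset.prod_eq_one, mul_one]
  intro k _
  simp only [map_sub, map_one, map_mul, Polynomial.coeToPowerSeries.ringHom_apply,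
    Polynomial.coe_C, Polynomial.coe_X]
  exact one_sub_mul_geo _

/-- The Jacobi-Trudi matrix. -/
noncomputable def hMat (γ : Fin N → ℕ) : Matrix (Fin N) (Fin N) (MP N) :=
  Matrix.of fun i j => if (j : ℕ) ≤ γ i then hpol N (γ i - j) else 0

/-- The power matrix. -/
noncomputable def powMat (γ : Fin N → ℕ) : Matrix (Fin N) (Fin N) (MP N) :=
  Matrix.of fun i l => X l ^ γ i

/-- The coefficients of `omitOne`. -/
noncomputable def eMat (N : ℕ) : Matrix (Fin N) (Fin N) (MP N) :=
  Matrix.of fun j l => (omitOne l).coeff j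

theorem hMat_mul_eMat (γ : Fin N → ℕ) : hMat γ * eMat N = powMat γ := by
  ext1 i l
  simp only [Matrix.mul_apply, hMat, eMat, powMat, Matrix.of_apply]
  have h : PowerSeries.coeff (γ i) ((omitOne l : PowerSeries (MP N)) * ∏ j : Fin N, geo (X j)) =
      X l ^ γ i := by
    rw [omitOne_mul, geo, PowerSeries.coeff_mk]
  rw [← h]
  conv_rhs => rw [(omitOne l).as_sum_range' N (natDegree_omitOne l),
    ← Polynomial.coeToPowerSeries.ringHom_apply, map_sum, Finset.sum_mul, map_sum,
    ← Fin.sum_univ_eq_sum_range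
      (fun j => PowerSeries.coeff (γ i) (Polynomial.coeToPowerSeries.ringHom
        (Polynomial.monomial j ((omitOne l).coeff j)) * ∏ j : Fin N, geo (X j)))]
  refine Finset.sum_congr rfl fun j _ => ?_
  rw [Polynomial.coeToPowerSeries.ringHom_apply, ← Polynomial.C_mul_X_pow_eq_monomial,
    Polynomial.coe_mul, Polynomial.coe_C, Polynomial.coe_pow, Polynomial.coe_X, mul_assoc,
    PowerSeries.coeff_C_mul, PowerSeries.coeff_X_pow_mul', mul_ite, mul_zero, ite_mul, zero_mul]
  exact ite_congr rfl (fun _ => mul_comm _ _) fun _ => rfl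

/-- The alternant. -/
noncomputable def alt (γ : Fin N → ℕ) : MP N := (powMat γ).det

theorem alt_eq (γ : Fin N → ℕ) :
    alt γ = ∑ σ : Equiv.Perm (Fin N), Equiv.Perm.sign σ • mono (γ ∘ σ) := by
  rw [alt, Matrix.det_apply]
  exact Finset.sum_congr rfl fun σ _ => by rw [mono_eq_prod]; rfl

/-- The staircase. -/
def stair (N : ℕ) : Fin N → ℕ := fun j => (j : ℕ)

/-- The Vandermonde alternant. -/
noncomputable def vand (N : ℕ) : MP N := alt (stair N)

theorem det_hMat_stair (N : ℕ) : (hMat (stair N)).det = 1 := by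
  rw [Matrix.det_of_isLowerTriangular _ (fun i j hij => ?_)]
  · refine Finset.prod_eq_one fun i _ => ?_
    simp [hMat, stair, hpol_zero]
  · have h' : ¬ j ≤ i := by simpa using hij
    simp [hMat, stair, h']

/-- **Jacobi-Trudi.** -/
theorem alt_eq_det_mul (γ : Fin N → ℕ) : alt γ = (hMat γ).det * vand N := by
  have h1 : alt γ = (hMat γ).det * (eMat N).det := by rw [alt, ← hMat_mul_eMat, Matrix.det_mul]
  have h2 : vand N = (eMat N).det := by
    rw [vand, alt, ← hMat_mul_eMat, Matrix.det_mul, det_hMat_stair, one_mul]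
  rw [h1, h2]

theorem coeff_alt (γ β : Fin N → ℕ) :
    coeff (ev β) (alt γ) =
      ∑ σ : Equiv.Perm (Fin N), if γ ∘ σ = β then ((Equiv.Perm.sign σ : ℤ) : ℂ) else 0 := by
  rw [alt_eq, coeff_sum]
  refine Finset.sum_congr rfl fun σ _ => ?_
  rw [Units.smul_def, coeff_smul, coeff_mono, zsmul_eq_mul]
  split_ifs <;> simp

theorem coeff_alt_self {γ : Fin N → ℕ} (hγ : Function.Injective γ) :
    coeff (ev γ) (alt γ) = 1 := by
  rw [coeff_alt, Finset.sum_eq_single 1 (fun σ _ hσ => if_neg fun h => hσ ?_)
    (fun h => absurd (Finset.mem_univ _) h)]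
  · simp
  · exact Equiv.ext fun j => hγ (congrFun h j)

theorem coeff_alt_eq_zero {γ β : Fin N → ℕ}
    (h : ∀ σ : Equiv.Perm (Fin N), γ ∘ σ ≠ β) : coeff (ev β) (alt γ) = 0 := by
  rw [coeff_alt]
  exact Finset.sum_eq_zero fun σ _ => if_neg (h σ)

theorem rename_vand (τ : Equiv.Perm (Fin N)) :
    rename τ (vand N) = Equiv.Perm.sign τ • vand N := by
  have h : (powMat (stair N)).map (rename τ : MP N →ₐ[ℂ] MP N) =
      (powMat (stair N)).submatrix id τ := by
    ext1 i l
    simp [powMat]
  rw [vand, alt, AlgHom.map_det, AlgHom.mapMatrix_apply, h, Matrix.det_permute', Units.smul_def,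
    zsmul_eq_mul]

theorem vand_ne_zero (N : ℕ) : vand N ≠ 0 := fun h => by
  have h1 := coeff_alt_self (γ := stair N) Fin.val_injective
  rw [vand] at h
  rw [h, coeff_zero] at h1
  exact zero_ne_one h1

end Cfsg.Agent.H15.SymBlocks
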