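import Cfsg.Agent.H15.SymBlocks.Split

/-!
# Weighted products of power sums

`InS f w P` says that `P` is a combination of products of `f i k` of total weight `w`.  Alternants
are the Vandermonde alternant times such combinations of power sums.
-/

set_option linter.unusedSectionVars false

namespace Cfsg.Agent.H15.SymBlocks

open MvPolynomial Finset
open scoped Nat

/-- Combinations of weighted products of a family. -/
inductive InS {A ι : Type} [CommRing A] [Algebra ℂ A] (f : ι → ℕ → A) : ℕ → A → Prop
  | one : InS f 0 1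
  | mul {i : ι} {k w : ℕ} {P : A} : 0 < k → InS f w P → InS f (k + w) (f i k * P)
  | add {w : ℕ} {P Q : A} : InS f w P → InS f w Q → InS f w (P + Q)
  | zero {w : ℕ} : InS f w 0
  | smul {w : ℕ} (c : ℂ) {P : A} : InS f w P → InS f w (c • P)

section InS

variable {A ι : Type} [CommRing A] [Algebra ℂ A] {f : ι → ℕ → A}

theorem InS.mul' {a b : ℕ} {P Q : A} (hP : InS f a P) (hQ : InS f b Q) :
    InS f (a + b) (P * Q) := by
  induction hP with
  | one => rwa [Nat.zero_add, one_mul]
  | @mul i k w P hk _ ih => rw [Nat.add_assoc, mul_assoc]; exact InS.mul hk ih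
  | add _ _ ih1 ih2 => rw [add_mul]; exact ih1.add ih2
  | zero => rw [zero_mul]; exact InS.zero
  | smul c _ ih => rw [smul_mul_assoc]; exact ih.smul c

theorem InS.sum {κ : Type*} {w : ℕ} (s : Finset κ) (g : κ → A) (h : ∀ i ∈ s, InS f w (g i)) :
    InS f w (∑ i ∈ s, g i) :=
  Finset.sum_induction g (InS f w) (fun _ _ => InS.add) InS.zero h

theorem InS.prod {κ : Type*} (s : Finset κ) (a : κ → ℕ) (g : κ → A)
    (h : ∀ i ∈ s, InS f (a i) (g i)) : InS f (∑ i ∈ s, a i) (∏ i ∈ s, g i) := by
  classical
  induction s using Finset.induction_on with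
  | empty => exact InS.one
  | insert j s hj ih =>
    rw [Finset.sum_insert hj, Finset.prod_insert hj]
    exact (h j (Finset.mem_insert_self j s)).mul' (ih fun i hi => h i (Finset.mem_insert_of_mem hi))

theorem InS.map {B κ : Type} [CommRing B] [Algebra ℂ B] {g : κ → ℕ → B} (F : A →ₐ[ℂ] B)
    (h : ι → κ) (hf : ∀ i k, F (f i k) = g (h i) k) {w : ℕ} {P : A} (hP : InS f w P) :
    InS g w (F P) := by
  induction hP with
  | one => rw [map_one]; exact InS.one
  | mul hk _ ih => rw [map_mul, hf]; exact InS.mul hk ih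
  | add _ _ ih1 ih2 => rw [map_add]; exact ih1.add ih2
  | zero => rw [map_zero]; exact InS.zero
  | smul c _ ih => rw [map_smul]; exact ih.smul c

end InS

variable {σ : Type} [Fintype σ] [DecidableEq σ] {N : ℕ}

/-- Power sum. -/
noncomputable def psum' (N k : ℕ) : MP N := ∑ j, mono (Pi.single j k)

theorem mono_single (j : Fin N) (k : ℕ) : mono (Pi.single j k) = X j ^ k := by
  rw [mono_eq_prod, Finset.prod_eq_single_of_mem j (Finset.mem_univ j)]
  · rw [Pi.single_eq_same]
  · intro b _ hb
    rw [Pi.single_eq_of_ne hb, pow_zero]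

theorem psum'_eq (N k : ℕ) : psum' N k = ∑ j : Fin N, X j ^ k :=
  Finset.sum_congr rfl fun j _ => mono_single j k

theorem pgen_transitive (g : Equiv.Perm σ) (i₀ : σ) (h : ∀ a, g.SameCycle i₀ a) :
    pgen N g = psum' N (Fintype.card σ) := by
  refine Finset.sum_nbij' (fun f => f i₀) (fun j _ => j) ?_ ?_ ?_ ?_ ?_
  · intro f _; simp
  · intro j _
    rw [mem_fixCol]
    rfl
  · intro f hf
    rw [mem_fixCol] at hf
    funext a
    obtain ⟨k, hk⟩ := (h a).exists_nat_pow_eq
    have hpow : ∀ m : ℕ, f ∘ ⇑(g ^ m) = f := fun m => by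
      induction m with
      | zero => rfl
      | succ m ih => rw [pow_succ, Equiv.Perm.coe_mul, ← Function.comp_assoc, ih, hf]
    rw [← hk]
    exact (congrFun (hpow k) i₀).symm
  · intro j _; rfl
  · intro f hf
    rw [mem_fixCol] at hf
    congr 1
    have hf' : ∀ a, f a = f i₀ := by
      intro a
      obtain ⟨k, hk⟩ := (h a).exists_nat_pow_eq
      have hpow : ∀ m : ℕ, f ∘ ⇑(g ^ m) = f := fun m => by
        induction m with
        | zero => rfl
        | succ m ih => rw [pow_succ, Equiv.Perm.coe_mul, ← Function.comp_assoc, ih, hf]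
      rw [← hk]
      exact congrFun (hpow k) i₀
    funext c
    by_cases hc : c = f i₀
    · subst hc
      simp [cnt, hf']
    · simp [cnt, hf', hc, Ne.symm hc]

/-- `pgen` is a product of power sums. -/
theorem inS_pgen (N : ℕ) : ∀ (n : ℕ) (σ : Type) [Fintype σ] [DecidableEq σ], Fintype.card σ = n →
    ∀ g : Equiv.Perm σ, InS (fun (_ : Unit) k => psum' N k) n (pgen N g) := by
  intro n
  induction n using Nat.strong_induction_on with
  | _ n ih =>
    intro σ _ _ hn g
    classical
    rcases isEmpty_or_nonempty σ with he | ⟨⟨i₀⟩⟩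
    · have h0 : n = 0 := by rw [← hn, Fintype.card_eq_zero]
      have h1 : pgen N g = 1 := by
        rw [pgen, Finset.sum_eq_single_of_mem (isEmptyElim : σ → Fin N)
          (mem_fixCol.2 (_root_.funext fun a => isEmptyElim a))
          (fun f _ hf => absurd (_root_.funext fun a => isEmptyElim a) hf)]
        rw [mono_eq_prod]
        simp [cnt]
      rw [h0, h1]
      exact InS.one
    · let P : σ → Prop := fun a => g.SameCycle i₀ a
      have hP : ∀ a, P (g a) ↔ P a := fun a => Equiv.Perm.sameCycle_apply_right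
      let u : Equiv.Perm {a // P a} := g.subtypePerm hP
      let s : Equiv.Perm {a // ¬ P a} := g.subtypePerm (p := fun a => ¬ P a) fun a => not_congr (hP a)
      have hg : g = (Equiv.sumCompl P).permCongr (Equiv.sumCongr u s) := by
        ext a
        by_cases h : P a
        · rw [Equiv.permCongr_apply, Equiv.sumCompl_symm_apply_of_pos (p := P) h]
          rfl
        · rw [Equiv.permCongr_apply, Equiv.sumCompl_symm_apply_of_neg (p := P) h]
          rfl
      have hu : pgen N u = psum' N (Fintype.card {a // P a}) :=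
        pgen_transitive u ⟨i₀, Equiv.Perm.SameCycle.refl g i₀⟩ fun a =>
          (Equiv.Perm.sameCycle_subtypePerm).2 a.2
      have hpos : 0 < Fintype.card {a // P a} :=
        Fintype.card_pos_iff.2 ⟨⟨i₀, Equiv.Perm.SameCycle.refl g i₀⟩⟩
      have hcard : Fintype.card {a // P a} + Fintype.card {a // ¬ P a} = n := by
        rw [← Fintype.card_sum, Fintype.card_congr (Equiv.sumCompl P), hn]
      rw [hg, pgen_permCongr, pgen_sumCongr, hu, ← hcard]
      exact InS.mul (i := ()) hpos (ih _ (by omega) _ rfl s)

theorem sum_stair_le {m : ℕ} {b : Fin m → ℕ} (hb : Function.Injective b) :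
    ∑ i, stair m i ≤ ∑ i, b i := by
  induction m with
  | zero => simp
  | succ m ih =>
    obtain ⟨i, hi⟩ : ∃ i, m ≤ b i := by
      by_contra hc
      push Not at hc
      have := Fintype.card_le_of_injective (fun i => (⟨b i, hc i⟩ : Fin m))
        fun a c h => hb (congrArg Fin.val h)
      simp at this
    rw [Fin.sum_univ_succAbove b i, Fin.sum_univ_castSucc]
    have h2 := ih (b := fun j => b (i.succAbove j)) (hb.comp Fin.succAbove_right_injective)
    simp only [stair, Fin.val_castSucc, Fin.val_last] at h2 ⊢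
    omega

/-- An alternant is the Vandermonde alternant times a combination of products of power sums. -/
theorem exists_alt_eq_vand_mul {m : ℕ} {b : Fin m → ℕ} (hb : Function.Injective b) :
    ∃ P, InS (fun (_ : Unit) k => psum' m k) (∑ i, b i - ∑ i, stair m i) P ∧
      alt b = vand m * P := by
  set a := ∑ i, b i - ∑ i, stair m i with ha
  have hle := sum_stair_le hb
  have hb' : b ∈ tup m (lvl m (Fintype.card (Fin a))) := by
    rw [mem_tup, lvl, Fintype.card_fin]
    omega
  refine ⟨((Fintype.card (Fin a))! : ℂ)⁻¹ • ∑ g : Equiv.Perm (Fin a), chi m b g • pgen m g,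
    InS.smul _ (InS.sum _ _ fun g _ =>
      InS.smul _ (inS_pgen m a (Fin a) (Fintype.card_fin a) g)), ?_⟩
  rw [mul_smul_comm, Finset.mul_sum, Finset.sum_congr rfl fun g _ => mul_smul_comm _ (vand m) _,
    sum_chi_smul hb', ← Nat.cast_smul_eq_nsmul ℂ, smul_smul,
    inv_mul_cancel₀ (Nat.cast_ne_zero.2 (Nat.factorial_ne_zero _)), one_smul]

section Sigma

variable {ι : Type} [Fintype ι] [DecidableEq ι] {κ : ι → Type} [∀ i, Fintype (κ i)]
  [∀ i, DecidableEq (κ i)]

theorem sigmaCongrRight_mulSingle_swap (a : ι) (x y : κ a) :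
    Equiv.Perm.sigmaCongrRightHom κ (Pi.mulSingle a (Equiv.swap x y)) =
      Equiv.swap ⟨a, x⟩ ⟨a, y⟩ := by
  ext1 ⟨b, z⟩
  show (⟨b, (Pi.mulSingle a (Equiv.swap x y) : ∀ i, Equiv.Perm (κ i)) b z⟩ : Σ i, κ i) = _
  by_cases hb : b = a
  · subst hb
    rw [Pi.mulSingle_eq_same]
    exact (sigma_mk_injective.swap_apply x y z).symm
  · rw [Pi.mulSingle_eq_of_ne hb, Equiv.Perm.one_apply, Equiv.swap_apply_of_ne_of_ne]
    · exact fun h => hb (congrArg Sigma.fst h)
    · exact fun h => hb (congrArg Sigma.fst h)

theorem sign_sigmaCongrRight_mulSingle (a : ι) (g : Equiv.Perm (κ a)) :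
    Equiv.Perm.sign (Equiv.Perm.sigmaCongrRightHom κ (Pi.mulSingle a g)) = Equiv.Perm.sign g := by
  induction g using Equiv.Perm.swap_induction_on with
  | one => simp
  | swap_mul f x y hne ih =>
    rw [Pi.mulSingle_mul, map_mul, map_mul, map_mul, ih, sigmaCongrRight_mulSingle_swap,
      Equiv.Perm.sign_swap hne, Equiv.Perm.sign_swap (fun h => hne (sigma_mk_injective h))]

theorem sign_sigmaCongrRight' (f : ∀ i, Equiv.Perm (κ i)) :
    Equiv.Perm.sign (Equiv.Perm.sigmaCongrRightHom κ f) = ∏ i, Equiv.Perm.sign (f i) := by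
  have h : ∀ s : Finset ι,
      Equiv.Perm.sign (Equiv.Perm.sigmaCongrRightHom κ fun i => if i ∈ s then f i else 1) =
        ∏ i ∈ s, Equiv.Perm.sign (f i) := by
    intro s
    induction s using Finset.induction_on with
    | empty =>
      simp only [Finset.notMem_empty, if_false, Finset.prod_empty]
      exact (congrArg _ (map_one _)).trans (map_one _)
    | insert a s ha ih =>
      have he : (fun i => if i ∈ insert a s then f i else 1) =
          Pi.mulSingle a (f a) * fun i => if i ∈ s then f i else 1 := by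
        funext i
        by_cases hi : i = a
        · subst hi
          simp [ha]
        · simp [hi]
      rw [he, map_mul, map_mul, sign_sigmaCongrRight_mulSingle, ih, Finset.prod_insert ha]
  simpa using h univ

end Sigma

end Cfsg.Agent.H15.SymBlocks
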