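import Cfsg.Agent.H15.SymBlocks.Residue
import Cfsg.Agent.H15.SymBlocks.PowerSums
import Cfsg.Prelude.Def_BlockRank

/-!
# The `p`-regular rank of a residue set

For weight `w > 0` the characters `chi γ` with given residue vector span, on the `p`-regular
elements, a space of dimension at most `(p - 1) * p ^ (w - 1)`.
-/

set_option linter.unusedSectionVars false

namespace Cfsg.Agent.H15.SymBlocks

open MvPolynomial Finset
open scoped Nat

variable {σ : Type} [Fintype σ] [DecidableEq σ] {N p : ℕ}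

/-- Raise the first part of a composition. -/
def bump {ι : Type} : List (ι × ℕ) → List (ι × ℕ)
  | [] => []
  | (i, k) :: l => (i, k + 1) :: l

/-- Labelled compositions. -/
def comps (ι : Type) [Fintype ι] [DecidableEq ι] : ℕ → Finset (List (ι × ℕ))
  | 0 => {[]}
  | w + 1 => (univ ×ˢ comps ι w).image (fun x => (x.1, 1) :: x.2) ∪
      if w = 0 then ∅ else (comps ι w).image bump

theorem cons_mem_comps {ι : Type} [Fintype ι] [DecidableEq ι] (i : ι) {w : ℕ}
    {l : List (ι × ℕ)} (h : l ∈ comps ι w) : ∀ k : ℕ, (i, k + 1) :: l ∈ comps ι (w + k + 1)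
  | 0 => Finset.mem_union_left _ (Finset.mem_image.2 ⟨(i, l), by simp [h], rfl⟩)
  | k + 1 => by
    refine Finset.mem_union_right _ ?_
    rw [if_neg (show w + (k + 1) ≠ 0 by omega)]
    exact Finset.mem_image.2 ⟨(i, k + 1) :: l, cons_mem_comps i h k, rfl⟩

theorem card_comps {ι : Type} [Fintype ι] [DecidableEq ι] :
    ∀ w : ℕ, (comps ι (w + 1)).card ≤ Fintype.card ι * (Fintype.card ι + 1) ^ w
  | 0 => by
    simp only [comps, if_true, Finset.union_empty, pow_zero, mul_one]
    refine Finset.card_image_le.trans ?_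
    simp
  | w + 1 => by
    rw [comps, if_neg w.succ_ne_zero]
    refine (Finset.card_union_le _ _).trans ?_
    refine (Nat.add_le_add Finset.card_image_le Finset.card_image_le).trans ?_
    rw [Finset.card_product, Finset.card_univ]
    calc Fintype.card ι * (comps ι (w + 1)).card + (comps ι (w + 1)).card
        = (Fintype.card ι + 1) * (comps ι (w + 1)).card := by ring
      _ ≤ (Fintype.card ι + 1) * (Fintype.card ι * (Fintype.card ι + 1) ^ w) :=
          Nat.mul_le_mul_left _ (card_comps w)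
      _ = Fintype.card ι * (Fintype.card ι + 1) ^ (w + 1) := by ring

theorem exists_lowered (hp : 0 < p) {γ : Fin N → ℕ} (hi : Function.Injective γ) :
    ∃ β : Fin N → ℕ, Function.Injective β ∧ rcnt p β = rcnt p γ ∧
      ∑ j, γ j = ∑ j, β j + p * wt p γ := by
  induction h : qsum p γ using Nat.strong_induction_on generalizing γ with
  | _ q ih =>
    by_cases hw : wt p γ = 0
    · exact ⟨γ, hi, rfl, by rw [hw, mul_zero, add_zero]⟩
    obtain ⟨j, hj, hinj⟩ := exists_lower hp hi (by
      have := qsum_eq_core_add_wt hp hi; omega)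
    have hk : ∀ k, γ k ≠ γ j - p := by
      intro k hk
      by_cases hkj : k = j
      · subst hkj; omega
      · refine hkj (hinj ?_)
        simp [lower, hkj, hk]
    obtain ⟨h1, h2, heq, h4⟩ := lower_spec hp hi hj hk
    obtain ⟨β, hb1, hb2, hb3⟩ := ih _ (by omega) h1 rfl
    refine ⟨β, hb1, hb2.trans h2, ?_⟩
    have hwt : wt p γ = wt p (lower p γ j) + 1 := by
      have e1 := qsum_eq_core_add_wt hp hi
      have e2 := qsum_eq_core_add_wt hp h1
      rw [h2] at e2
      omega
    have hs : ∑ k, γ k = ∑ k, lower p γ j k + p := by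
      conv_lhs => rw [heq]
      simp [Finset.sum_add_distrib]
    rw [hs, hb3, hwt]
    ring

theorem mul_wt_le (hp : 0 < p) {γ : Fin N → ℕ} (hγ : γ ∈ tup N (lvl N (Fintype.card σ)))
    (hi : Function.Injective γ) : p * wt p γ ≤ Fintype.card σ := by
  obtain ⟨β, hb, -, hs⟩ := exists_lowered hp hi
  rw [mem_tup, lvl] at hγ
  have := sum_stair_le hb
  omega

theorem sum_chi_add_single_eq_zero [hp : Fact p.Prime] (hN : Fintype.card σ ≤ N) {k : ℕ}
    (hk : 0 < k) (hkn : p * k ≤ Fintype.card σ) {x : Equiv.Perm σ} (hx : ¬ p ∣ orderOf x)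
    (γ' : Fin N → ℕ) : ∑ j, chi N (γ' + Pi.single j (p * k)) x = 0 := by
  classical
  obtain ⟨m, hm⟩ : ∃ m, p * k = m + 1 :=
    ⟨p * k - 1, by have := Nat.mul_pos hp.out.pos hk; omega⟩
  set r := Fintype.card σ - p * k with hr
  by_cases hγ : γ' ∈ tup N (lvl N r)
  swap
  · refine Finset.sum_eq_zero fun j _ => chi_eq_zero (fun h => hγ ?_) x
    rw [mem_tup] at h ⊢
    rw [lvl] at h ⊢
    simp only [Pi.add_apply, Finset.sum_add_distrib, Finset.sum_pi_single', Finset.mem_univ,
      if_true] at h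
    omega
  have hcard : Fintype.card (Fin (m + 1) ⊕ Fin r) = Fintype.card σ := by
    rw [Fintype.card_sum, Fintype.card_fin, Fintype.card_fin]
    omega
  let e : (Fin (m + 1) ⊕ Fin r) ≃ σ := Fintype.equivOfCardEq hcard
  obtain ⟨x', rfl⟩ : ∃ x', x = e.permCongr x' :=
    ⟨e.symm.permCongr x, by ext a; simp [Equiv.permCongr_apply]⟩
  have hxo : ¬ p ∣ orderOf x' := by
    rwa [show orderOf (e.permCongr x') = orderOf x' from
      MulEquiv.orderOf_eq e.permCongrHom x'] at hx
  simp only [chi_permCongr]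
  rw [hm, ← sum_fixCol_finRotate m (fun c => chi N (γ' + c) x')]
  refine sum_fixCol_chi_eq_zero (hcard ▸ hN) _
    (not_isConj_sumCongr (dvd_orderOf_finRotate ?_) hxo) (by rwa [Fintype.card_fin])
  rw [← hm]
  exact dvd_mul_right p k

section Phi

variable (σ N p)

/-- Restriction of `chi γ` to the `p`-regular elements. -/
noncomputable def regChi (γ : Fin N → ℕ) : Equiv.Perm σ → ℂ := Cfsg.pRegularPart p (chi N γ)

/-- The monomial `q` goes to the character of `r + p q`. -/
noncomputable def phi (r : Fin N → ℕ) : MP N →ₗ[ℂ] (Equiv.Perm σ → ℂ) :=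
  (MvPolynomial.basisMonomials (Fin N) ℂ).constr ℂ
    fun d => regChi σ N p fun j => r j + p * d j

variable {σ N p}

theorem phi_mono (r q : Fin N → ℕ) :
    phi σ N p r (mono q) = regChi σ N p fun j => r j + p * q j := by
  have h : mono q = MvPolynomial.basisMonomials (Fin N) ℂ (ev q) := by
    rw [MvPolynomial.coe_basisMonomials]
    rfl
  rw [h, phi, Module.Basis.constr_basis]
  rfl

theorem phi_mono_comp (r : Fin N → ℕ) {π : Equiv.Perm (Fin N)} (hπ : ∀ j, r (π j) = r j)
    (q : Fin N → ℕ) :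
    phi σ N p r (mono (q ∘ π)) = ((Equiv.Perm.sign π : ℤ) : ℂ) • phi σ N p r (mono q) := by
  rw [phi_mono, phi_mono]
  funext g
  have h : (fun j => r j + p * (q ∘ π) j) = (fun j => r j + p * q j) ∘ π :=
    _root_.funext fun j => by simp [hπ]
  rw [h, Pi.smul_apply, smul_eq_mul]
  simp only [regChi, Cfsg.pRegularPart, chi_comp]
  split_ifs <;> simp

theorem phi_psum_mul [Fact p.Prime] (hN : Fintype.card σ ≤ N) (r : Fin N → ℕ) {k : ℕ} (hk : 0 < k)
    (hkn : p * k ≤ Fintype.card σ) (Q : MP N) : phi σ N p r (psum' N k * Q) = 0 := by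
  suffices h : (phi σ N p r) ∘ₗ (LinearMap.mulLeft ℂ (psum' N k)) = 0 by
    simpa using LinearMap.congr_fun h Q
  refine (MvPolynomial.basisMonomials (Fin N) ℂ).ext fun d => ?_
  have hd : (MvPolynomial.basisMonomials (Fin N) ℂ) d = mono (fun j => d j) := by
    rw [MvPolynomial.coe_basisMonomials, mono]
    congr 2
    ext j
    simp
  rw [LinearMap.comp_apply, LinearMap.mulLeft_apply, LinearMap.zero_apply, hd, psum',
    Finset.sum_mul, map_sum]
  funext g
  rw [Finset.sum_apply, Pi.zero_apply]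
  simp only [mono_mul, phi_mono, regChi, Cfsg.pRegularPart]
  by_cases hg : Cfsg.IsPRegular p g
  · simp only [if_pos hg]
    rw [← sum_chi_add_single_eq_zero hN hk hkn hg fun j => r j + p * d j]
    refine Finset.sum_congr rfl fun j _ => ?_
    congr 1
    funext i
    simp only [Pi.add_apply, mul_add]
    by_cases hij : i = j
    · subst hij; simp only [Pi.single_eq_same]; ring
    · simp [Pi.single_eq_of_ne hij]
  · simp [if_neg hg]

end Phi

section Pattern

variable (ρ : Fin N → Fin p)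

/-- Power sum over one residue class. -/
noncomputable def bpsum (i : Fin p) (k : ℕ) : MP N := ∑ j with ρ j = i, X j ^ k

theorem sum_bpsum (k : ℕ) : ∑ i, bpsum ρ i k = psum' N k := by
  rw [psum'_eq]
  exact Finset.sum_fiberwise _ _ _

theorem exists_kill [Fact p.Prime] (hN : Fintype.card σ ≤ N) (i₀ : Fin p) (r : Fin N → ℕ) {W : ℕ}
    (hW : p * W ≤ Fintype.card σ) {w : ℕ} {P : MP N} (hP : InS (bpsum ρ) w P) (hw : w ≤ W) :
    ∃ T, T ∈ Submodule.span ℂ ((fun l : List ({i : Fin p // i ≠ i₀} × ℕ) =>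
        (l.map fun x => bpsum ρ x.1.1 x.2).prod) '' (comps {i : Fin p // i ≠ i₀} w : Set _)) ∧
      ∀ R : MP N, phi σ N p r (R * P) = phi σ N p r (R * T) := by
  induction hP with
  | one => exact ⟨1, Submodule.subset_span ⟨[], by simp [comps], by simp⟩, fun R => rfl⟩
  | @mul i k w P hk _ ih =>
    obtain ⟨T, hT, hTR⟩ := ih (by omega)
    obtain ⟨k', rfl⟩ : ∃ k', k = k' + 1 := ⟨k - 1, by omega⟩
    have hmem : ∀ a : {i : Fin p // i ≠ i₀}, bpsum ρ a.1 (k' + 1) * T ∈
        Submodule.span ℂ ((fun l : List ({i : Fin p // i ≠ i₀} × ℕ) =>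
          (l.map fun x => bpsum ρ x.1.1 x.2).prod) ''
            (comps {i : Fin p // i ≠ i₀} (k' + 1 + w) : Set _)) := by
      intro a
      refine Submodule.span_induction (p := fun x _ => bpsum ρ a.1 (k' + 1) * x ∈ _)
        ?_ ?_ ?_ ?_ hT
      · rintro x ⟨l, hl, rfl⟩
        refine Submodule.subset_span ⟨(a, k' + 1) :: l, ?_, by simp⟩
        rw [show k' + 1 + w = w + k' + 1 by omega]
        exact cons_mem_comps a hl k'
      · simp
      · intro x y _ _ hx hy
        rw [mul_add]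
        exact Submodule.add_mem _ hx hy
      · intro c x _ hx
        rw [mul_smul_comm]
        exact Submodule.smul_mem _ c hx
    by_cases hi : i = i₀
    · refine ⟨-∑ a : {i : Fin p // i ≠ i₀}, bpsum ρ a.1 (k' + 1) * T,
        Submodule.neg_mem _ (Submodule.sum_mem _ fun a _ => hmem a), fun R => ?_⟩
      have h1 : bpsum ρ i₀ (k' + 1) + ∑ a : {i : Fin p // i ≠ i₀}, bpsum ρ a.1 (k' + 1) =
          psum' N (k' + 1) := by
        rw [← sum_bpsum ρ, Fintype.sum_eq_add_sum_subtype_ne _ i₀]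
      rw [hi, ← mul_assoc, hTR, eq_sub_of_add_eq h1, ← Finset.sum_mul,
        show R * (psum' N (k' + 1) - ∑ a : {i : Fin p // i ≠ i₀}, bpsum ρ a.1 (k' + 1)) * T =
          psum' N (k' + 1) * (R * T) +
            R * -((∑ a : {i : Fin p // i ≠ i₀}, bpsum ρ a.1 (k' + 1)) * T) by ring,
        map_add, phi_psum_mul hN r k'.succ_pos, zero_add]
      exact (Nat.mul_le_mul_left p (by omega)).trans hW
    · exact ⟨bpsum ρ i (k' + 1) * T, hmem ⟨i, hi⟩, fun R => by rw [← mul_assoc, hTR, mul_assoc]⟩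
  | add _ _ ih1 ih2 =>
    obtain ⟨S, hS, hS'⟩ := ih1 hw
    obtain ⟨T, hT, hT'⟩ := ih2 hw
    exact ⟨S + T, Submodule.add_mem _ hS hT, fun R => by
      rw [mul_add, mul_add, map_add, map_add, hS', hT']⟩
  | zero => exact ⟨0, Submodule.zero_mem _, fun R => rfl⟩
  | smul c _ ih =>
    obtain ⟨T, hT, hT'⟩ := ih hw
    exact ⟨c • T, Submodule.smul_mem _ c hT, fun R => by
      rw [mul_smul_comm, mul_smul_comm, map_smul, map_smul, hT']⟩

/-- The colours, sorted by residue. -/
noncomputable def blockEquiv : (Σ i : Fin p, Fin (Fintype.card {j // ρ j = i})) ≃ Fin N :=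
  (Equiv.sigmaCongrRight fun i => (Fintype.equivFin {j // ρ j = i}).symm).trans
    (Equiv.sigmaFiberEquiv ρ)

theorem rho_blockEquiv (x : Σ i : Fin p, Fin (Fintype.card {j // ρ j = i})) :
    ρ (blockEquiv ρ x) = x.1 :=
  ((Fintype.equivFin {j // ρ j = x.1}).symm x.2).2

/-- The inclusion of one residue class. -/
noncomputable def blockIncl (i : Fin p) (a : Fin (Fintype.card {j // ρ j = i})) : Fin N :=
  blockEquiv ρ ⟨i, a⟩

theorem rename_psum' (i : Fin p) (k : ℕ) :
    rename (blockIncl ρ i) (psum' (Fintype.card {j // ρ j = i}) k) = bpsum ρ i k := by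
  simp only [psum'_eq, map_sum, map_pow, rename_X, bpsum]
  refine Finset.sum_bij' (fun a _ => blockIncl ρ i a)
    (fun j hj => Fintype.equivFin {j // ρ j = i} ⟨j, (Finset.mem_filter.1 hj).2⟩) ?_ ?_ ?_ ?_ ?_
  · intro a _
    simp [blockIncl, rho_blockEquiv]
  · intro j _
    simp
  · intro a _
    simp [blockIncl, blockEquiv]
  · intro j hj
    simp [blockIncl, blockEquiv]
  · intro a _
    rfl

theorem prod_rename_mono (b : ∀ i : Fin p, Fin (Fintype.card {j // ρ j = i}) → ℕ) :
    ∏ i, rename (blockIncl ρ i) (mono (b i)) =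
      mono (fun j => b ((blockEquiv ρ).symm j).1 ((blockEquiv ρ).symm j).2) := by
  simp only [mono_eq_prod, map_prod, map_pow, rename_X]
  rw [← Fintype.prod_sigma' (fun i a => (X (blockIncl ρ i a) : MP N) ^ b i a)]
  refine Fintype.prod_equiv (blockEquiv ρ) _ _ fun x => ?_
  rw [Equiv.symm_apply_apply]
  rfl

/-- The product of the alternants of the residue classes. -/
noncomputable def blockAlt (q : Fin N → ℕ) : MP N :=
  ∏ i, rename (blockIncl ρ i) (alt fun a => q (blockIncl ρ i a))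

theorem phi_blockAlt (q : Fin N → ℕ) :
    phi σ N p (fun j => (ρ j : ℕ)) (blockAlt ρ q) =
      (Fintype.card (∀ i : Fin p, Equiv.Perm (Fin (Fintype.card {j // ρ j = i}))) : ℂ) •
        phi σ N p (fun j => (ρ j : ℕ)) (mono q) := by
  classical
  simp only [blockAlt, alt_eq, map_sum, Fintype.prod_sum]
  rw [← Finset.card_univ, Nat.cast_smul_eq_nsmul, ← Finset.sum_const]
  refine Finset.sum_congr rfl fun f _ => ?_
  simp only [Units.smul_def, ← Int.cast_smul_eq_zsmul ℂ, map_smul, Finset.prod_smul]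
  rw [prod_rename_mono]
  set π : Equiv.Perm (Fin N) := (blockEquiv ρ).permCongr (Equiv.Perm.sigmaCongrRightHom _ f) with hπ
  have hq : (fun j => ((fun a => q (blockIncl ρ ((blockEquiv ρ).symm j).1 a)) ∘
      f ((blockEquiv ρ).symm j).1) ((blockEquiv ρ).symm j).2) = q ∘ π := rfl
  rw [hq, phi_mono_comp _ (fun j => ?_), smul_smul]
  · rw [hπ, Equiv.Perm.sign_permCongr, sign_sigmaCongrRight', Units.coe_prod, Int.cast_prod,
      ← Finset.prod_mul_distrib, Finset.prod_eq_one, one_smul]
    intro i _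
    rw [← Int.cast_mul, ← Units.val_mul, Int.units_mul_self, Units.val_one, Int.cast_one]
  · show ((ρ (π j)) : ℕ) = ρ j
    congr 1
    refine Eq.trans ?_ ((rho_blockEquiv ρ ((blockEquiv ρ).symm j)).symm.trans
      (congrArg ρ ((blockEquiv ρ).apply_symm_apply j)))
    rw [hπ, Equiv.permCongr_apply]
    exact rho_blockEquiv ρ _

theorem regChi_mem [Fact p.Prime] (hN : Fintype.card σ ≤ N) (i₀ : Fin p) {W : ℕ}
    (hW : p * W ≤ Fintype.card σ) (q : Fin N → ℕ)
    (hq : ∑ j, q j = ∑ i : Fin p, ∑ a, stair (Fintype.card {j // ρ j = i}) a + W) :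
    regChi σ N p (fun j => (ρ j : ℕ) + p * q j) ∈ Submodule.span ℂ
      ((fun l : List ({i : Fin p // i ≠ i₀} × ℕ) => phi σ N p (fun j => (ρ j : ℕ))
        ((∏ i, rename (blockIncl ρ i) (vand (Fintype.card {j // ρ j = i}))) *
          (l.map fun x => bpsum ρ x.1.1 x.2).prod)) ''
            (comps {i : Fin p // i ≠ i₀} W : Set _)) := by
  classical
  set m := fun i : Fin p => Fintype.card {j // ρ j = i} with hm
  have hc : (Fintype.card (∀ i : Fin p, Equiv.Perm (Fin (m i))) : ℂ) ≠ 0 :=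
    Nat.cast_ne_zero.2 Fintype.card_ne_zero
  rw [← phi_mono, ← one_smul ℂ (phi σ N p _ (mono q)), ← inv_mul_cancel₀ hc, mul_smul,
    ← phi_blockAlt]
  refine Submodule.smul_mem _ _ ?_
  by_cases hinj : ∀ i, Function.Injective fun a => q (blockIncl ρ i a)
  swap
  · push Not at hinj
    obtain ⟨i, hi⟩ := hinj
    have h0 : alt (fun a => q (blockIncl ρ i a)) = 0 := by
      rw [Function.not_injective_iff] at hi
      obtain ⟨a, b, hab, hne⟩ := hi
      refine Matrix.det_zero_of_row_eq hne ?_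
      funext l
      simp only [powMat, Matrix.of_apply, hab]
    rw [blockAlt, Finset.prod_eq_zero
      (f := fun i => rename (blockIncl ρ i) (alt fun a => q (blockIncl ρ i a)))
      (Finset.mem_univ i) (by simp [h0]), map_zero]
    exact Submodule.zero_mem _
  choose P hP hPeq using fun i => exists_alt_eq_vand_mul (hinj i)
  set wi := fun i => ∑ a, q (blockIncl ρ i a) - ∑ a, stair (m i) a with hwi
  have hsum : ∑ i, wi i = W := by
    have h1 : ∑ i, wi i + ∑ i, ∑ a, stair (m i) a = ∑ j, q j := by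
      rw [← Finset.sum_add_distrib, ← Equiv.sum_comp (blockEquiv ρ) q, Fintype.sum_sigma]
      exact Finset.sum_congr rfl fun i _ => Nat.sub_add_cancel (sum_stair_le (hinj i))
    change _ = ∑ i, ∑ a, stair (m i) a + W at hq
    omega
  have hS : InS (bpsum ρ) W (∏ i, rename (blockIncl ρ i) (P i)) := by
    rw [← hsum]
    exact InS.prod _ _ _ fun i _ =>
      InS.map (rename (blockIncl ρ i)) (fun _ => i) (fun _ k => rename_psum' ρ i k) (hP i)
  obtain ⟨T, hT, hTR⟩ := exists_kill (σ := σ) ρ hN i₀ (fun j => (ρ j : ℕ)) hW hS le_rfl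
  have hfac : ∀ i, rename (blockIncl ρ i) (alt fun a => q (blockIncl ρ i a)) =
      rename (blockIncl ρ i) (vand (m i)) * rename (blockIncl ρ i) (P i) := fun i => by
    rw [hPeq i, map_mul]
  rw [blockAlt, Finset.prod_congr rfl fun i _ => hfac i, Finset.prod_mul_distrib, hTR]
  have h2 := Submodule.apply_mem_span_image_of_mem_span
    ((phi σ N p fun j => (ρ j : ℕ)) ∘ₗ LinearMap.mulLeft ℂ
      (∏ i, rename (blockIncl ρ i) (vand (m i)))) hT
  rw [Set.image_image] at h2
  exact h2

end Pattern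

/-- The spanning family of the `p`-regular parts of a residue set. -/
noncomputable def spanFun (σ : Type) [Fintype σ] [DecidableEq σ] (ρ : Fin N → Fin p) (i₀ : Fin p)
    (l : List ({i : Fin p // i ≠ i₀} × ℕ)) : Equiv.Perm σ → ℂ :=
  phi σ N p (fun j => (ρ j : ℕ))
    ((∏ i, rename (blockIncl ρ i) (vand (Fintype.card {j // ρ j = i}))) *
      (l.map fun x => bpsum ρ x.1.1 x.2).prod)

/-- The spanning lemma behind the rank bound. -/
theorem exists_span_resSet [hp : Fact p.Prime] (hN : Fintype.card σ ≤ N) {γ₀ : Fin N → ℕ}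
    (hγ : γ₀ ∈ tup N (lvl N (Fintype.card σ))) (hi : Function.Injective γ₀) :
    ∃ (ρ : Fin N → Fin p) (i₀ : Fin p),
      Submodule.span ℂ ((fun χ : Cfsg.IrrCharacter (Equiv.Perm σ) =>
        Cfsg.pRegularPart p (χ : Equiv.Perm σ → ℂ)) '' resSet σ N p (rcnt p γ₀)) ≤
      Submodule.span ℂ
        (((comps {i : Fin p // i ≠ i₀} (wt p γ₀)).image (spanFun σ ρ i₀) : Finset _) : Set _) := by
  classical
  have hp0 := hp.out.pos
  let ρ : Fin N → Fin p := fun j => ⟨γ₀ j % p, Nat.mod_lt _ hp0⟩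
  let i₀ : Fin p := ⟨0, hp0⟩
  refine ⟨ρ, i₀, ?_⟩
  have hcore : core p (rcnt p γ₀) = ∑ i : Fin p, ∑ a, stair (Fintype.card {j // ρ j = i}) a := by
    rw [core, ← Fin.sum_univ_eq_sum_range (fun r => ∑ k ∈ Finset.range (rcnt p γ₀ r), k) p]
    refine Finset.sum_congr rfl fun i _ => ?_
    simp only [stair]
    rw [Fin.sum_univ_eq_sum_range (fun k => k)]
    congr 2
    rw [Fintype.card_subtype, rcnt]
    exact congrArg Finset.card (Finset.filter_congr fun j _ => by simp [ρ, Fin.ext_iff])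
  rw [Submodule.span_le, Finset.coe_image]
  rintro _ ⟨χ, ⟨γ, hγT, hγi, hr, ε, hε, hχ⟩, rfl⟩
  have h1 : Cfsg.pRegularPart p (χ : Equiv.Perm σ → ℂ) = ε • regChi σ N p γ := by
    funext g
    rw [irr_eq_smul_chi hε hχ]
    simp only [regChi, Cfsg.pRegularPart, Pi.smul_apply, smul_eq_mul]
    split_ifs <;> simp
  rw [SetLike.mem_coe]
  show Cfsg.pRegularPart p (χ : Equiv.Perm σ → ℂ) ∈ _
  rw [h1]
  refine Submodule.smul_mem _ _ ?_
  obtain ⟨π, hπ⟩ := exists_comp_eq (σ := Fin N)
    (f := fun j => (⟨γ j % p, Nat.mod_lt _ hp0⟩ : Fin p)) (f' := ρ) (by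
      funext i
      have h := congrFun hr (i : ℕ)
      simp only [rcnt] at h
      simp only [cnt, ρ, Fin.ext_iff]
      exact h)
  have h2 : γ ∘ π = fun j => (ρ j : ℕ) + p * ((γ (π j)) / p) := by
    funext j
    have := congrFun hπ j
    simp only [Function.comp_apply] at this ⊢
    rw [← this]
    exact (Nat.mod_add_div _ _).symm
  have h3 : regChi σ N p γ = ((Equiv.Perm.sign π : ℤ) : ℂ) • regChi σ N p (γ ∘ π) := by
    funext g
    simp only [regChi, Cfsg.pRegularPart, Pi.smul_apply, smul_eq_mul, chi_comp]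
    split_ifs
    · rw [← mul_assoc, ← Int.cast_mul, ← Units.val_mul, Int.units_mul_self, Units.val_one,
        Int.cast_one, one_mul]
    · simp
  rw [h3, h2]
  refine Submodule.smul_mem _ _ (regChi_mem ρ hN i₀ (mul_wt_le hp0 hγ hi) _ ?_)
  rw [← hcore, ← qsum_eq_core_add_wt hp0 hi, ← (qsum_eq_of_rcnt_eq hp0 hr (c := 0) (by
    rw [mul_zero, add_zero, mem_tup.1 hγT, mem_tup.1 hγ])).trans (Nat.add_zero _), qsum]
  exact Equiv.sum_comp π (fun j => γ j / p)

/-- **The rank bound.** -/
theorem finrank_resSet_le [hp : Fact p.Prime] (hN : Fintype.card σ ≤ N) {γ₀ : Fin N → ℕ}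
    (hγ : γ₀ ∈ tup N (lvl N (Fintype.card σ))) (hi : Function.Injective γ₀) {w : ℕ}
    (hw : wt p γ₀ = w + 1) :
    Module.finrank ℂ (Submodule.span ℂ ((fun χ : Cfsg.IrrCharacter (Equiv.Perm σ) =>
      Cfsg.pRegularPart p (χ : Equiv.Perm σ → ℂ)) '' resSet σ N p (rcnt p γ₀))) ≤
      (p - 1) * p ^ w := by
  classical
  obtain ⟨ρ, i₀, h⟩ := exists_span_resSet (σ := σ) (p := p) hN hγ hi
  refine (Submodule.finrank_mono h).trans ?_
  refine (finrank_span_finset_le_card _).trans (Finset.card_image_le.trans ?_)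
  rw [hw]
  refine (card_comps w).trans ?_
  have hcard : Fintype.card {i : Fin p // i ≠ i₀} = p - 1 := by simp [Fintype.card_subtype_compl]
  rw [hcard, Nat.sub_add_cancel hp.out.pos]

end Cfsg.Agent.H15.SymBlocks
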