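import Cfsg.Agent.H15.SymBlocks.Split
import Cfsg.Agent.BlockBasic.Idem
import Cfsg.Agent.BlockBasic.Basic

/-!
# Residue vectors and blocks of symmetric groups

The characters `chi γ` with a given vector of residue counts modulo `p` fill a union of `p`-blocks.
The weight of a tuple measures how many steps of size `p` it can be lowered.
-/

set_option linter.unusedSectionVars false

namespace Cfsg.Agent.H15.SymBlocks

open MvPolynomial Finset
open scoped Nat ComplexConjugate

variable {σ : Type} [Fintype σ] [DecidableEq σ] {N p : ℕ}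

/-- Number of entries with each residue. -/
def rcnt (p : ℕ) (γ : Fin N → ℕ) : ℕ → ℕ := fun r => (univ.filter fun j => γ j % p = r).card

theorem rcnt_comp (γ : Fin N → ℕ) (π : Equiv.Perm (Fin N)) : rcnt p (γ ∘ π) = rcnt p γ := by
  funext r
  exact Finset.card_nbij' (fun i => π i) (fun i => π.symm i) (by intro i; simp) (by intro i; simp)
    (by intro i; simp) (by intro i; simp)

theorem rcnt_add {γ c : Fin N → ℕ} (h : ∀ j, p ∣ c j) : rcnt p (γ + c) = rcnt p γ := by
  funext r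
  refine congrArg Finset.card (Finset.filter_congr fun j _ => ?_)
  obtain ⟨k, hk⟩ := h j
  rw [Pi.add_apply, hk, Nat.add_mul_mod_self_left]

theorem sum_mod_eq (hp : 0 < p) (γ : Fin N → ℕ) :
    ∑ j, γ j % p = ∑ r ∈ Finset.range p, rcnt p γ r * r := by
  rw [← Finset.sum_fiberwise_of_maps_to (g := fun j => γ j % p)
    (fun j _ => Finset.mem_range.2 (Nat.mod_lt _ hp))]
  refine Finset.sum_congr rfl fun r _ => ?_
  rw [rcnt, ← smul_eq_mul, ← Finset.sum_const]
  exact Finset.sum_congr rfl fun j hj => (Finset.mem_filter.1 hj).2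

/-- The sum of the quotients. -/
def qsum (p : ℕ) (γ : Fin N → ℕ) : ℕ := ∑ j, γ j / p

theorem sum_eq_mod_add (γ : Fin N → ℕ) : ∑ j, γ j = ∑ j, γ j % p + p * qsum p γ := by
  rw [qsum, Finset.mul_sum, ← Finset.sum_add_distrib]
  exact Finset.sum_congr rfl fun j _ => (Nat.mod_add_div _ _).symm

theorem qsum_eq_of_rcnt_eq (hp : 0 < p) {γ β : Fin N → ℕ} (hr : rcnt p γ = rcnt p β) {c : ℕ}
    (hs : ∑ j, γ j = ∑ j, β j + p * c) : qsum p γ = qsum p β + c := by
  rw [sum_eq_mod_add (p := p) γ, sum_eq_mod_add (p := p) β, sum_mod_eq hp, sum_mod_eq hp, hr,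
    Nat.add_assoc, Nat.add_left_cancel_iff, ← Nat.mul_add] at hs
  exact Nat.eq_of_mul_eq_mul_left hp hs

/-- The quotient sum of a tuple that cannot be lowered. -/
def core (p : ℕ) (κ : ℕ → ℕ) : ℕ := ∑ r ∈ Finset.range p, ∑ i ∈ Finset.range (κ r), i

theorem eq_range_of_closed {A : Finset ℕ} (h : ∀ q, q + 1 ∈ A → q ∈ A) :
    A = Finset.range A.card := by
  have hle : ∀ x ∈ A, ∀ y, y ≤ x → y ∈ A := by
    intro x
    induction x with
    | zero => exact fun hx y hy => by rwa [Nat.le_zero.1 hy]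
    | succ x ih =>
      intro hx y hy
      rcases eq_or_lt_of_le hy with rfl | hy
      · exact hx
      · exact ih (h x hx) y (Nat.lt_succ_iff.1 hy)
  refine Finset.eq_of_subset_of_card_le (fun x hx => ?_) (by simp)
  rw [Finset.mem_range]
  have : Finset.range (x + 1) ⊆ A := fun y hy =>
    hle x hx y (Nat.lt_succ_iff.1 (Finset.mem_range.1 hy))
  simpa using Finset.card_le_card this

/-- Lower one entry by `p`. -/
def lower (p : ℕ) (γ : Fin N → ℕ) (j : Fin N) : Fin N → ℕ := Function.update γ j (γ j - p)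

theorem qsum_eq_core (hp : 0 < p) {γ : Fin N → ℕ} (hi : Function.Injective γ)
    (h : ∀ j, p ≤ γ j → ∃ k, γ k = γ j - p) : qsum p γ = core p (rcnt p γ) := by
  rw [qsum, core, ← Finset.sum_fiberwise_of_maps_to (g := fun j => γ j % p)
    (fun j _ => Finset.mem_range.2 (Nat.mod_lt _ hp))]
  refine Finset.sum_congr rfl fun r _ => ?_
  set S := univ.filter fun j => γ j % p = r with hS
  have hinj : Set.InjOn (fun j => γ j / p) S := by
    intro a ha b hb hab
    simp only [S, Finset.coe_filter, Finset.mem_univ, true_and, Set.mem_ofPred_eq] at ha hb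
    refine hi ?_
    rw [← Nat.mod_add_div (γ a) p, ← Nat.mod_add_div (γ b) p, ha, hb, show γ a / p = γ b / p from hab]
  have hA : S.image (fun j => γ j / p) = Finset.range (rcnt p γ r) := by
    rw [rcnt, ← hS, ← Finset.card_image_of_injOn hinj]
    refine eq_range_of_closed fun q hq => ?_
    obtain ⟨j, hj, hjq⟩ := Finset.mem_image.1 hq
    have hle : p ≤ γ j := by
      have := Nat.div_pos_iff (a := γ j) (b := p)
      exact (this.1 (by omega)).2
    obtain ⟨k, hk⟩ := h j hle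
    refine Finset.mem_image.2 ⟨k, ?_, ?_⟩
    · simp only [S, Finset.mem_filter, Finset.mem_univ, true_and] at hj ⊢
      rw [hk, ← hj, Nat.mod_eq_sub_mod hle]
    · rw [hk, Nat.div_eq_sub_div hp hle] at *
      omega
  rw [← hA, Finset.sum_image hinj]

theorem lower_spec (hp : 0 < p) {γ : Fin N → ℕ} (hi : Function.Injective γ) {j : Fin N}
    (hj : p ≤ γ j) (hk : ∀ k, γ k ≠ γ j - p) :
    Function.Injective (lower p γ j) ∧ rcnt p (lower p γ j) = rcnt p γ ∧
      γ = lower p γ j + Pi.single j p ∧ qsum p γ = qsum p (lower p γ j) + 1 := by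
  have heq : γ = lower p γ j + Pi.single j p := by
    funext k
    by_cases h : k = j
    · subst h
      simp [lower, Nat.sub_add_cancel hj]
    · simp [lower, h]
  have hr : rcnt p (lower p γ j) = rcnt p γ := by
    conv_rhs => rw [heq]
    refine (rcnt_add fun k => ?_).symm
    by_cases h : k = j
    · subst h; simp
    · simp [h]
  refine ⟨fun a b hab => ?_, hr, heq, qsum_eq_of_rcnt_eq hp hr.symm ?_⟩
  · simp only [lower, Function.update_apply] at hab
    split_ifs at hab with ha hb hb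
    · rw [ha, hb]
    · exact absurd hab.symm (hk b)
    · exact absurd hab (hk a)
    · exact hi hab
  · conv_lhs => rw [heq]
    simp only [Pi.add_apply, Finset.sum_add_distrib, mul_one]
    congr 1
    simp [Finset.sum_pi_single']

theorem core_le_qsum (hp : 0 < p) {γ : Fin N → ℕ} (hi : Function.Injective γ) :
    core p (rcnt p γ) ≤ qsum p γ := by
  induction h : qsum p γ using Nat.strong_induction_on generalizing γ with
  | _ q ih =>
    by_cases hm : ∀ j, p ≤ γ j → ∃ k, γ k = γ j - p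
    · exact ((qsum_eq_core hp hi hm).symm.trans h).le
    · push Not at hm
      obtain ⟨j, hj, hk⟩ := hm
      obtain ⟨h1, h2, -, h4⟩ := lower_spec hp hi hj hk
      rw [← h2]
      exact (ih (qsum p (lower p γ j)) (by omega) h1 rfl).trans (by omega)

theorem exists_lower (hp : 0 < p) {γ : Fin N → ℕ} (hi : Function.Injective γ)
    (hlt : core p (rcnt p γ) < qsum p γ) :
    ∃ j, p ≤ γ j ∧ Function.Injective (lower p γ j) := by
  by_cases hm : ∀ j, p ≤ γ j → ∃ k, γ k = γ j - p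
  · exact absurd (qsum_eq_core hp hi hm) hlt.ne'
  · push Not at hm
    obtain ⟨j, hj, hk⟩ := hm
    exact ⟨j, hj, (lower_spec hp hi hj hk).1⟩

/-- The weight of a tuple. -/
def wt (p : ℕ) (γ : Fin N → ℕ) : ℕ := qsum p γ - core p (rcnt p γ)

theorem qsum_eq_core_add_wt (hp : 0 < p) {γ : Fin N → ℕ} (hi : Function.Injective γ) :
    qsum p γ = core p (rcnt p γ) + wt p γ :=
  (Nat.add_sub_cancel' (core_le_qsum hp hi)).symm

section Blocks

variable (σ N p)

/-- Irreducible characters with a given residue vector. -/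
def resSet (κ : ℕ → ℕ) : Set (Cfsg.IrrCharacter (Equiv.Perm σ)) :=
  {ψ | ∃ γ ∈ tup N (lvl N (Fintype.card σ)), Function.Injective γ ∧ rcnt p γ = κ ∧
    ∃ ε : ℂ, ε * ε = 1 ∧ (chi N γ : Equiv.Perm σ → ℂ) = ε • (ψ : Equiv.Perm σ → ℂ)}

variable {σ N p}

theorem irr_eq_smul_chi {γ : Fin N → ℕ} {ψ : Cfsg.IrrCharacter (Equiv.Perm σ)} {ε : ℂ}
    (hε : ε * ε = 1) (h : (chi N γ : Equiv.Perm σ → ℂ) = ε • (ψ : Equiv.Perm σ → ℂ)) :
    (ψ : Equiv.Perm σ → ℂ) = ε • (chi N γ : Equiv.Perm σ → ℂ) := by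
  rw [h, smul_smul, hε, one_smul]

theorem mem_resSet_iff {γ : Fin N → ℕ} {ψ : Cfsg.IrrCharacter (Equiv.Perm σ)} {ε : ℂ}
    (hγ : γ ∈ tup N (lvl N (Fintype.card σ))) (hi : Function.Injective γ) (hε : ε * ε = 1)
    (h : (chi N γ : Equiv.Perm σ → ℂ) = ε • (ψ : Equiv.Perm σ → ℂ)) (κ : ℕ → ℕ) :
    ψ ∈ resSet σ N p κ ↔ rcnt p γ = κ := by
  refine ⟨fun ⟨β, hβ, hiβ, hκ, ε', hε', h'⟩ => ?_, fun hκ => ⟨γ, hγ, hi, hκ, ε, hε, h⟩⟩
  have h1 : coeff (ev β) (alt γ) ≠ 0 := by
    rw [← classInner_chi (σ := σ) hγ, h, h', CharBasic.classInner_smul_left,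
      CharBasic.classInner_smul_right, CharBasic.classInner_irr_self ψ.2, mul_one]
    refine mul_ne_zero ?_ ?_
    · intro e; simp [e] at hε
    · rw [map_ne_zero]; intro e; simp [e] at hε'
  obtain ⟨π, hπ⟩ : ∃ π : Equiv.Perm (Fin N), γ ∘ π = β := by
    by_contra hc
    push Not at hc
    exact h1 (coeff_alt_eq_zero hc)
  rw [← hκ, ← hπ, rcnt_comp]

theorem exists_repr (hN : Fintype.card σ ≤ N) (ψ : Cfsg.IrrCharacter (Equiv.Perm σ)) :
    ∃ γ ∈ tup N (lvl N (Fintype.card σ)), Function.Injective γ ∧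
      ∃ ε : ℂ, ε * ε = 1 ∧ (chi N γ : Equiv.Perm σ → ℂ) = ε • (ψ : Equiv.Perm σ → ℂ) := by
  obtain ⟨γ, hγ, h⟩ := exists_tuple_of_irr hN ψ
  rw [mem_monoTup] at hγ
  exact ⟨γ, hγ.1, hγ.2.injective, h⟩

theorem conj_irr (hN : Fintype.card σ ≤ N) (ψ : Cfsg.IrrCharacter (Equiv.Perm σ))
    (g : Equiv.Perm σ) : conj ((ψ : Equiv.Perm σ → ℂ) g) = (ψ : Equiv.Perm σ → ℂ) g := by
  obtain ⟨γ, -, -, ε, hε, h⟩ := exists_repr hN ψ
  have hε' : conj ε = ε := by
    rcases mul_self_eq_one_iff.1 hε with rfl | rfl <;> simp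
  rw [irr_eq_smul_chi hε h, Pi.smul_apply, smul_eq_mul, map_mul, hε', conj_chi]

open scoped Classical in
theorem sum_filter_chi_mul_chi (hN : Fintype.card σ ≤ N) (κ : ℕ → ℕ) (g h : Equiv.Perm σ) :
    ∑ γ ∈ (tup N (lvl N (Fintype.card σ))).filter (fun γ => rcnt p γ = κ),
        chi N γ g * chi N γ h =
      (N ! : ℂ) * ∑ᶠ ψ ∈ resSet σ N p κ,
        (ψ : Equiv.Perm σ → ℂ) g * (ψ : Equiv.Perm σ → ℂ) h := by
  classical
  set T := (tup N (lvl N (Fintype.card σ))).filter (fun γ => rcnt p γ = κ) with hT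
  let f : Equiv.Perm σ → ℂ := fun a => ∑ γ ∈ T, chi N γ a * chi N γ h
  let d : Equiv.Perm σ → ℂ := ∑ ψ : Cfsg.IrrCharacter (Equiv.Perm σ),
    (if ψ ∈ resSet σ N p κ then (N ! : ℂ) * (ψ : Equiv.Perm σ → ℂ) h else 0) •
      (ψ : Equiv.Perm σ → ℂ)
  have hf : Cfsg.IsClassFunction (Equiv.Perm σ) f := fun a b => by
    simp only [f, isClassFunction_chi _ a b]
  have hfd : f = d := by
    refine CharBasic.classFunction_ext hf (CharBasic.isClassFunction_sum_irr _) fun χ => ?_
    rw [CharBasic.classInner_sum_irr]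
    obtain ⟨β, hβ, hiβ, ε, hε, hβχ⟩ := exists_repr hN χ
    have hχ := irr_eq_smul_chi hε hβχ
    have hF : IsAlt fun γ => if rcnt p γ = κ then chi N γ h else 0 := by
      intro γ π
      simp only [rcnt_comp]
      split_ifs
      · exact chi_comp γ π h
      · rw [mul_zero]
    have h1 : ∑ a, f a * chi N β a =
        ((Fintype.card σ)! : ℂ) * ((N ! : ℂ) * if rcnt p β = κ then chi N β h else 0) := by
      rw [← sum_coeff_alt_mul hF hβ, Finset.mul_sum]
      simp only [mul_ite, mul_zero, ← Finset.sum_filter, ← hT, f, Finset.sum_mul]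
      rw [Finset.sum_comm]
      refine Finset.sum_congr rfl fun γ hγ => ?_
      rw [← mul_assoc, ← sum_chi_mul_chi (Finset.mem_filter.1 hγ).1 β, Finset.sum_mul]
      exact Finset.sum_congr rfl fun a _ => by ring
    rw [CharBasic.classInner_def]
    simp only [conj_irr hN χ]
    rw [show ∑ a, f a * (χ : Equiv.Perm σ → ℂ) a = ε * ∑ a, f a * chi N β a by
        rw [Finset.mul_sum]
        exact Finset.sum_congr rfl fun a _ => by
          rw [hχ, Pi.smul_apply, smul_eq_mul]; ring,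
      h1, Nat.card_perm, Nat.card_eq_fintype_card, mul_left_comm ε,
      inv_mul_cancel_left₀ (Nat.cast_ne_zero.2 (Nat.factorial_ne_zero _))]
    simp only [mem_resSet_iff hβ hiβ hε hβχ]
    split_ifs with hc
    · rw [hχ, Pi.smul_apply, smul_eq_mul]; ring
    · ring
  have h3 := congrFun hfd g
  simp only [f, d, Finset.sum_apply, Pi.smul_apply, smul_eq_mul] at h3
  rw [h3, BlockBasic.finsum_mem_eq_sum_ite, Finset.mul_sum]
  refine Finset.sum_congr rfl fun ψ _ => ?_
  split_ifs <;> ring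

theorem kernel_eq_zero [Fact p.Prime] (hN : Fintype.card σ ≤ N) (κ : ℕ → ℕ)
    {x y : Equiv.Perm σ} (hx : ¬ p ∣ orderOf x) (hy : p ∣ orderOf y) :
    ∑ᶠ ψ ∈ resSet σ N p κ, (ψ : Equiv.Perm σ → ℂ) x * (ψ : Equiv.Perm σ → ℂ) y = 0 := by
  classical
  obtain ⟨P, hP, u, s, rfl, hu, hdvd⟩ := exists_split N hy
  have h0 := sum_filter_chi_mul_chi (p := p) hN κ x ((Equiv.sumCompl P).permCongr (Equiv.sumCongr u s))
  refine (mul_eq_zero.1 (h0.symm.trans ?_)).resolve_left (Nat.cast_ne_zero.2 (Nat.factorial_ne_zero N))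
  set e := Equiv.sumCompl P
  have hcard : Fintype.card σ = Fintype.card ({a // P a} ⊕ {a // ¬ P a}) := (Fintype.card_congr e).symm
  obtain ⟨x', rfl⟩ : ∃ x', x = e.permCongr x' :=
    ⟨e.symm.permCongr x, by ext a; simp [Equiv.permCongr_apply]⟩
  have hxo : ¬ p ∣ orderOf x' := by
    rwa [show orderOf (e.permCongr x') = orderOf x' from
      MulEquiv.orderOf_eq e.permCongrHom x'] at hx
  simp only [chi_permCongr]
  rw [hcard, sum_filter_mul_chi_sumCongr u s (fun γ => rcnt p γ = κ)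
    (fun f hf γ => by rw [rcnt_add (hdvd f hf)]) fun γ => chi N γ x']
  refine Finset.sum_eq_zero fun γ' hγ' => ?_
  rw [sum_fixCol_chi_eq_zero (hcard ▸ hN) u (not_isConj_sumCongr hu hxo)
    (Finset.mem_filter.1 hγ').1, zero_mul]

/-- The residue sets are unions of blocks. -/
theorem blockOf_subset_resSet [hp : Fact p.Prime] {M : Ideal Cfsg.AlgInt}
    (hM : Cfsg.IsPModular p M) (hN : Fintype.card σ ≤ N) {κ : ℕ → ℕ}
    {ψ : Cfsg.IrrCharacter (Equiv.Perm σ)} (hψ : ψ ∈ resSet σ N p κ) :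
    Cfsg.blockOf M (ψ : Equiv.Perm σ → ℂ) ⊆ resSet σ N p κ := by
  classical
  refine BlockBasic.blockOf_subset hM (fun g => ?_) hψ
  have h1 : ¬ p ∣ orderOf (1 : Equiv.Perm σ) := by
    rw [orderOf_one]; exact hp.out.not_dvd_one
  by_cases hg : p ∣ orderOf g
  · have h := kernel_eq_zero hN κ h1 hg
    simp only [Cfsg.blockCoeff, conj_irr hN, h, mul_zero]
    exact BlockBasic.MemLocalIdeal.memLocalRing (BlockBasic.memLocalIdeal_zero hM)
  · obtain ⟨r, hr, hsum⟩ := BlockBasic.exists_mul_of_vanish (G := Equiv.Perm σ) (p := p)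
      (fun χ => if χ ∈ resSet σ N p κ then conj ((χ : Equiv.Perm σ → ℂ) g) else 0)
      {z : ℂ | IsIntegral ℤ z} isIntegral_zero (fun a ha b hb => ha.add hb)
      (fun n a ha => ha.mul (isIntegral_algebraMap (R := ℤ) (x := (n : ℤ))))
      (fun χ => by
        split_ifs
        · exact BlockBasic.isIntegral_conj_apply χ g
        · exact isIntegral_zero)
      (fun x hx1 ⟨k, hk⟩ => by
        have hx : p ∣ orderOf x := by
          rw [hk]
          refine dvd_pow_self p ?_
          rintro rfl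
          exact hx1 (orderOf_eq_one_iff.1 (by simpa using hk))
        have h := kernel_eq_zero hN κ hg hx
        rw [BlockBasic.finsum_mem_eq_sum_ite] at h
        refine (Finset.sum_congr rfl fun χ _ => ?_).trans h
        rw [conj_irr hN χ g]
        split_ifs <;> ring)
    have h2 : Cfsg.blockCoeff (resSet σ N p κ) g =
        (Nat.card (Equiv.Perm σ) : ℂ)⁻¹ *
          (((p ^ (Nat.card (Equiv.Perm σ)).factorization p : ℕ) : ℂ) * r) := by
      rw [← hsum, Cfsg.blockCoeff, BlockBasic.finsum_mem_eq_sum_ite]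
      congr 1
      refine Finset.sum_congr rfl fun χ _ => ?_
      split_ifs <;> ring
    have hm : ¬ p ∣ Nat.card (Equiv.Perm σ) / p ^ (Nat.card (Equiv.Perm σ)).factorization p :=
      Nat.not_dvd_ordCompl hp.out Nat.card_pos.ne'
    rw [h2, ← mul_assoc]
    refine BlockBasic.memLocalRing_mul hM ?_ (BlockBasic.memLocalRing_of_isIntegral hM hr)
    have h3 : (Nat.card (Equiv.Perm σ) : ℂ) =
        ((p ^ (Nat.card (Equiv.Perm σ)).factorization p : ℕ) : ℂ) *
          ((Nat.card (Equiv.Perm σ) / p ^ (Nat.card (Equiv.Perm σ)).factorization p : ℕ) : ℂ) := by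
      rw [← Nat.cast_mul, Nat.ordProj_mul_ordCompl_eq_self]
    rw [h3, mul_inv_rev, mul_assoc,
      inv_mul_cancel₀ (Nat.cast_ne_zero.2 (pow_ne_zero _ hp.out.ne_zero)), mul_one]
    exact BlockBasic.memLocalRing_natCast_inv hM hm

/-- All members of a block have the same residue vector. -/
theorem exists_resSet_of_block [Fact p.Prime] {M : Ideal Cfsg.AlgInt}
    (hM : Cfsg.IsPModular p M) (hN : Fintype.card σ ≤ N)
    {B : Set (Cfsg.IrrCharacter (Equiv.Perm σ))} (hB : Cfsg.IsPBlock M B) :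
    ∃ γ ∈ tup N (lvl N (Fintype.card σ)), Function.Injective γ ∧
      B ⊆ resSet σ N p (rcnt p γ) := by
  obtain ⟨ψ, rfl⟩ := hB
  obtain ⟨γ, hγ, hi, ε, hε, h⟩ := exists_repr hN ψ
  exact ⟨γ, hγ, hi, blockOf_subset_resSet hM hN ((mem_resSet_iff hγ hi hε h _).2 rfl)⟩

end Blocks

end Cfsg.Agent.H15.SymBlocks
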