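import Cfsg.Agent.H15.SymBlocks.Residue
import Mathlib.LinearAlgebra.Vandermonde

/-!
# The sign twist in the Frobenius formula

The sign-twisted inner product of `chi γ` and `chi β` is a coefficient of
`Δ(x) Δ(y) ∏ (1 + x i y j)`, hence of a Vandermonde determinant in `2N` variables.  So it can only be
nonzero when `γ` and the reflection `2N - 1 - β` partition `{0, ..., 2N - 1}`.
-/

set_option linter.unusedSectionVars false

namespace Cfsg.Agent.H15.SymBlocks

open MvPolynomial Finset

variable {σ : Type} [Fintype σ] [DecidableEq σ] {N : ℕ}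

/-- Polynomials in two sets of colours. -/
abbrev MP2 (N : ℕ) := MvPolynomial (Fin N ⊕ Fin N) ℂ

/-- The sign as a complex number. -/
def sgnC (g : Equiv.Perm σ) : ℂ := ((Equiv.Perm.sign g : ℤ) : ℂ)

/-- A pair of exponent vectors. -/
noncomputable def ev2 (γ β : Fin N → ℕ) : (Fin N ⊕ Fin N) →₀ ℕ :=
  Finsupp.equivFunOnFinite.symm (Sum.elim γ β)

theorem ev2_apply (γ β : Fin N → ℕ) (c : Fin N ⊕ Fin N) : ev2 γ β c = Sum.elim γ β c := rfl

theorem mapDomain_pair (d d' : Fin N →₀ ℕ) :
    Finsupp.mapDomain Sum.inl d + Finsupp.mapDomain Sum.inr d' = ev2 d d' := by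
  ext c
  rcases c with a | b
  · rw [Finsupp.add_apply, Finsupp.mapDomain_apply Sum.inl_injective,
      Finsupp.mapDomain_of_notMem_range _ _ (by simp), add_zero]
    rfl
  · rw [Finsupp.add_apply, Finsupp.mapDomain_apply Sum.inr_injective,
      Finsupp.mapDomain_of_notMem_range _ _ (by simp), zero_add]
    rfl

theorem coeff_inl_mul_inr (P Q : MP N) (γ β : Fin N → ℕ) :
    coeff (ev2 γ β) (rename Sum.inl P * rename Sum.inr Q : MP2 N) =
      coeff (ev γ) P * coeff (ev β) Q := by
  classical
  induction P using MvPolynomial.induction_on' with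
  | add P₁ P₂ h1 h2 => rw [map_add, add_mul, coeff_add, coeff_add, h1, h2, add_mul]
  | monomial d a =>
    induction Q using MvPolynomial.induction_on' with
    | add Q₁ Q₂ h1 h2 => rw [map_add, mul_add, coeff_add, coeff_add, h1, h2, mul_add]
    | monomial d' b =>
      rw [rename_monomial, rename_monomial, monomial_mul, coeff_monomial, coeff_monomial,
        coeff_monomial, mapDomain_pair]
      have h : ev2 (⇑d) (⇑d') = ev2 γ β ↔ d = ev γ ∧ d' = ev β := by
        constructor
        · intro h
          exact ⟨Finsupp.ext fun j => congrArg (fun v : (Fin N ⊕ Fin N) →₀ ℕ => v (Sum.inl j)) h,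
            Finsupp.ext fun j => congrArg (fun v : (Fin N ⊕ Fin N) →₀ ℕ => v (Sum.inr j)) h⟩
        · rintro ⟨rfl, rfl⟩
          rfl
      simp only [h]
      by_cases h1 : d = ev γ <;> by_cases h2 : d' = ev β <;> simp [h1, h2]

/-- The alternating average of two generating polynomials. -/
theorem sum_sgn_pgen :
    ∑ g : Equiv.Perm σ, sgnC g • (rename Sum.inl (pgen N g) * rename Sum.inr (pgen N g) : MP2 N) =
      ∑ h : σ → Fin N × Fin N, if Function.Injective h then
        ∏ i, (X (Sum.inl (h i).1) * X (Sum.inr (h i).2) : MP2 N) else 0 := by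
  classical
  have hm : ∀ f : σ → Fin N, (mono (cnt f) : MP N) = ∏ i, X (f i) := fun f => by
    rw [mono_eq_prod]
    rw [← Finset.prod_fiberwise_of_maps_to (g := f) (fun i _ => Finset.mem_univ (f i))]
    refine Finset.prod_congr rfl fun k _ => ?_
    rw [cnt, ← Finset.prod_const]
    exact Finset.prod_congr rfl fun i hi => by rw [(Finset.mem_filter.1 hi).2]
  have h1 : ∀ g : Equiv.Perm σ,
      (rename Sum.inl (pgen N g) * rename Sum.inr (pgen N g) : MP2 N) =
        ∑ h : σ → Fin N × Fin N, if h ∘ g = h then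
          ∏ i, (X (Sum.inl (h i).1) * X (Sum.inr (h i).2) : MP2 N) else 0 := by
    intro g
    rw [pgen, map_sum, map_sum, Finset.sum_mul_sum, ← Finset.sum_product', ← Finset.sum_filter]
    refine Finset.sum_nbij' (fun ff i => (ff.1 i, ff.2 i))
      (fun h => (Prod.fst ∘ h, Prod.snd ∘ h)) ?_ ?_ ?_ ?_ ?_
    · intro ff hff
      simp only [Finset.mem_product, mem_fixCol] at hff
      simp only [Finset.mem_filter, Finset.mem_univ, true_and]
      funext i
      exact Prod.ext (congrFun hff.1 i) (congrFun hff.2 i)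
    · intro h hh
      simp only [Finset.mem_filter, Finset.mem_univ, true_and] at hh
      simp only [Finset.mem_product, mem_fixCol]
      rw [Function.comp_assoc, Function.comp_assoc, hh]
      exact ⟨rfl, rfl⟩
    · intro ff _; rfl
    · intro h _; rfl
    · intro ff _
      simp only [hm, map_prod, rename_X, ← Finset.prod_mul_distrib]
  simp only [h1, Finset.smul_sum, smul_ite, smul_zero]
  rw [Finset.sum_comm]
  refine Finset.sum_congr rfl fun h _ => ?_
  split_ifs with hh
  · rw [Finset.sum_eq_single_of_mem (1 : Equiv.Perm σ) (Finset.mem_univ _)]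
    · simp [sgnC]
    · intro g _ hg
      refine if_neg fun e => hg (Equiv.ext fun i => hh (congrFun e i))
  · rw [Function.not_injective_iff] at hh
    obtain ⟨a, b, hab, hne⟩ := hh
    have hswap : h ∘ ⇑(Equiv.swap a b) = h := by
      funext i
      simp only [Function.comp_apply, Equiv.swap_apply_def]
      split_ifs with e1 e2
      · rw [e1, hab]
      · rw [e2, hab]
      · rfl
    refine Finset.sum_ninvolution (fun g => g * Equiv.swap a b) (fun g => ?_) (fun g _ e => ?_)
      (fun g => Finset.mem_univ _) (fun g => by simp [mul_assoc])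
    · have e : h ∘ ⇑(g * Equiv.swap a b) = h ↔ h ∘ g = h := by
        rw [Equiv.Perm.coe_mul, ← Function.comp_assoc]
        constructor
        · intro e
          have e' := congrArg (fun f => f ∘ ⇑(Equiv.swap a b)) e
          simpa [Function.comp_def, hswap, Equiv.swap_apply_self] using e'.trans hswap
        · intro e
          rw [e, hswap]
      by_cases hg : h ∘ g = h
      · rw [if_pos hg, if_pos (e.2 hg), ← add_smul]
        simp [sgnC, Equiv.Perm.sign_swap hne]
      · rw [if_neg hg, if_neg (fun e' => hg (e.1 e')), add_zero]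
    · exact hne (Equiv.swap_eq_one_iff.1 (mul_eq_left.1 e))

/-- The Cauchy product. -/
noncomputable def cauchy (N : ℕ) : MP2 N := ∏ x : Fin N × Fin N, (1 + X (Sum.inl x.1) * X (Sum.inr x.2))

theorem card_injective_image {ι : Type} [Fintype ι] [DecidableEq ι] (E : Finset ι) :
    ((univ.filter fun h : σ → ι => Function.Injective h).filter
      fun h => univ.image h = E).card = Fintype.card (σ ≃ E) := by
  classical
  rw [Finset.filter_filter, ← Fintype.card_subtype]
  refine Fintype.card_congr ?_
  exact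
    { toFun := fun h => Equiv.ofBijective
        (fun i => (⟨h.1 i, (Finset.ext_iff.1 h.2.2 _).1 (Finset.mem_image_of_mem _ (Finset.mem_univ i))⟩ : E))
        ⟨fun a b e => h.2.1 (congrArg Subtype.val e), fun x => by
          obtain ⟨i, -, hi⟩ := Finset.mem_image.1 ((Finset.ext_iff.1 h.2.2 (x : ι)).2 x.2)
          exact ⟨i, Subtype.ext hi⟩⟩
      invFun := fun e => ⟨fun i => (e i : ι), Subtype.val_injective.comp e.injective, by
        ext x
        simp only [Finset.mem_image, Finset.mem_univ, true_and]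
        exact ⟨fun ⟨i, hi⟩ => hi ▸ (e i).2, fun hx => ⟨e.symm ⟨x, hx⟩, by simp⟩⟩⟩
      left_inv := fun h => rfl
      right_inv := fun e => Equiv.ext fun i => rfl }

theorem sum_injective_eq {A : Type*} [CommSemiring A] {ι : Type} [Fintype ι] [DecidableEq ι]
    (F : ι → A) :
    ∑ h : σ → ι, (if Function.Injective h then ∏ i, F (h i) else 0) =
      (Fintype.card σ).factorial • ∑ E ∈ Finset.powersetCard (Fintype.card σ) univ, ∏ x ∈ E, F x := by
  classical
  rw [← Finset.sum_filter, Finset.smul_sum]
  rw [← Finset.sum_fiberwise_of_maps_to (g := fun h : σ → ι => univ.image h)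
    (t := Finset.powersetCard (Fintype.card σ) univ)]
  · refine Finset.sum_congr rfl fun E hE => ?_
    rw [Finset.mem_powersetCard] at hE
    have hc : ((univ.filter fun h : σ → ι => Function.Injective h).filter
        fun h => univ.image h = E).card = (Fintype.card σ).factorial := by
      have e : σ ≃ E := Fintype.equivOfCardEq (by simp [hE.2])
      rw [card_injective_image E]
      exact Fintype.card_equiv e
    rw [← hc, ← Finset.sum_const]
    refine Finset.sum_congr rfl fun h hh => ?_
    rw [Finset.mem_filter, Finset.mem_filter] at hh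
    rw [← hh.2, Finset.prod_image hh.1.2.injOn]
  · intro h hh
    rw [Finset.mem_filter] at hh
    rw [Finset.mem_powersetCard]
    exact ⟨Finset.subset_univ _, by rw [Finset.card_image_of_injective _ hh.2, Finset.card_univ]⟩

theorem sum_sgn_chi_mul (γ β : Fin N → ℕ) (hγ : γ ∈ tup N (lvl N (Fintype.card σ))) :
    ∑ g : Equiv.Perm σ, sgnC g * (chi N γ g * chi N β g) =
      ((Fintype.card σ).factorial : ℂ) *
        coeff (ev2 γ β) (rename Sum.inl (vand N) * rename Sum.inr (vand N) * cauchy N : MP2 N) := by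
  classical
  set n := Fintype.card σ
  let W : MP2 N := rename Sum.inl (vand N) * rename Sum.inr (vand N)
  let m : Finset (Fin N × Fin N) → MP2 N := fun E => ∏ x ∈ E, X (Sum.inl x.1) * X (Sum.inr x.2)
  have hzero : ∀ E : Finset (Fin N × Fin N), E.card ≠ n → coeff (ev2 γ β) (W * m E) = 0 := by
    intro E hE
    have hm : m E = rename Sum.inl (∏ x ∈ E, X x.1 : MP N) * rename Sum.inr (∏ x ∈ E, X x.2) := by
      simp only [m, map_prod, rename_X, Finset.prod_mul_distrib]
    rw [hm, show W * (rename Sum.inl (∏ x ∈ E, X x.1 : MP N) * rename Sum.inr (∏ x ∈ E, X x.2)) =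
      rename Sum.inl (vand N * ∏ x ∈ E, X x.1) * rename Sum.inr (vand N * ∏ x ∈ E, X x.2) by
        simp only [W, map_mul]; ring, coeff_inl_mul_inr]
    refine mul_eq_zero_of_left ?_ _
    have h : ∀ (π : Equiv.Perm (Fin N)),
        coeff (ev γ) (mono (stair N ∘ π) * ∏ x ∈ E, X x.1 : MP N) = 0 := by
      intro π
      have hX : ∀ a : Fin N, mono (Pi.single a 1) = (X a : MP N) := fun a => by
        rw [mono_eq_prod, Finset.prod_eq_single_of_mem a (Finset.mem_univ _)
          (fun b _ hb => by rw [Pi.single_eq_of_ne hb, pow_zero]), Pi.single_eq_same, pow_one]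
      have hx : ∀ F : Finset (Fin N × Fin N),
          (∏ x ∈ F, X x.1 : MP N) = mono (∑ x ∈ F, Pi.single x.1 1) := by
        intro F
        induction F using Finset.induction_on with
        | empty => simp [mono_eq_prod]
        | insert c t hc ih => rw [Finset.prod_insert hc, Finset.sum_insert hc, ← mono_mul, ih, hX]
      rw [hx, mono_mul, coeff_mono, if_neg]
      intro e
      apply hE
      rw [mem_tup, lvl, ← e] at hγ
      simp only [Pi.add_apply, Finset.sum_add_distrib, Finset.sum_apply, sum_comp_perm] at hγ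
      rw [Finset.sum_comm] at hγ
      simp at hγ
      omega
    rw [vand, alt_eq, Finset.sum_mul, coeff_sum]
    exact Finset.sum_eq_zero fun π _ => by rw [smul_mul_assoc, Units.smul_def, coeff_smul, h, smul_zero]
  have hL : ∑ g : Equiv.Perm σ, sgnC g * (chi N γ g * chi N β g) =
      coeff (ev2 γ β) (W * ∑ g : Equiv.Perm σ,
        sgnC g • (rename Sum.inl (pgen N g) * rename Sum.inr (pgen N g) : MP2 N)) := by
    rw [Finset.mul_sum, coeff_sum]
    refine Finset.sum_congr rfl fun g _ => ?_
    rw [mul_smul_comm, coeff_smul, smul_eq_mul, chi, chi, ← coeff_inl_mul_inr]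
    congr 2
    simp only [W, map_mul]
    ring
  rw [hL, sum_sgn_pgen, sum_injective_eq (fun x : Fin N × Fin N =>
    (X (Sum.inl x.1) * X (Sum.inr x.2) : MP2 N)), mul_smul_comm, coeff_smul, nsmul_eq_mul,
    Finset.mul_sum, coeff_sum]
  congr 1
  change _ = coeff (ev2 γ β) (W * cauchy N)
  rw [cauchy, Finset.prod_one_add, Finset.mul_sum, coeff_sum]
  refine Finset.sum_subset (fun E hE => Finset.mem_powerset.2 (Finset.subset_univ _))
    fun E _ hE => hzero E fun e => hE (Finset.mem_powersetCard.2 ⟨Finset.subset_univ _, e⟩)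

theorem vand_eq_prod : vand N = ∏ i : Fin N, ∏ j ∈ Finset.Ioi i, (X j - X i : MP N) := by
  rw [vand, alt, ← Matrix.det_transpose, ← Matrix.det_vandermonde]
  rfl

/-- The columns of the big determinant. -/
noncomputable def vCol (N : ℕ) : Fin (N + N) → MP2 N :=
  Fin.append (fun i => X (Sum.inl i)) fun _ => -1

/-- The homogenising column. -/
noncomputable def wCol (N : ℕ) : Fin (N + N) → MP2 N :=
  Fin.append (fun _ => 1) fun j => X (Sum.inr j)

theorem det_big :
    ∃ e : ℂ, (Matrix.projVandermonde (vCol N) (wCol N)).det =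
      C e * (rename Sum.inl (vand N) * rename Sum.inr (vand N) * cauchy N) ∧ e ≠ 0 := by
  refine ⟨(-1) ^ (N * N), ?_, pow_ne_zero _ (by norm_num)⟩
  have hI : ∀ i : Fin N, Finset.Ioi (Fin.castAdd N i) =
      (Finset.Ioi i).map (Fin.castAddEmb N) ∪ univ.map (Fin.natAddEmb N) := by
    intro i
    ext x
    induction x using Fin.addCases <;> simp [Fin.lt_def, -Fin.val_fin_lt]
    · intro x hx
      simp [Fin.ext_iff] at hx
      omega
    · omega
  have hJ : ∀ i : Fin N, Finset.Ioi (Fin.natAdd N i) =
      (Finset.Ioi i).map (Fin.natAddEmb N) := by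
    intro i
    ext x
    induction x using Fin.addCases <;> simp [Fin.lt_def, -Fin.val_fin_lt]
  rw [Matrix.det_projVandermonde, Fin.prod_univ_add]
  simp only [hI, hJ]
  have hdisj : ∀ i : Fin N,
      Disjoint ((Finset.Ioi i).map (Fin.castAddEmb N)) (univ.map (Fin.natAddEmb N)) := by
    intro i
    rw [Finset.disjoint_left]
    intro x hx hy
    simp only [Finset.mem_map, Fin.castAddEmb_apply, Fin.natAddEmb_apply] at hx hy
    obtain ⟨a, -, rfl⟩ := hx
    obtain ⟨b, -, hb⟩ := hy
    simp [Fin.ext_iff] at hb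
    omega
  simp only [Finset.prod_union (hdisj _), Finset.prod_map, Fin.castAddEmb_apply,
    Fin.natAddEmb_apply, vCol, wCol, Fin.append_left, Fin.append_right, Finset.prod_mul_distrib]
  have h1 : ∀ i j : Fin N, ((-1 : MP2 N) - X (Sum.inl i) * X (Sum.inr j)) =
      -1 * (1 + X (Sum.inl i) * X (Sum.inr j)) := fun i j => by ring
  simp only [mul_one, h1, Finset.prod_mul_distrib, Finset.prod_const, Finset.card_univ,
    Fintype.card_fin, ← pow_mul]
  rw [vand_eq_prod, cauchy, Fintype.prod_prod_type]
  simp only [map_prod, map_sub, rename_X, map_pow, map_neg, map_one]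
  have h2 : ∀ i j : Fin N, (-1 : MP2 N) * X (Sum.inr i) - -1 * X (Sum.inr j) =
      X (Sum.inr j) - X (Sum.inr i) := fun i j => by ring
  simp only [h2]
  ring

/-- The twisted inner product only pairs complementary tuples. -/
theorem exists_perm_of_sgn_inner {γ β : Fin N → ℕ} (hγ : γ ∈ tup N (lvl N (Fintype.card σ)))
    (h : ∑ g : Equiv.Perm σ, sgnC g * (chi N γ g * chi N β g) ≠ 0) :
    ∃ π : Equiv.Perm (Fin (N + N)), (∀ i, γ i = (π (Fin.castAdd N i) : ℕ)) ∧
      ∀ j, β j = N + N - 1 - (π (Fin.natAdd N j) : ℕ) := by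
  classical
  obtain ⟨e, hdet, he⟩ := det_big (N := N)
  have h1 : coeff (ev2 γ β) (Matrix.projVandermonde (vCol N) (wCol N)).det ≠ 0 := by
    rw [hdet, coeff_C_mul]
    rw [sum_sgn_chi_mul γ β hγ] at h
    exact mul_ne_zero he (right_ne_zero_of_mul h)
  rw [Matrix.det_apply, coeff_sum] at h1
  obtain ⟨π, -, hπ⟩ := Finset.exists_ne_zero_of_sum_ne_zero h1
  rw [Units.smul_def, coeff_smul] at hπ
  have hprod : ∀ π' : Equiv.Perm (Fin (N + N)),
      ∏ k, Matrix.projVandermonde (vCol N) (wCol N) (π' k) k =
        ∏ r, Matrix.projVandermonde (vCol N) (wCol N) r (π'.symm r) := fun π' =>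
    Fintype.prod_equiv π' _ _ fun k => by rw [Equiv.symm_apply_apply]
  rw [hprod, Fin.prod_univ_add] at hπ
  refine ⟨π.symm, ?_⟩
  simp only [Matrix.projVandermonde_apply, vCol, wCol, Fin.append_left, Fin.append_right, one_pow,
    mul_one] at hπ
  have hP : (∏ i : Fin N, (X (Sum.inl i) : MP2 N) ^ (π.symm (Fin.castAdd N i) : ℕ)) =
      rename Sum.inl (mono fun i => (π.symm (Fin.castAdd N i) : ℕ)) := by
    simp only [mono_eq_prod, map_prod, map_pow, rename_X]
  have hQ : (∏ j : Fin N, ((-1 : MP2 N) ^ (π.symm (Fin.natAdd N j) : ℕ) *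
      X (Sum.inr j) ^ ((π.symm (Fin.natAdd N j)).rev : ℕ))) =
      C ((-1) ^ ∑ j : Fin N, (π.symm (Fin.natAdd N j) : ℕ)) *
        rename Sum.inr (mono fun j => ((π.symm (Fin.natAdd N j)).rev : ℕ)) := by
    simp only [mono_eq_prod, map_prod, map_pow, rename_X, map_neg, map_one,
      ← Finset.prod_pow_eq_pow_sum, Finset.prod_mul_distrib]
  rw [hP, hQ, mul_left_comm, coeff_C_mul, coeff_inl_mul_inr, coeff_mono, coeff_mono] at hπ
  by_cases h3 : (fun i => (π.symm (Fin.castAdd N i) : ℕ)) = γ
  · by_cases h4 : (fun j => ((π.symm (Fin.natAdd N j)).rev : ℕ)) = β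
    · refine ⟨fun i => (congrFun h3 i).symm, fun j => ?_⟩
      rw [← congrFun h4 j, Fin.val_rev]
      omega
    · simp only [if_neg h4, mul_zero, smul_zero, ne_eq, not_true_eq_false] at hπ
  · simp [h3] at hπ

end Cfsg.Agent.H15.SymBlocks
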