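import Cfsg.Agent.H15.SymBlocks.Rank
import Mathlib.GroupTheory.Perm.Centralizer

/-!
# Singular values and the cycle subgroup of an element of prime order

A character of positive weight is nonzero at some `p`-singular element.  For `z` of order `p` the
powers of its cycles generate a normal elementary abelian subgroup of its centralizer.
-/

set_option linter.unusedSectionVars false

namespace Cfsg.Agent.H15.SymBlocks

open MvPolynomial Finset
open scoped Nat

variable {σ : Type} [Fintype σ] [DecidableEq σ] {N p : ℕ}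

theorem exists_singular_ne_zero [hp : Fact p.Prime] {γ : Fin N → ℕ}
    (hγ : γ ∈ tup N (lvl N (Fintype.card σ))) (hi : Function.Injective γ) (hw : 0 < wt p γ) :
    ∃ y : Equiv.Perm σ, p ∣ orderOf y ∧ chi N γ y ≠ 0 := by
  classical
  obtain ⟨m, hm⟩ : ∃ m, p = m + 1 := ⟨p - 1, by have := hp.out.pos; omega⟩
  have hpn : p ≤ Fintype.card σ :=
    (Nat.le_mul_of_pos_right p hw).trans (mul_wt_le hp.out.pos hγ hi)
  set r := Fintype.card σ - p with hr
  have hcard : Fintype.card (Fin (m + 1) ⊕ Fin r) = Fintype.card σ := by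
    rw [Fintype.card_sum, Fintype.card_fin, Fintype.card_fin]
    omega
  let e : (Fin (m + 1) ⊕ Fin r) ≃ σ := Fintype.equivOfCardEq hcard
  have hu : p ∣ orderOf (finRotate (m + 1)) := dvd_orderOf_finRotate (by rw [hm])
  obtain ⟨j, hj, hinj⟩ := exists_lower hp.out.pos hi (by
    have := qsum_eq_core_add_wt hp.out.pos hi; omega)
  set β := lower p γ j with hβ
  have hlt : ∀ k, k ≠ j → γ k ≠ γ j - p := fun k hk h => hk (hinj (by simp [hβ, lower, hk, h]))
  by_contra hc
  push Not at hc
  have h0 : ∀ s : Equiv.Perm (Fin r), chi N γ (e.permCongr (Equiv.sumCongr (finRotate (m + 1)) s)) = 0 := by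
    intro s
    refine hc _ (hu.trans ((orderOf_dvd_sumCongr _ s).trans (dvd_of_eq ?_)))
    exact (MulEquiv.orderOf_eq e.permCongrHom _).symm
  have h1 : ∀ s : Equiv.Perm (Fin r),
      ∑ i, (if ∀ k, (Pi.single i p : Fin N → ℕ) k ≤ γ k then chi N (γ - Pi.single i p) s else 0) = 0 := by
    intro s
    have h := h0 s
    rw [chi_permCongr, chi_sumCongr,
      sum_fixCol_finRotate m (fun c => if ∀ k, c k ≤ γ k then chi N (γ - c) s else 0), ← hm] at h
    exact h
  have hlvl : ∀ i, p ≤ γ i → γ - Pi.single i p ∈ tup N (lvl N (Fintype.card (Fin r))) := by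
    intro i hi'
    rw [mem_tup, lvl, Fintype.card_fin]
    rw [mem_tup, lvl] at hγ
    have h2 : ∑ k, (γ - Pi.single i p : Fin N → ℕ) k + ∑ k, (Pi.single i p : Fin N → ℕ) k = ∑ k, γ k := by
      rw [← Finset.sum_add_distrib]
      refine Finset.sum_congr rfl fun k _ => Nat.sub_add_cancel ?_
      by_cases hk : k = i
      · subst hk; simpa using hi'
      · simp [hk]
    rw [Finset.sum_pi_single', if_pos (Finset.mem_univ i)] at h2
    omega
  have hβ' : β = γ - Pi.single j p := by
    funext k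
    by_cases hk : k = j
    · subst hk; simp [hβ, lower]
    · simp [hβ, lower, hk]
  have h2 : ∑ s : Equiv.Perm (Fin r), ∑ i,
      (if ∀ k, (Pi.single i p : Fin N → ℕ) k ≤ γ k then chi N (γ - Pi.single i p) s else 0) *
        chi N β s = ((Fintype.card (Fin r))! : ℂ) := by
    rw [Finset.sum_comm, Finset.sum_eq_single j]
    · have hjle : ∀ k, (Pi.single j p : Fin N → ℕ) k ≤ γ k := fun k => by
        by_cases hk : k = j
        · subst hk; simpa using hj
        · simp [hk]
      simp only [if_pos hjle, ← hβ']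
      rw [sum_chi_mul_chi (hβ' ▸ hlvl j hj), coeff_alt_self hinj, mul_one]
    · intro i _ hij
      by_cases hile : ∀ k, (Pi.single i p : Fin N → ℕ) k ≤ γ k
      · simp only [if_pos hile]
        rw [sum_chi_mul_chi (hlvl i (by simpa using hile i)), coeff_alt_eq_zero, mul_zero]
        intro π hπ
        have hk := congrFun hπ (π.symm j)
        rw [Function.comp_apply, Equiv.apply_symm_apply, Pi.sub_apply,
          Pi.single_eq_of_ne hij.symm, Nat.sub_zero] at hk
        by_cases hkj : π.symm j = j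
        · rw [hkj] at hk
          have : β j = γ j - p := by simp [hβ, lower]
          have := hp.out.pos
          omega
        · rw [show β (π.symm j) = γ (π.symm j) by simp [hβ, lower, hkj]] at hk
          exact hkj (hi hk).symm
      · simp [if_neg hile]
    · simp
  simp only [← Finset.sum_mul, h1, zero_mul, Finset.sum_const_zero] at h2
  exact Nat.cast_ne_zero.2 (Nat.factorial_ne_zero _) h2.symm

section Cycles

/-- Elements acting on each orbit of `z` as a power of `z`. -/
def cycGroup (z : Equiv.Perm σ) : Subgroup (Equiv.Perm σ) where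
  carrier := {g | Commute g z ∧ ∀ a, ∃ k : ℤ, g a = (z ^ k) a}
  one_mem' := ⟨Commute.one_left z, fun a => ⟨0, by simp⟩⟩
  mul_mem' := fun {g h} hg hh => ⟨hg.1.mul_left hh.1, fun a => by
    obtain ⟨k, hk⟩ := hh.2 a
    obtain ⟨l, hl⟩ := hg.2 a
    refine ⟨k + l, ?_⟩
    rw [Equiv.Perm.mul_apply, hk, ← Equiv.Perm.mul_apply, (hg.1.zpow_right k).eq,
      Equiv.Perm.mul_apply, hl, zpow_add, Equiv.Perm.mul_apply]⟩
  inv_mem' := fun {g} hg => ⟨hg.1.inv_left, fun a => by
    obtain ⟨k, hk⟩ := hg.2 a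
    refine ⟨-k, ?_⟩
    rw [Equiv.Perm.inv_def, Equiv.symm_apply_eq, ← Equiv.Perm.mul_apply,
      (hg.1.zpow_right (-k)).eq, Equiv.Perm.mul_apply, hk, ← Equiv.Perm.mul_apply, ← zpow_add,
      neg_add_cancel, zpow_zero, Equiv.Perm.one_apply]⟩

theorem mem_cycGroup_self (z : Equiv.Perm σ) : z ∈ cycGroup z :=
  ⟨Commute.refl z, fun a => ⟨1, by rw [zpow_one]⟩⟩

theorem cycGroup_comm {z g h : Equiv.Perm σ} (hg : g ∈ cycGroup z) (hh : h ∈ cycGroup z) :
    g * h = h * g := by
  ext a
  obtain ⟨k, hk⟩ := hh.2 a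
  obtain ⟨l, hl⟩ := hg.2 a
  rw [Equiv.Perm.mul_apply, Equiv.Perm.mul_apply, hk, ← Equiv.Perm.mul_apply,
    (hg.1.zpow_right k).eq, Equiv.Perm.mul_apply, hl, ← Equiv.Perm.mul_apply h,
    (hh.1.zpow_right l).eq, Equiv.Perm.mul_apply, hk, ← Equiv.Perm.mul_apply, ← zpow_add,
    ← Equiv.Perm.mul_apply, ← zpow_add, add_comm]

theorem cycGroup_pow {z g : Equiv.Perm σ} {m : ℕ} (hz : z ^ m = 1) (hg : g ∈ cycGroup z) :
    g ^ m = 1 := by
  ext a
  obtain ⟨k, hk⟩ := hg.2 a
  have h : ∀ i : ℕ, (g ^ i) a = (z ^ (k * i)) a := by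
    intro i
    induction i with
    | zero => simp
    | succ i ih =>
      rw [pow_succ', Equiv.Perm.mul_apply, ih, ← Equiv.Perm.mul_apply, (hg.1.zpow_right _).eq,
        Equiv.Perm.mul_apply, hk, ← Equiv.Perm.mul_apply, ← zpow_add]
      congr 1
      push_cast
      ring_nf
  rw [h m, mul_comm k, zpow_mul, zpow_natCast, hz, one_zpow]

theorem cycGroup_conj {z g c : Equiv.Perm σ} (hc : Commute c z) (hg : g ∈ cycGroup z) :
    c * g * c⁻¹ ∈ cycGroup z := by
  refine ⟨(hc.mul_left hg.1).mul_left hc.inv_left, fun a => ?_⟩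
  obtain ⟨k, hk⟩ := hg.2 (c⁻¹ a)
  refine ⟨k, ?_⟩
  rw [Equiv.Perm.mul_apply, Equiv.Perm.mul_apply, hk, ← Equiv.Perm.mul_apply,
    (hc.zpow_right k).eq, Equiv.Perm.mul_apply, ← Equiv.Perm.mul_apply c c⁻¹, mul_inv_cancel,
    Equiv.Perm.one_apply]

theorem card_support_of_orderOf [hp : Fact p.Prime] {z : Equiv.Perm σ} (hz : orderOf z = p) :
    ∃ c : ℕ, 0 < c ∧ z.support.card = p * c ∧ p ^ c ≤ Nat.card (cycGroup z) := by
  classical
  obtain ⟨n, hn⟩ := Equiv.Perm.cycleType_prime_order (σ := z) (hz.symm ▸ hp.out)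
  refine ⟨n + 1, n.succ_pos, ?_, ?_⟩
  · rw [← Equiv.Perm.sum_cycleType, hn, Multiset.sum_replicate, hz, smul_eq_mul, mul_comm]
  · let f : ((c : z.cycleFactorsFinset) → Subgroup.zpowers c.val) →* Equiv.Perm σ :=
      (Equiv.Perm.OnCycleFactors.kerParam z).comp (MonoidHom.inr _ _)
    have hf : Function.Injective f := fun a b h => congrArg Prod.snd
      (Equiv.Perm.OnCycleFactors.kerParam_injective z h)
    have hle : f.range ≤ cycGroup z := by
      rintro _ ⟨v, rfl⟩
      refine ⟨(Subgroup.mem_centralizer_singleton_iff.1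
        (Equiv.Perm.OnCycleFactors.kerParam_range_le_centralizer ⟨_, rfl⟩)), fun a => ?_⟩
      simp only [f, MonoidHom.comp_apply, MonoidHom.inr_apply,
        Equiv.Perm.OnCycleFactors.kerParam_apply]
      split_ifs with ha
      · obtain ⟨k, hk⟩ := Subgroup.mem_zpowers_iff.1 (v ⟨z.cycleOf a, ha⟩).2
        exact ⟨k, by rw [← hk, Equiv.Perm.cycleOf_zpow_apply_self]⟩
      · exact ⟨0, by simp⟩
    refine le_trans (le_of_eq ?_) (Subgroup.card_le_of_le hle)
    rw [Nat.card_congr (Equiv.ofInjective f hf).symm |> fun h => (show Nat.card f.range = _ from h),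
      Nat.card_eq_fintype_card, Fintype.card_pi, Finset.univ_eq_attach,
      z.cycleFactorsFinset.prod_attach (fun c => Fintype.card (Subgroup.zpowers c))]
    calc p ^ (n + 1) = z.cycleType.prod := by rw [hn, Multiset.prod_replicate, hz]
      _ = ∏ c ∈ z.cycleFactorsFinset, c.support.card := by
        rw [Equiv.Perm.cycleType, Finset.prod_map_val]; rfl
      _ = _ := Finset.prod_congr rfl fun c hc => by
        rw [Fintype.card_zpowers, (Equiv.Perm.mem_cycleFactorsFinset_iff.1 hc).1.orderOf]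

end Cycles

end Cfsg.Agent.H15.SymBlocks
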