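import Cfsg.Agent.H15.SymBlocks.Frob

/-!
# Splitting off part of a permutation

The Murnaghan-Nakayama type rule for `chi` on `u ⊕ s`, and the linear relations it gives at the
permutations not conjugate to any `u ⊕ s`.
-/

set_option linter.unusedSectionVars false

namespace Cfsg.Agent.H15.SymBlocks

open MvPolynomial Finset
open scoped Nat

variable {σ σ' τ ρ : Type} [Fintype σ] [DecidableEq σ] [Fintype σ'] [DecidableEq σ'] [Fintype τ]
  [DecidableEq τ] [Fintype ρ] [DecidableEq ρ] {N : ℕ}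

theorem pgen_permCongr (e : σ ≃ σ') (g : Equiv.Perm σ) : pgen N (e.permCongr g) = pgen N g := by
  refine Finset.sum_nbij' (fun f => f ∘ e) (fun f => f ∘ e.symm) ?_ ?_ ?_ ?_ ?_
  · intro f hf
    simp only [mem_fixCol] at hf ⊢
    funext i
    simpa [Equiv.permCongr_apply] using congrFun hf (e i)
  · intro f hf
    simp only [mem_fixCol] at hf ⊢
    funext i
    simpa [Equiv.permCongr_apply] using congrFun hf (e.symm i)
  · intro f _; funext i; simp
  · intro f _; funext i; simp
  · intro f _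
    congr 1
    funext k
    exact Finset.card_nbij' (fun i => e.symm i) (fun i => e i) (by intro i; simp) (by intro i; simp)
      (by intro i; simp) (by intro i; simp)

theorem chi_permCongr (e : σ ≃ σ') (γ : Fin N → ℕ) (g : Equiv.Perm σ) :
    chi N γ (e.permCongr g) = chi N γ g := by
  rw [chi, chi, pgen_permCongr]

theorem cnt_sum_elim (a : τ → Fin N) (b : ρ → Fin N) :
    cnt (Sum.elim a b) = cnt a + cnt b := by
  funext k
  simp only [cnt, Pi.add_apply]
  rw [← Fintype.card_subtype, ← Fintype.card_subtype, ← Fintype.card_subtype, ← Fintype.card_sum]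
  exact Fintype.card_congr (Equiv.subtypeSum)

theorem pgen_sumCongr (u : Equiv.Perm τ) (s : Equiv.Perm ρ) :
    pgen N (Equiv.sumCongr u s) = pgen N u * pgen N s := by
  rw [pgen, pgen, pgen, Finset.sum_mul_sum, ← Finset.sum_product']
  refine Finset.sum_nbij' (fun f => (f ∘ Sum.inl, f ∘ Sum.inr))
    (fun ab => Sum.elim ab.1 ab.2) ?_ ?_ ?_ ?_ ?_
  · intro f hf
    simp only [Finset.mem_product, mem_fixCol] at hf ⊢
    exact ⟨funext fun i => congrFun hf (Sum.inl i), funext fun i => congrFun hf (Sum.inr i)⟩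
  · intro ab hab
    simp only [Finset.mem_product, mem_fixCol] at hab ⊢
    funext i
    rcases i with i | i
    · exact congrFun hab.1 i
    · exact congrFun hab.2 i
  · intro f _; funext i; rcases i with i | i <;> rfl
  · intro ab _; rfl
  · intro f _
    rw [mono_mul, ← cnt_sum_elim, Sum.elim_comp_inl_inr]

theorem chi_sumCongr (γ : Fin N → ℕ) (u : Equiv.Perm τ) (s : Equiv.Perm ρ) :
    chi N γ (Equiv.sumCongr u s) =
      ∑ f ∈ fixCol (Fin N) u, if ∀ j, cnt f j ≤ γ j then chi N (γ - cnt f) s else 0 := by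
  rw [chi, pgen_sumCongr, mul_left_comm, pgen, Finset.sum_mul, coeff_sum]
  refine Finset.sum_congr rfl fun f _ => ?_
  rw [mono, coeff_monomial_mul', one_mul, ev_sub]
  exact if_congr ev_le rfl rfl

theorem lvl_add (N a b : ℕ) : lvl N (a + b) = a + lvl N b := by
  simp only [lvl]
  omega

theorem sum_filter_mul_chi_sumCongr (u : Equiv.Perm τ) (s : Equiv.Perm ρ)
    (P : (Fin N → ℕ) → Prop) [DecidablePred P]
    (hP : ∀ f ∈ fixCol (Fin N) u, ∀ γ, P (γ + cnt f) ↔ P γ) (F : (Fin N → ℕ) → ℂ) :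
    ∑ γ ∈ (tup N (lvl N (Fintype.card (τ ⊕ ρ)))).filter P, F γ * chi N γ (Equiv.sumCongr u s) =
      ∑ γ' ∈ (tup N (lvl N (Fintype.card ρ))).filter P,
        (∑ f ∈ fixCol (Fin N) u, F (γ' + cnt f)) * chi N γ' s := by
  classical
  simp only [chi_sumCongr, Finset.mul_sum, mul_ite, mul_zero, Finset.sum_mul]
  rw [Finset.sum_comm, Finset.sum_comm (s := (tup N (lvl N (Fintype.card ρ))).filter P)]
  refine Finset.sum_congr rfl fun f hf => ?_
  rw [← Finset.sum_filter]
  have hsum : ∑ j, cnt f j = Fintype.card τ := sum_cnt f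
  refine Finset.sum_nbij' (fun γ => γ - cnt f) (fun γ' => γ' + cnt f) ?_ ?_ ?_ ?_ ?_
  · intro γ hγ
    simp only [Finset.mem_filter, mem_tup] at hγ ⊢
    obtain ⟨⟨hγ, hPγ⟩, hle⟩ := hγ
    have he : γ - cnt f + cnt f = γ := funext fun j => Nat.sub_add_cancel (hle j)
    refine ⟨?_, (hP f hf _).1 (by rwa [he])⟩
    have h1 : ∑ j, (γ - cnt f) j + ∑ j, cnt f j = ∑ j, γ j := by
      rw [← Finset.sum_add_distrib]
      exact Finset.sum_congr rfl fun j _ => congrFun he j
    rw [hγ, hsum, Fintype.card_sum, lvl_add] at h1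
    omega
  · intro γ' hγ'
    simp only [Finset.mem_filter, mem_tup] at hγ' ⊢
    refine ⟨⟨?_, (hP f hf _).2 hγ'.2⟩, fun j => by simp⟩
    simp only [Pi.add_apply, Finset.sum_add_distrib, hγ'.1, hsum, Fintype.card_sum, lvl_add]
    omega
  · intro γ hγ
    simp only [Finset.mem_filter] at hγ
    exact funext fun j => Nat.sub_add_cancel (hγ.2 j)
  · intro γ' _
    exact funext fun j => by simp
  · intro γ hγ
    simp only [Finset.mem_filter] at hγ
    rw [show γ - cnt f + cnt f = γ from funext fun j => Nat.sub_add_cancel (hγ.2 j)]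

/-- **Linear relations** at permutations not conjugate to any `u ⊕ s`. -/
theorem sum_fixCol_chi_eq_zero (hN : Fintype.card (τ ⊕ ρ) ≤ N) (u : Equiv.Perm τ)
    {x : Equiv.Perm (τ ⊕ ρ)} (hx : ∀ s : Equiv.Perm ρ, ¬ IsConj x (Equiv.sumCongr u s))
    {γ' : Fin N → ℕ} (hγ' : γ' ∈ tup N (lvl N (Fintype.card ρ))) :
    ∑ f ∈ fixCol (Fin N) u, chi N (γ' + cnt f) x = 0 := by
  classical
  let G : (Fin N → ℕ) → ℂ := fun γ => ∑ f ∈ fixCol (Fin N) u, chi N (γ + cnt f) x
  have hG : IsAlt G := by
    intro γ π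
    simp only [G, Finset.mul_sum]
    refine Finset.sum_nbij' (fun f => π ∘ f) (fun f => π.symm ∘ f) ?_ ?_ ?_ ?_ ?_
    · intro f hf
      simp only [mem_fixCol] at hf ⊢
      rw [Function.comp_assoc, hf]
    · intro f hf
      simp only [mem_fixCol] at hf ⊢
      rw [Function.comp_assoc, hf]
    · intro f _; funext i; simp
    · intro f _; funext i; simp
    · intro f _
      rw [← chi_comp]
      congr 1
      funext j
      simp [cnt]
  have h0 : ∀ s : Equiv.Perm ρ,
      ∑ γ ∈ tup N (lvl N (Fintype.card ρ)), G γ * chi N γ s = 0 := by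
    intro s
    have h1 := sum_filter_mul_chi_sumCongr u s (fun _ => True) (fun _ _ _ => Iff.rfl)
      (fun γ => chi N γ x)
    simp only [Finset.filter_true_of_mem (fun _ _ => trivial), sum_tup_chi_mul_chi hN (hx s)] at h1
    exact h1.symm
  have h2 : ((Fintype.card ρ)! : ℂ) * ((N ! : ℂ) * G γ') = 0 := by
    calc ((Fintype.card ρ)! : ℂ) * ((N ! : ℂ) * G γ')
        = ∑ γ ∈ tup N (lvl N (Fintype.card ρ)),
            (∑ s : Equiv.Perm ρ, chi N γ s * chi N γ' s) * G γ := by
          rw [← sum_coeff_alt_mul hG hγ', Finset.mul_sum]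
          exact Finset.sum_congr rfl fun γ hγ => by rw [sum_chi_mul_chi hγ γ', mul_assoc]
      _ = ∑ s : Equiv.Perm ρ, chi N γ' s *
            ∑ γ ∈ tup N (lvl N (Fintype.card ρ)), G γ * chi N γ s := by
          simp only [Finset.sum_mul, Finset.mul_sum]
          rw [Finset.sum_comm]
          exact Finset.sum_congr rfl fun _ _ => Finset.sum_congr rfl fun _ _ => by ring
      _ = 0 := by simp [h0]
  exact ((mul_eq_zero.1 h2).resolve_left (Nat.cast_ne_zero.2 (Nat.factorial_ne_zero _))) |>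
    mul_eq_zero.1 |>.resolve_left (Nat.cast_ne_zero.2 (Nat.factorial_ne_zero _))

theorem orderOf_dvd_sumCongr (u : Equiv.Perm τ) (s : Equiv.Perm ρ) :
    orderOf u ∣ orderOf (Equiv.sumCongr u s : Equiv.Perm (τ ⊕ ρ)) := by
  refine dvd_trans ?_ (dvd_of_eq (orderOf_injective (Equiv.Perm.sumCongrHom τ ρ)
    Equiv.Perm.sumCongrHom_injective (u, s)).symm)
  rw [Prod.orderOf]
  exact Nat.dvd_lcm_left _ _

theorem not_isConj_sumCongr {p : ℕ} {u : Equiv.Perm τ} (hu : p ∣ orderOf u)
    {x : Equiv.Perm (τ ⊕ ρ)} (hx : ¬ p ∣ orderOf x) (s : Equiv.Perm ρ) :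
    ¬ IsConj x (Equiv.sumCongr u s) := fun h => by
  obtain ⟨c, hc⟩ := isConj_iff.1 h
  refine hx (hu.trans ((orderOf_dvd_sumCongr u s).trans (dvd_of_eq ?_)))
  rw [← hc]
  exact orderOf_injective (MulAut.conj c).toMonoidHom (MulAut.conj c).injective x

theorem dvd_cnt_of_fpf {p : ℕ} [Fact p.Prime] {z : Equiv.Perm σ} (hz : z ^ p = 1)
    (hfpf : ∀ i, z i ≠ i) {f : σ → Fin N} (hf : f ∘ z = f) (j : Fin N) : p ∣ cnt f j := by
  classical
  by_contra hd
  have hmem : ∀ i, (f (z i) = j ↔ f i = j) := fun i => by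
    rw [show f (z i) = f i from congrFun hf i]
  let w : Equiv.Perm {i // f i = j} := z.subtypePerm hmem
  have hw : w ^ p ^ 1 = 1 := by
    rw [pow_one, Equiv.Perm.subtypePerm_pow]
    ext i
    simp [hz]
  obtain ⟨a, ha⟩ := Equiv.Perm.exists_fixed_point_of_prime
    (by rwa [Fintype.card_subtype]) hw
  exact hfpf a (congrArg Subtype.val ha)

/-- A `p`-singular permutation splits off a part whose fixed colourings have all multiplicities
divisible by `p`. -/
theorem exists_split {p : ℕ} [hp : Fact p.Prime] (N : ℕ) {y : Equiv.Perm σ}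
    (hy : p ∣ orderOf y) :
    ∃ (P : σ → Prop) (_ : DecidablePred P) (u : Equiv.Perm {a // P a})
      (s : Equiv.Perm {a // ¬ P a}),
      y = (Equiv.sumCompl P).permCongr (Equiv.sumCongr u s) ∧ p ∣ orderOf u ∧
        ∀ f ∈ fixCol (Fin N) u, ∀ j, p ∣ cnt f j := by
  classical
  set z := y ^ (orderOf y / p) with hz
  have hzo : orderOf z = p := orderOf_pow_orderOf_div (orderOf_pos y).ne' hy
  have hcomm : Commute y z := Commute.self_pow _ _
  have hmem : ∀ a, z (y a) ≠ y a ↔ z a ≠ a := fun a => by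
    rw [show z (y a) = y (z a) from (Equiv.ext_iff.1 hcomm.eq a).symm]
    exact y.injective.ne_iff
  have hmem' : ∀ a, ¬ (z (y a) ≠ y a) ↔ ¬ z a ≠ a := fun a => not_congr (hmem a)
  refine ⟨fun a => z a ≠ a, inferInstance, y.subtypePerm hmem,
    y.subtypePerm (p := fun a => ¬ z a ≠ a) hmem', ?_, ?_, ?_⟩
  · ext a
    by_cases h : z a = a
    · have h' : ¬ z a ≠ a := not_not.2 h
      rw [Equiv.permCongr_apply, Equiv.sumCompl_symm_apply_of_neg (p := fun a => z a ≠ a) h']
      rfl
    · have h' : z a ≠ a := h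
      rw [Equiv.permCongr_apply, Equiv.sumCompl_symm_apply_of_pos (p := fun a => z a ≠ a) h']
      rfl
  · set u : Equiv.Perm {a // z a ≠ a} := y.subtypePerm hmem
    have hne : u ^ (orderOf y / p) ≠ 1 := by
      intro h
      obtain ⟨a, ha⟩ : ∃ a, z a ≠ a := by
        by_contra hc
        simp only [ne_eq, not_exists, not_not] at hc
        have : z = 1 := Equiv.ext hc
        rw [this, orderOf_one] at hzo
        exact hp.out.ne_one hzo.symm
      have h2 := congrArg (fun g : Equiv.Perm {a // z a ≠ a} => ((g ⟨a, ha⟩ : {a // z a ≠ a}) : σ)) h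
      simp [u, ← hz] at h2
      exact ha h2
    have h1 : (u ^ (orderOf y / p)) ^ p = 1 := by
      have h3 : (y ^ (orderOf y / p)) ^ p = 1 := by rw [← hz, ← hzo, pow_orderOf_eq_one]
      rw [← pow_mul] at h3 ⊢
      ext a
      simp [u, h3]
    rw [← orderOf_eq_prime h1 hne]
    exact orderOf_pow_dvd _
  · intro f hf j
    rw [mem_fixCol] at hf
    set u : Equiv.Perm {a // z a ≠ a} := y.subtypePerm hmem
    have hpow : ∀ k, f ∘ ⇑(u ^ k) = f := by
      intro k
      induction k with
      | zero => rfl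
      | succ k ih => rw [pow_succ, Equiv.Perm.coe_mul, ← Function.comp_assoc, ih, hf]
    refine dvd_cnt_of_fpf (z := u ^ (orderOf y / p)) ?_ ?_ (hpow _) j
    · have h3 : (y ^ (orderOf y / p)) ^ p = 1 := by rw [← hz, ← hzo, pow_orderOf_eq_one]
      rw [← pow_mul] at h3 ⊢
      ext a
      simp [u, h3]
    · intro i h
      refine i.2 ?_
      have h2 := congrArg Subtype.val h
      simpa [u, ← hz] using h2

theorem fixCol_finRotate (m : ℕ) :
    fixCol (Fin N) (finRotate (m + 1)) = univ.image fun j : Fin N => fun _ : Fin (m + 1) => j := by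
  classical
  ext f
  simp only [mem_fixCol, Finset.mem_image, Finset.mem_univ, true_and]
  refine ⟨fun h => ⟨f 0, ?_⟩, ?_⟩
  · funext i
    induction i using Fin.induction with
    | zero => rfl
    | succ i ih =>
      rw [ih]
      have h1 := congrFun h i.castSucc
      rw [Function.comp_apply, finRotate_apply, Fin.coeSucc_eq_succ] at h1
      exact h1.symm
  · rintro ⟨j, rfl⟩
    rfl

theorem cnt_const (m : ℕ) (j : Fin N) : cnt (fun _ : Fin m => j) = Pi.single j m := by
  funext k
  by_cases h : k = j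
  · subst h
    simp [cnt]
  · simp [cnt, h, Ne.symm h]

theorem sum_fixCol_finRotate {A : Type*} [AddCommMonoid A] (m : ℕ) (F : (Fin N → ℕ) → A) :
    ∑ f ∈ fixCol (Fin N) (finRotate (m + 1)), F (cnt f) = ∑ j, F (Pi.single j (m + 1)) := by
  classical
  rw [fixCol_finRotate, Finset.sum_image fun a _ b _ h => congrFun h 0]
  simp only [cnt_const]

theorem dvd_orderOf_finRotate {p m : ℕ} [hp : Fact p.Prime] (hm : p ∣ m + 1) :
    p ∣ orderOf (finRotate (m + 1)) := by
  have h2 : 2 ≤ m + 1 := hp.out.two_le.trans (Nat.le_of_dvd m.succ_pos hm)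
  obtain ⟨k, hk⟩ := Nat.exists_eq_add_of_le h2
  rw [show m + 1 = k + 2 by omega] at hm ⊢
  rw [← Equiv.Perm.lcm_cycleType, cycleType_finRotate]
  simpa using hm

end Cfsg.Agent.H15.SymBlocks
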