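import Cfsg.Agent.H15.SymBlocks.AltDegree
import Cfsg.Agent.CharBasic.Kernel

/-!
# Weight at most two, and self-complementary tuples for the prime two
-/

set_option linter.unusedSectionVars false

namespace Cfsg.Agent.H15.SymBlocks

open Finset
open scoped Nat
open Cfsg.Agent

variable {σ : Type} [Fintype σ] [DecidableEq σ] {N p : ℕ}

/-- A set of excess at most one is given by its size and excess. -/
theorem eq_of_exc_le_one {A B : Finset ℕ} (hA : exc A ≤ 1) (hc : A.card = B.card)
    (he : exc A = exc B) : A = B := by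
  have hb : nparts (exc A) ≤ 1 := by
    rcases Nat.le_one_iff_eq_zero_or_eq_one.1 hA with e | e
    · rw [e, nparts_zero]
    · rw [e, nparts_one]
  set L := (A ∪ B).sup id + 1 with hL
  have hmem : ∀ C : Finset ℕ, C ⊆ A ∪ B → C.card = A.card → exc C = exc A →
      C ∈ excSets L A.card (exc A) := by
    intro C hC h1 h2
    rw [excSets, Finset.mem_filter, Finset.mem_powersetCard]
    exact ⟨⟨fun x hx => Finset.mem_range.2 (Nat.lt_succ_of_le (Finset.le_sup (f := id) (hC hx))),
      h1⟩, h2⟩
  exact Finset.card_le_one.1 ((card_excSets_le L A.card (exc A)).trans hb) A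
    (hmem A Finset.subset_union_left rfl rfl) B (hmem B Finset.subset_union_right hc.symm he.symm)

/-- For excess at most two the hook sum is the valuation of the factorial. -/
theorem hsum_eq_of_exc_le_two (hp : p.Prime) {b : ℕ} (hb : 0 < b) {A : Finset ℕ}
    (hA : ∀ x ∈ A, x < p ^ b) (he : exc A ≤ 2) :
    hsum p b A = ((exc A)!).factorization p := by
  have hn : ∑ q ∈ A, q = exc A + ∑ q ∈ Finset.range A.card, q :=
    (Nat.sub_add_cancel (sum_range_le_sum_set A)).symm
  have htup := mem_tup_orderEmb A rfl hn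
  rw [← Fintype.card_fin (exc A)] at htup
  obtain ⟨χ, ε, hε, h⟩ :=
    exists_irr_of_injective (σ := Fin (exc A)) htup (A.orderEmbOfFin rfl).injective
  have h1 := factorization_charDegree hp htup (A.orderEmbOfFin rfl).strictMono hε h hb
    fun j => hA _ (A.orderEmbOfFin_mem rfl j)
  rw [image_orderEmb, Fintype.card_fin] at h1
  have hcomm : ∀ a b : Equiv.Perm (Fin (exc A)), a * b = b * a := by
    generalize exc A = m at he ⊢
    interval_cases m <;> decide
  have hdeg : Cfsg.charDegree (χ : Equiv.Perm (Fin (exc A)) → ℂ) = 1 := by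
    have h2 := CharBasic.commutative_iff_forall_linear.1 hcomm χ
    rw [BlockBasic.apply_one_eq_charDegree χ] at h2
    exact_mod_cast h2
  rw [hdeg, Nat.factorization_one, Finsupp.zero_apply, zero_add] at h1
  exact h1

theorem factorization_two_factorial_lt : ∀ e : ℕ, 0 < e → (e !).factorization 2 < e := by
  intro e
  induction e using Nat.strong_induction_on with
  | _ e ih =>
    intro he
    have h := factorization_factorial_div Nat.prime_two e
    rcases Nat.eq_zero_or_pos (e / 2) with h0 | h0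
    · rw [h0, Nat.factorial_zero, Nat.factorization_one, Finsupp.zero_apply] at h
      omega
    · have := ih (e / 2) (Nat.div_lt_self he one_lt_two) h0
      omega

/-- A self-complementary tuple has equal excess on the two runners. -/
theorem exc_eq_of_isSelfComp (hN : 0 < N) {γ : Fin N → ℕ} (hi : Function.Injective γ)
    (h : IsSelfComp γ) : exc (runner 2 γ 1) = exc (runner 2 γ 0) :=
  not_not.1 fun e => not_isSelfComp_of_exc hN hi e h

theorem hookVal_two (n : ℕ) {γ : Fin N → ℕ} (hi : Function.Injective γ) :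
    hookVal 2 n γ = wt 2 γ + (hsum 2 (lvl N n + N + 1) (runner 2 γ 0) +
      hsum 2 (lvl N n + N + 1) (runner 2 γ 1)) := by
  rw [hookVal_eq Nat.prime_two hi, show (2 : ℕ) = 1 + 1 from rfl, Finset.sum_range_succ,
    Finset.sum_range_one]

theorem wt_two {γ : Fin N → ℕ} (hi : Function.Injective γ) :
    wt 2 γ = exc (runner 2 γ 0) + exc (runner 2 γ 1) := by
  rw [wt_eq_sum_exc two_pos hi, show (2 : ℕ) = 1 + 1 from rfl, Finset.sum_range_succ,
    Finset.sum_range_one]

/-- A self-complementary tuple of positive weight has less than the largest hook sum. -/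
theorem hookVal_self_lt (hN : 0 < N) {n : ℕ} {γ : Fin N → ℕ} (hγ : γ ∈ tup N (lvl N n))
    (hi : Function.Injective γ) (h : IsSelfComp γ) (hw : 0 < wt 2 γ) :
    hookVal 2 n γ + 1 ≤ wt 2 γ + ((wt 2 γ)!).factorization 2 := by
  have h0 := hsum_runner_le Nat.prime_two hγ 0
  have h1 := hsum_runner_le Nat.prime_two hγ 1
  have he := exc_eq_of_isSelfComp hN hi h
  rw [he] at h1
  rw [hookVal_two n hi]
  have hwt := wt_two (N := N) hi
  rw [he, ← two_mul] at hwt
  rw [hwt] at hw ⊢
  rw [factorization_mul_factorial Nat.prime_two]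
  have := factorization_two_factorial_lt (exc (runner 2 γ 0)) (by omega)
  omega

/-- Weight two: the hook sum is smallest exactly when both runners have excess one. -/
theorem hookVal_weight_two {n : ℕ} {γ : Fin N → ℕ} (hγ : γ ∈ tup N (lvl N n))
    (hi : Function.Injective γ) (hw : wt 2 γ = 2) :
    (exc (runner 2 γ 0) = 1 ∧ exc (runner 2 γ 1) = 1 ∧ hookVal 2 n γ = 2) ∨
      (exc (runner 2 γ 0) ≠ exc (runner 2 γ 1) ∧ hookVal 2 n γ = 3) := by
  have hwt := wt_two (N := N) hi
  rw [hw] at hwt
  have hb : ∀ r, exc (runner 2 γ r) ≤ 2 → hsum 2 (lvl N n + N + 1) (runner 2 γ r) =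
      ((exc (runner 2 γ r))!).factorization 2 := fun r hr =>
    hsum_eq_of_exc_le_two Nat.prime_two (by omega)
      (fun _ hx => lt_pow_of_mem_runner Nat.prime_two hγ hx) hr
  rw [hookVal_two n hi, hw, hb 0 (by omega), hb 1 (by omega)]
  have h2 : ((2 : ℕ)!).factorization 2 = 1 := Nat.prime_two.factorization_self
  have h1 : ((1 : ℕ)!).factorization 2 = 0 := by simp
  have h0 : ((0 : ℕ)!).factorization 2 = 0 := by simp
  obtain ⟨a, ha⟩ : ∃ a, exc (runner 2 γ 0) = a := ⟨_, rfl⟩
  obtain ⟨b, hb'⟩ : ∃ b, exc (runner 2 γ 1) = b := ⟨_, rfl⟩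
  rw [ha, hb'] at hwt ⊢
  obtain rfl : b = 2 - a := by omega
  have : a ≤ 2 := by omega
  interval_cases a
  · exact Or.inr ⟨by norm_num, by rw [h0, show (2 : ℕ) - 0 = 2 from rfl, h2]⟩
  · exact Or.inl ⟨rfl, rfl, by rw [show (2 : ℕ) - 1 = 1 from rfl, h1]⟩
  · exact Or.inr ⟨by norm_num, by rw [show (2 : ℕ) - 2 = 0 from rfl, h2, h0]⟩

end Cfsg.Agent.H15.SymBlocks
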