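import Cfsg.Agent.H15.SymBlocks.SelfCount
import Mathlib.Data.Nat.Choose.Factorization

/-!
# Hook valuations of sets of natural numbers

For a set `A` the sum over `k ≥ 1` of the weights modulo `p ^ k` is the `p`-valuation of the
quotient of `∏ x!` by the product of the differences, the product of the hook lengths.
-/

set_option linter.unusedSectionVars false

namespace Cfsg.Agent.H15.SymBlocks

open Finset
open scoped Nat

variable {p : ℕ}

/-- The product of the differences. -/
def delta (A : Finset ℕ) : ℕ := ∏ x ∈ A, ∏ y ∈ A.filter (· < x), (x - y)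

/-- The quotients of the elements with a given residue. -/
def runnerS (q : ℕ) (A : Finset ℕ) (r : ℕ) : Finset ℕ := (A.filter fun a => a % q = r).image (· / q)

/-- The sum of the quotients. -/
def qS (q : ℕ) (A : Finset ℕ) : ℕ := ∑ a ∈ A, a / q

/-- The least possible sum of quotients. -/
def coreS (q : ℕ) (A : Finset ℕ) : ℕ :=
  ∑ r ∈ Finset.range q, ∑ i ∈ Finset.range (A.filter fun a => a % q = r).card, i

/-- The weight of a set. -/
def wtS (q : ℕ) (A : Finset ℕ) : ℕ := qS q A - coreS q A

/-- The sum of the weights modulo all powers of `p` below `p ^ b`. -/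
def hsum (p b : ℕ) (A : Finset ℕ) : ℕ := ∑ k ∈ Finset.Ico 1 b, wtS (p ^ k) A

theorem injOn_div_mod (q : ℕ) (A : Finset ℕ) (r : ℕ) :
    Set.InjOn (· / q) (A.filter fun a => a % q = r : Finset ℕ) := by
  intro a ha b hb hab
  simp only [Finset.coe_filter, Set.mem_ofPred_eq] at ha hb
  rw [← Nat.mod_add_div a q, ← Nat.mod_add_div b q, ha.2, hb.2, show a / q = b / q from hab]

theorem card_runnerS (q : ℕ) (A : Finset ℕ) (r : ℕ) :
    (runnerS q A r).card = (A.filter fun a => a % q = r).card :=
  Finset.card_image_of_injOn (injOn_div_mod q A r)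

theorem qS_eq_sum {q : ℕ} (hq : 0 < q) (A : Finset ℕ) :
    qS q A = ∑ r ∈ Finset.range q, ∑ t ∈ runnerS q A r, t := by
  rw [qS, ← Finset.sum_fiberwise_of_maps_to (g := fun a => a % q)
    (fun a _ => Finset.mem_range.2 (Nat.mod_lt _ hq))]
  exact Finset.sum_congr rfl fun r _ => by rw [runnerS, Finset.sum_image (injOn_div_mod q A r)]

theorem coreS_eq_sum (q : ℕ) (A : Finset ℕ) :
    coreS q A = ∑ r ∈ Finset.range q, ∑ i ∈ Finset.range (runnerS q A r).card, i :=
  Finset.sum_congr rfl fun r _ => by rw [card_runnerS]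

theorem coreS_le_qS {q : ℕ} (hq : 0 < q) (A : Finset ℕ) : coreS q A ≤ qS q A := by
  rw [qS_eq_sum hq, coreS_eq_sum]
  exact Finset.sum_le_sum fun r _ => sum_range_le_sum_set _

theorem wtS_eq_sum_exc {q : ℕ} (hq : 0 < q) (A : Finset ℕ) :
    wtS q A = ∑ r ∈ Finset.range q, exc (runnerS q A r) := by
  rw [wtS, qS_eq_sum hq, coreS_eq_sum]
  simp only [exc]
  exact (Finset.sum_tsub_distrib _ fun r _ => sum_range_le_sum_set _).symm

theorem sum_card_filter_lt (A : Finset ℕ) :
    ∑ x ∈ A, (A.filter (· < x)).card = ∑ i ∈ Finset.range A.card, i := by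
  induction A using Finset.induction_on_max with
  | empty => simp
  | insert a s hlt ih =>
    have ha : a ∉ s := fun h => lt_irrefl a (hlt a h)
    rw [Finset.sum_insert ha, Finset.card_insert_of_notMem ha, Finset.sum_range_succ, ← ih, add_comm]
    congr 1
    · refine Finset.sum_congr rfl fun x hx => congrArg Finset.card ?_
      rw [Finset.filter_insert, if_neg (not_lt.2 (hlt x hx).le)]
    · rw [Finset.filter_insert, if_neg (lt_irrefl a), Finset.filter_true_of_mem hlt]

theorem coreS_eq_pairs {q : ℕ} (hq : 0 < q) (A : Finset ℕ) :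
    coreS q A = ∑ x ∈ A, ((A.filter (· < x)).filter fun y => q ∣ x - y).card := by
  rw [← Finset.sum_fiberwise_of_maps_to (g := fun a => a % q)
    (fun a _ => Finset.mem_range.2 (Nat.mod_lt _ hq)), coreS]
  refine Finset.sum_congr rfl fun r _ => ?_
  rw [← sum_card_filter_lt]
  refine Finset.sum_congr rfl fun x hx => congrArg Finset.card ?_
  ext y
  rw [Finset.mem_filter] at hx
  simp only [Finset.mem_filter]
  constructor
  · rintro ⟨⟨h1, h2⟩, h3⟩
    exact ⟨⟨h1, h3⟩, (Nat.modEq_iff_dvd' h3.le).1 (h2.trans hx.2.symm)⟩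
  · rintro ⟨⟨h1, h3⟩, h4⟩
    refine ⟨⟨h1, ?_⟩, h3⟩
    exact Eq.trans ((Nat.modEq_iff_dvd' h3.le).2 h4) hx.2

theorem delta_ne_zero (A : Finset ℕ) : delta A ≠ 0 :=
  Finset.prod_ne_zero_iff.2 fun x _ => Finset.prod_ne_zero_iff.2 fun y hy => by
    have := (Finset.mem_filter.1 hy).2
    omega

theorem factorization_delta (hp : p.Prime) {b : ℕ} {A : Finset ℕ} (hA : ∀ x ∈ A, x < p ^ b) :
    (delta A).factorization p = ∑ k ∈ Finset.Ico 1 b, coreS (p ^ k) A := by
  have hne : ∀ x : ℕ, ∀ y ∈ A.filter (· < x), x - y ≠ 0 := fun x y hy => by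
    have := (Finset.mem_filter.1 hy).2
    omega
  rw [delta, Nat.factorization_prod_apply fun x _ => Finset.prod_ne_zero_iff.2 (hne x),
    Finset.sum_congr rfl fun k _ => coreS_eq_pairs (pow_pos hp.pos k) A, Finset.sum_comm]
  refine Finset.sum_congr rfl fun x hx => ?_
  rw [Nat.factorization_prod_apply (hne x)]
  simp only [Finset.card_filter]
  rw [Finset.sum_comm]
  refine Finset.sum_congr rfl fun y hy => ?_
  rw [Nat.factorization_eq_card_pow_dvd_of_lt hp (Nat.pos_of_ne_zero (hne x y hy))
    (lt_of_le_of_lt (Nat.sub_le x y) (hA x hx)), Finset.card_filter]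

/-- The hook sum is the valuation of the factorials over the differences. -/
theorem hsum_add (hp : p.Prime) {b : ℕ} (hb : 0 < b) {A : Finset ℕ} (hA : ∀ x ∈ A, x < p ^ b) :
    hsum p b A + (delta A).factorization p = (∏ x ∈ A, x !).factorization p := by
  rw [factorization_delta hp hA, hsum, ← Finset.sum_add_distrib,
    Nat.factorization_prod_apply (fun x _ => Nat.factorial_ne_zero x)]
  have h : ∀ x ∈ A, (x !).factorization p = ∑ k ∈ Finset.Ico 1 b, x / p ^ k := by
    intro x hx
    refine Nat.factorization_factorial hp ?_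
    rcases Nat.eq_zero_or_pos x with rfl | hx0
    · simpa using hb
    · exact Nat.log_lt_of_lt_pow hx0.ne' (hA x hx)
  rw [Finset.sum_congr rfl h, Finset.sum_comm (s := A)]
  exact Finset.sum_congr rfl fun k _ => Nat.sub_add_cancel (coreS_le_qS (pow_pos hp.pos k) A)

theorem wtS_mul {q : ℕ} (hp : 0 < p) (hq : 0 < q) (A : Finset ℕ) :
    wtS (p * q) A = ∑ r ∈ Finset.range p, wtS q (runnerS p A r) := by
  have h1 : qS (p * q) A = ∑ r ∈ Finset.range p, qS q (runnerS p A r) := by
    rw [qS, ← Finset.sum_fiberwise_of_maps_to (g := fun a => a % p)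
      (fun a _ => Finset.mem_range.2 (Nat.mod_lt _ hp))]
    refine Finset.sum_congr rfl fun r _ => ?_
    rw [qS, runnerS, Finset.sum_image (injOn_div_mod p A r)]
    exact Finset.sum_congr rfl fun a _ => (Nat.div_div_eq_div_mul _ _ _).symm
  have h2 : coreS (p * q) A = ∑ r ∈ Finset.range p, coreS q (runnerS p A r) := by
    simp only [coreS]
    conv_rhs => rw [Finset.sum_sigma']
    refine Finset.sum_bij' (fun s _ => (⟨s % p, s / p⟩ : Σ _ : ℕ, ℕ))
      (fun x _ => x.1 + p * x.2) ?_ ?_ ?_ ?_ ?_
    · intro s hs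
      simp only [Finset.mem_range, Finset.mem_sigma] at hs ⊢
      exact ⟨Nat.mod_lt _ hp, Nat.div_lt_of_lt_mul hs⟩
    · rintro ⟨r, t⟩ hx
      simp only [Finset.mem_range, Finset.mem_sigma] at hx ⊢
      calc r + p * t < p + p * t := Nat.add_lt_add_right hx.1 _
        _ = p * (t + 1) := by ring
        _ ≤ p * q := Nat.mul_le_mul_left _ hx.2
    · intro s _
      exact Nat.mod_add_div s p
    · rintro ⟨r, t⟩ hx
      simp only [Finset.mem_range, Finset.mem_sigma] at hx
      simp [Nat.add_mul_mod_self_left, Nat.mod_eq_of_lt hx.1, Nat.add_mul_div_left _ _ hp,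
        Nat.div_eq_of_lt hx.1]
    · intro s hs
      rw [Finset.mem_range] at hs
      congr 2
      rw [runnerS, Finset.filter_image, Finset.card_image_of_injOn
        ((injOn_div_mod p A (s % p)).mono (Finset.coe_subset.2 (Finset.filter_subset _ _))),
        Finset.filter_filter]
      refine congrArg Finset.card (Finset.filter_congr fun a _ => ?_)
      have hkey : a % (p * q) = a % p + p * (a / p % q) := Nat.mod_mul
      have hs' : s = s % p + p * (s / p) := (Nat.mod_add_div s p).symm
      constructor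
      · intro h
        refine ⟨?_, ?_⟩
        · rw [← h, Nat.mod_mul_right_mod]
        · rw [← h, Nat.mod_mul_right_div_self]
      · rintro ⟨e1, e2⟩
        rw [hkey, e1, e2, Nat.mod_add_div]
  rw [wtS, h1, h2]
  exact (Finset.sum_tsub_distrib _ fun r _ => coreS_le_qS hq _).symm

/-- The hook sum splits over the runners. -/
theorem hsum_succ (hp : 0 < p) (b : ℕ) (hb : 0 < b) (A : Finset ℕ) :
    hsum p (b + 1) A = wtS p A + ∑ r ∈ Finset.range p, hsum p b (runnerS p A r) := by
  rw [hsum, Finset.sum_eq_sum_Ico_succ_bot (by omega), pow_one]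
  congr 1
  simp only [hsum]
  rw [Finset.sum_comm, ← Finset.sum_Ico_add' (fun k => wtS (p ^ k) A) 1 b 1]
  exact Finset.sum_congr rfl fun k _ => by rw [pow_succ', wtS_mul hp (pow_pos hp k)]

theorem delta_insert {A : Finset ℕ} {m : ℕ} (hm : m ∉ A) :
    delta (insert m A) = delta A * ∏ y ∈ A, Nat.dist m y := by
  rw [delta, Finset.prod_insert hm, Finset.filter_insert, if_neg (lt_irrefl m)]
  have h : ∀ x ∈ A, ∏ y ∈ (insert m A).filter (· < x), (x - y) =
      (if m < x then x - m else 1) * ∏ y ∈ A.filter (· < x), (x - y) := by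
    intro x _
    rw [Finset.filter_insert]
    split_ifs with hlt
    · rw [Finset.prod_insert (fun h => hm (Finset.mem_filter.1 h).1)]
    · rw [one_mul]
  rw [Finset.prod_congr rfl h, Finset.prod_mul_distrib, ← mul_assoc, mul_comm (delta A)]
  congr 1
  rw [Finset.prod_filter, ← Finset.prod_mul_distrib]
  refine Finset.prod_congr rfl fun y hy => ?_
  have hne : y ≠ m := fun e => hm (e ▸ hy)
  rcases lt_or_gt_of_ne hne with hlt | hlt
  · rw [if_pos hlt, if_neg (not_lt.2 hlt.le), mul_one, Nat.dist_eq_sub_of_le_right hlt.le]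
  · rw [if_neg (not_lt.2 hlt.le), if_pos hlt, one_mul, Nat.dist_eq_sub_of_le hlt.le]

theorem hsum_insert (hp : p.Prime) {b : ℕ} (hb : 0 < b) {A : Finset ℕ} {m : ℕ} (hm : m ∉ A)
    (hA : ∀ x ∈ insert m A, x < p ^ b) :
    hsum p b (insert m A) + (∏ y ∈ A, Nat.dist m y).factorization p =
      hsum p b A + (m !).factorization p := by
  have h1 := hsum_add hp hb hA
  have h2 := hsum_add hp hb (A := A) fun x hx => hA x (Finset.mem_insert_of_mem hx)
  have hne : ∏ y ∈ A, Nat.dist m y ≠ 0 := Finset.prod_ne_zero_iff.2 fun y hy e =>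
    hm (Nat.eq_of_dist_eq_zero e ▸ hy)
  rw [delta_insert hm, Nat.factorization_mul (delta_ne_zero A) hne, Finset.prod_insert hm,
    Nat.factorization_mul (Nat.factorial_ne_zero m)
      (Finset.prod_ne_zero_iff.2 fun x _ => Nat.factorial_ne_zero x),
    Finsupp.add_apply, Finsupp.add_apply] at h1
  omega

theorem prod_dist_range (m k : ℕ) (h : k ≤ m) :
    (∏ y ∈ Finset.range k, Nat.dist m y) * (m - k)! = m ! := by
  rw [Finset.prod_congr rfl (g := fun y => m - y) fun y hy => Nat.dist_eq_sub_of_le_right (by
    have := Finset.mem_range.1 hy; omega), ← Nat.descFactorial_eq_prod_range, mul_comm]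
  exact Nat.factorial_mul_descFactorial h

theorem prod_dist_range_add (m e : ℕ) :
    ∏ y ∈ (Finset.range (m + e + 1)).erase m, Nat.dist m y = m ! * e ! := by
  have hd : Disjoint (Finset.range m) (Finset.Ico (m + 1) (m + e + 1)) := by
    rw [Finset.disjoint_left]
    intro x hx hx'
    simp only [Finset.mem_range, Finset.mem_Ico] at hx hx'
    omega
  have hu : (Finset.range (m + e + 1)).erase m =
      Finset.range m ∪ Finset.Ico (m + 1) (m + e + 1) := by
    ext x
    simp only [Finset.mem_erase, Finset.mem_range, Finset.mem_union, Finset.mem_Ico]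
    omega
  rw [hu, Finset.prod_union hd]
  congr 1
  · have := prod_dist_range m m le_rfl
    rwa [Nat.sub_self, Nat.factorial_zero, mul_one] at this
  · rw [Finset.prod_Ico_eq_prod_range, show m + e + 1 - (m + 1) = e by omega,
      ← Finset.prod_range_add_one_eq_factorial]
    exact Finset.prod_congr rfl fun k _ => by
      rw [Nat.dist_eq_sub_of_le (by omega)]; omega

theorem hsum_range (hp : p.Prime) {b : ℕ} (hb : 0 < b) : ∀ k : ℕ, k ≤ p ^ b →
    hsum p b (Finset.range k) = 0
  | 0, _ => by
    have h := hsum_add hp hb (A := (∅ : Finset ℕ)) (by simp)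
    rw [Finset.range_zero]
    simpa [delta] using h
  | k + 1, hk => by
    have h := hsum_insert hp hb (A := Finset.range k) (m := k) (by simp) (fun x hx => by
      simp only [Finset.mem_insert, Finset.mem_range] at hx
      omega)
    have hd := prod_dist_range k k le_rfl
    rw [Nat.sub_self, Nat.factorial_zero, mul_one] at hd
    rw [hd, hsum_range hp hb k (by omega)] at h
    rw [Finset.range_add_one]
    omega

/-- One row. -/
def rowSet (k e : ℕ) : Finset ℕ := insert (k + e) (Finset.range k)

/-- One column. -/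
def colSet (a e : ℕ) : Finset ℕ := (Finset.range (a + e + 1)).erase a

/-- A row with one box below. -/
def hookSet (a w : ℕ) : Finset ℕ := insert (a + w) (colSet a 1)

theorem card_rowSet (k e : ℕ) : (rowSet k e).card = k + 1 := by
  rw [rowSet, Finset.card_insert_of_notMem (by simp), Finset.card_range]

theorem exc_rowSet (k e : ℕ) : exc (rowSet k e) = e := by
  rw [exc, card_rowSet, rowSet, Finset.sum_insert (by simp), Finset.sum_range_succ]
  omega

theorem card_colSet (a e : ℕ) : (colSet a e).card = a + e := by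
  rw [colSet, Finset.card_erase_of_mem (by simp), Finset.card_range]
  omega

theorem exc_colSet (a e : ℕ) : exc (colSet a e) = e := by
  have h : ∑ q ∈ colSet a e, q + a = ∑ q ∈ Finset.range (a + e + 1), q :=
    Finset.sum_erase_add _ _ (by simp)
  rw [exc, card_colSet]
  rw [Finset.sum_range_succ] at h
  omega

theorem hsum_rowSet (hp : p.Prime) {b : ℕ} (hb : 0 < b) {k e : ℕ} (h : k + e < p ^ b) :
    hsum p b (rowSet k e) = (e !).factorization p := by
  have h1 := hsum_insert hp hb (A := Finset.range k) (m := k + e) (by simp) (fun x hx => by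
    simp only [Finset.mem_insert, Finset.mem_range] at hx
    omega)
  have h2 := congrArg (fun t => t.factorization p) (prod_dist_range (k + e) k (by omega))
  have hne : ∏ y ∈ Finset.range k, Nat.dist (k + e) y ≠ 0 := fun e0 => by
    have := prod_dist_range (k + e) k (by omega)
    rw [e0, zero_mul] at this
    exact Nat.factorial_ne_zero _ this.symm
  simp only [Nat.factorization_mul hne (Nat.factorial_ne_zero _), Finsupp.add_apply,
    show k + e - k = e by omega] at h2
  rw [hsum_range hp hb k (by omega)] at h1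
  show hsum p b (insert (k + e) (Finset.range k)) = _
  omega

theorem hsum_colSet (hp : p.Prime) {b : ℕ} (hb : 0 < b) {a e : ℕ} (h : a + e < p ^ b) :
    hsum p b (colSet a e) = (e !).factorization p := by
  have hins : insert a (colSet a e) = Finset.range (a + e + 1) :=
    Finset.insert_erase (by simp)
  have h1 := hsum_insert hp hb (A := colSet a e) (m := a) (by simp [colSet]) (fun x hx => by
    rw [hins, Finset.mem_range] at hx
    omega)
  rw [hins, hsum_range hp hb _ (by omega), colSet, prod_dist_range_add,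
    Nat.factorization_mul (Nat.factorial_ne_zero a) (Nat.factorial_ne_zero e),
    Finsupp.add_apply] at h1
  rw [colSet]
  omega

theorem exc_hookSet {a w : ℕ} (hw : 2 ≤ w) : exc (hookSet a w) = w ∧ (hookSet a w).card = a + 2 := by
  have hnot : a + w ∉ colSet a 1 := by simp [colSet]; omega
  have hc : (hookSet a w).card = a + 2 := by
    rw [hookSet, Finset.card_insert_of_notMem hnot, card_colSet]
  refine ⟨?_, hc⟩
  have h := exc_colSet a 1
  have h2 := sum_range_le_sum_set (colSet a 1)
  rw [exc, card_colSet] at h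
  rw [card_colSet] at h2
  rw [exc, hc, hookSet, Finset.sum_insert hnot, Finset.sum_range_succ]
  omega

theorem hsum_hookSet (hp : p.Prime) {b : ℕ} (hb : 0 < b) {a w : ℕ} (hw : 2 ≤ w)
    (h : a + w < p ^ b) :
    hsum p b (hookSet a w) + (w - 1).factorization p = (w !).factorization p := by
  have hnot : a + w ∉ colSet a 1 := by simp [colSet]; omega
  have h1 := hsum_insert hp hb (A := colSet a 1) (m := a + w) hnot (fun x hx => by
    simp only [Finset.mem_insert, colSet, Finset.mem_erase, Finset.mem_range] at hx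
    omega)
  rw [hsum_colSet hp hb (by omega)] at h1
  have hd : (∏ y ∈ colSet a 1, Nat.dist (a + w) y) * (w * (w - 2)!) = (a + w)! := by
    rw [colSet, ← mul_assoc]
    conv_rhs => rw [← prod_dist_range (a + w) (a + 2) (by omega),
      ← Finset.prod_erase_mul (Finset.range (a + 2)) _ (show a ∈ Finset.range (a + 2) by simp),
      show a + w - (a + 2) = w - 2 by omega, Nat.dist_eq_sub_of_le_right (by omega : a ≤ a + w),
      show a + w - a = w by omega]
  have hne : ∏ y ∈ colSet a 1, Nat.dist (a + w) y ≠ 0 := fun e0 => by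
    rw [e0, zero_mul] at hd
    exact Nat.factorial_ne_zero _ hd.symm
  have hd' := congrArg (fun t => t.factorization p) hd
  rw [Nat.factorization_mul hne (mul_ne_zero (show w ≠ 0 by omega) (Nat.factorial_ne_zero _)),
    Finsupp.add_apply] at hd'
  have hw2 : w ! = w * (w - 1) * (w - 2)! := by
    obtain ⟨v, rfl⟩ : ∃ v, w = v + 2 := ⟨w - 2, by omega⟩
    rw [Nat.factorial_succ, Nat.factorial_succ, show v + 2 - 1 = v + 1 from rfl,
      show v + 2 - 2 = v by omega]
    ring
  have hw3 := congrArg (fun t => t.factorization p) hw2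
  simp only [Nat.factorization_mul (show w ≠ 0 by omega) (Nat.factorial_ne_zero _),
    Nat.factorization_mul (mul_ne_zero (show w ≠ 0 by omega) (show w - 1 ≠ 0 by omega))
      (Nat.factorial_ne_zero _),
    Nat.factorization_mul (show w ≠ 0 by omega) (show w - 1 ≠ 0 by omega),
    Finsupp.add_apply] at hd' hw3
  rw [Nat.factorial_one, Nat.factorization_one, Finsupp.zero_apply] at h1
  rw [hookSet]
  omega

end Cfsg.Agent.H15.SymBlocks
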